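import Groth.Agent.GrSeg54.SegObj
import Groth.Agent.GrMod19.Reg
import Mathlib.LinearAlgebra.Dimension.Finrank

/-!
Graded algebras over a field `k` with degree-zero part `k`.
-/

set_option autoImplicit false

universe u

open DirectSum GrLC

namespace Groth.Agent.GrSeg54

variable {k : Type u} [Field k] {R : Type u} [CommRing R] [Algebra k R]
  {𝒜 : ℤ → Submodule k R} [GradedAlgebra 𝒜]

/-- `k` maps to the degree-zero subring -/
noncomputable instance algDeg0 : Algebra k (deg0 𝒜) :=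
  ((algebraMap k R).codRestrict (deg0 𝒜) fun c => SetLike.algebraMap_mem_graded 𝒜 c).toAlgebra

theorem coe_algebraMap_deg0 (c : k) : ((algebraMap k (deg0 𝒜) c : deg0 𝒜) : R) = algebraMap k R c := rfl

instance towerDeg0 {M : Type u} [AddCommGroup M] [Module R M] [Module k M] [IsScalarTower k R M] :
    IsScalarTower k (deg0 𝒜) M :=
  IsScalarTower.of_algebraMap_smul fun c x => by
    show (algebraMap k R c) • x = c • x
    rw [algebraMap_smul]

theorem exists_algebraMap_eq (h0 : 𝒜 0 = Submodule.span k {(1 : R)}) {x : R} (hx : x ∈ 𝒜 0) :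
    ∃ c : k, algebraMap k R c = x := by
  rw [h0, Submodule.mem_span_singleton] at hx
  obtain ⟨c, rfl⟩ := hx
  exact ⟨c, Algebra.algebraMap_eq_smul_one c⟩

theorem algebraMap_deg0_surjective (h0 : 𝒜 0 = Submodule.span k {(1 : R)}) :
    Function.Surjective (algebraMap k (deg0 𝒜)) := fun x => by
  obtain ⟨c, hc⟩ := exists_algebraMap_eq h0 x.2
  exact ⟨c, Subtype.ext hc⟩

theorem algebraMap_deg0_bijective [Nontrivial R] (h0 : 𝒜 0 = Submodule.span k {(1 : R)}) :
    Function.Bijective (algebraMap k (deg0 𝒜)) :=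
  ⟨fun a b h => (algebraMap k R).injective (congrArg Subtype.val h), algebraMap_deg0_surjective h0⟩

/-- the rank over the degree-zero subring is the rank over `k` -/
theorem finrank_deg0_eq [Nontrivial R] (h0 : 𝒜 0 = Submodule.span k {(1 : R)}) (V : Type u) [AddCommGroup V]
    [Module (deg0 𝒜) V] [Module k V] [IsScalarTower k (deg0 𝒜) V] :
    Module.finrank (deg0 𝒜) V = Module.finrank k V := by
  have h := rank_eq_of_equiv_equiv (M := V) (M₁ := V) (algebraMap k (deg0 𝒜)) (AddEquiv.refl V)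
    (algebraMap_deg0_bijective h0) fun r m => by
      show r • m = algebraMap k (deg0 𝒜) r • m
      rw [algebraMap_smul]
  exact (congrArg Cardinal.toNat h).symm

/-- a piece as a `k`-subspace -/
noncomputable def pieceK (X : GMod.{u} 𝒜) (d : ℤ) : Submodule k X.carrier :=
  (comp 𝒜 X.gr d).restrictScalars k

theorem mem_pieceK {X : GMod.{u} 𝒜} {d : ℤ} {x : X.carrier} : x ∈ pieceK X d ↔ x ∈ X.gr d := Iff.rfl

theorem nonnegGr_of_bot (hpos : ∀ n : ℤ, n < 0 → 𝒜 n = ⊥) : GrMod19.NonnegGr 𝒜 := fun n hn x hx => by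
  rw [hpos n hn] at hx
  exact (Submodule.mem_bot k).1 hx

variable [IsNoetherianRing R]

/-- the torsion part of a bundled module -/
noncomputable abbrev quotGam (X : GMod.{u} 𝒜) (a : HomogeneousIdeal 𝒜) : GMod.{u} 𝒜 :=
  quotM X (GrMod19.isHomogeneous_gam X.gr a)

variable (m : HomogeneousIdeal 𝒜)

/-- the projection away from torsion -/
noncomputable def qgam (X : GMod.{u} 𝒜) : X.carrier →ₗ[R] (quotGam X m).carrier := (gam m.toIdeal X.carrier).mkQ

theorem qgam_gr (X : GMod.{u} 𝒜) : IsGrHom X.gr (quotGam X m).gr (qgam m X) := fun _ x hx => ⟨x, hx, rfl⟩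

/-- a map between torsion-free parts -/
noncomputable def qmap {X Y : GMod.{u} 𝒜} (f : X.carrier →ₗ[R] Y.carrier) :
    (quotGam X m).carrier →ₗ[R] (quotGam Y m).carrier :=
  Submodule.mapQ _ _ f fun _ hx => GrMod19.ChainMap.map_gam f _ hx

theorem qmap_qgam {X Y : GMod.{u} 𝒜} (f : X.carrier →ₗ[R] Y.carrier) (x : X.carrier) :
    qmap m f (qgam m X x) = qgam m Y (f x) := rfl

theorem qmap_gr {X Y : GMod.{u} 𝒜} {f : X.carrier →ₗ[R] Y.carrier} (hf : IsGrHom X.gr Y.gr f) :
    IsGrHom (quotGam X m).gr (quotGam Y m).gr (qmap m f) := by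
  rintro g _ ⟨x, hx, rfl⟩
  exact ⟨f x, hf g x hx, rfl⟩

theorem qgam_surjective (X : GMod.{u} 𝒜) : Function.Surjective (qgam m X) := Submodule.mkQ_surjective _

theorem qgam_eq_zero {X : GMod.{u} 𝒜} {x : X.carrier} (h : qgam m X x = 0) : x ∈ gam m.toIdeal X.carrier :=
  (Submodule.Quotient.mk_eq_zero _).1 h

theorem qmap_qmap {X Y Z : GMod.{u} 𝒜} (f : X.carrier →ₗ[R] Y.carrier) (g : Y.carrier →ₗ[R] Z.carrier)
    (h : ∀ x, g (f x) = 0) (u : (quotGam X m).carrier) : qmap m g (qmap m f u) = 0 := by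
  obtain ⟨x, rfl⟩ := qgam_surjective m X u
  rw [qmap_qgam, qmap_qgam, h, map_zero]

theorem allVan_quotGam (hpos : GrMod19.NonnegGr 𝒜) (hm : GrMod19.IsPlus m) (X : GMod.{u} 𝒜)
    (hX : IsStarInj 𝒜 X.gr) : AllVan m.toIdeal (quotGam X m).carrier := by
  obtain ⟨l, deg, g, hdeg, hg, hgen⟩ := GrMod19.exists_plus_gens hpos hm
  refine quot_gam_induction (fun Y => AllVan m.toIdeal Y.carrier) (fun Y _ => allVan_of_subsingleton _ _)
    (fun Y₁ Y₂ Y₃ f g S h1 h3 => allVan_ext S h1 h3) (fun Y p x hp hx hY => ?_) hdeg hg m hgen X hX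
  exact fun i => LC15.subsingleton_H_of_smul_bijective m.toIdeal (GrMod19.mem_plus_of_mem hm hp hx) hY i

variable {m}

/-- the punctured-spectrum data of one module -/
@[reducible]
noncomputable def punct₁ (hpos : GrMod19.NonnegGr 𝒜) (hm : GrMod19.IsPlus m) {X : GMod.{u} 𝒜}
    (E : StarInjRes 𝒜 X.gr) : Punct m X where
  A := E.X
  B n := quotGam (E.X n) m
  dA := E.d
  dB n := qmap m (E.d n)
  π n := qgam m (E.X n)
  ε := E.ε
  dB_gr n := qmap_gr m (E.d_grHom n)
  π_gr n := qgam_gr m _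
  ε_gr := E.ε_grHom
  dB_dB n y := qmap_qmap m _ _ (fun x => GrMod19.d_comp_d E n x) y
  comm n y := (qmap_qgam m (E.d n) y).symm
  π_surj n := qgam_surjective m _
  π_ker n y h := qgam_eq_zero m h
  ε_inj := E.ε_injective
  dA_ε := GrMod19.d_comp_ε E
  exact_zero y h := by
    have h' : y ∈ LinearMap.ker (E.d 0) := h
    rwa [E.exact_zero] at h'
  exact_succ n y h := by
    have h' : y ∈ LinearMap.ker (E.d (n + 1)) := h
    rwa [E.exact_succ] at h'
  allVan n := allVan_quotGam m hpos hm _ (E.starInj n)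

end Groth.Agent.GrSeg54
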