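import Groth.Agent.GrMod19.Les
import Groth.Agent.GrMod19.Res
import Groth.Agent.GrInj18.Basic
import Mathlib.RingTheory.Noetherian.Basic

/-!
The quotient of a *injective module by its torsion is built from modules on which a homogeneous
element of positive degree acts bijectively.
-/

set_option autoImplicit false

universe u

open DirectSum GrLC

namespace Groth.Agent.GrSeg54

variable {R : Type u} [CommRing R] [IsNoetherianRing R] {σ : Type u} [SetLike σ R] [AddSubgroupClass σ R]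
  {𝒜 : ℤ → σ} [GradedRing 𝒜]

/-- division by `x` in a *injective module, up to `x`-torsion -/
theorem exists_divide (X : GMod.{u} 𝒜) (hX : IsStarInj 𝒜 X.gr) (J : HomogeneousIdeal 𝒜) (c : ℕ) {x : R} {δ : ℤ}
    (hx : x ∈ 𝒜 δ) {d : ℤ} {e : X.carrier} (he : e ∈ X.gr d) (hk : ∀ r ∈ J.toIdeal ^ c, r • e = 0) :
    ∃ (g : X.carrier) (n : ℕ), g ∈ X.gr (d - δ) ∧ (∀ r ∈ J.toIdeal ^ c, r • g = 0) ∧
      x ^ n • (x • g - e) = 0 := by
  classical
  set Jc : Ideal R := J.toIdeal ^ c with hJc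
  let col : ℕ →o Ideal R :=
    ⟨fun n => Submodule.comap (LinearMap.mulRight R (x ^ n)) Jc, fun n m hnm r hr => by
      obtain ⟨l, rfl⟩ := Nat.exists_eq_add_of_le hnm
      have hr' : r * x ^ n ∈ Jc := hr
      show r * x ^ (n + l) ∈ Jc
      rw [pow_add, ← mul_assoc]
      exact Jc.mul_mem_right _ hr'⟩
  obtain ⟨n, hn⟩ := monotone_stabilizes_iff_noetherian.2 (inferInstance : IsNoetherian R R) col
  have hstab : ∀ r : R, r * x ^ (n + 1) ∈ Jc → r * x ^ n ∈ Jc := fun r hr => by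
    have h : r ∈ col (n + 1) := hr
    rwa [← hn (n + 1) (Nat.le_succ n)] at h
  have hval : ∀ r s : R, (r - s) * x ^ (n + 1) ∈ Jc → (r * x ^ n) • e = (s * x ^ n) • e := fun r s h => by
    rw [← sub_eq_zero, ← sub_smul, ← sub_mul]
    exact hk _ (hstab _ h)
  have hJh : Submodule.IsHomogeneous (Jc : Submodule R R) 𝒜 := fun i y hy => GrMod19.isHomogeneous_pow J c i hy
  have hxn : x ^ (n + 1) ∈ 𝒜 ((n + 1) • δ) := SetLike.pow_mem_graded (n + 1) hx
  let L : Submodule R R := R ∙ x ^ (n + 1) ⊔ Jc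
  have hL : L.IsHomogeneous 𝒜 :=
    GrInj18.isHomogeneous_sup 𝒜 (GrInj18.isHomogeneous_span_singleton 𝒜 𝒜 hxn) hJh
  have hrep : ∀ l : L, ∃ r : R, (l : R) - r * x ^ (n + 1) ∈ Jc := fun l => by
    obtain ⟨p, hp, q, hq, hpq⟩ := Submodule.mem_sup.1 l.2
    obtain ⟨r, rfl⟩ := Submodule.mem_span_singleton.1 hp
    exact ⟨r, by rw [← hpq, smul_eq_mul, add_sub_cancel_left]; exact hq⟩
  choose ρ hρ using hrep
  have hφ : ∀ (l : L) (r : R), (l : R) - r * x ^ (n + 1) ∈ Jc → (ρ l * x ^ n) • e = (r * x ^ n) • e :=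
    fun l r h => hval _ _ (by
      have := Jc.sub_mem h (hρ l)
      convert this using 1
      ring)
  let φ : L →ₗ[R] X.carrier :=
    { toFun := fun l => (ρ l * x ^ n) • e
      map_add' := fun l l' => by
        rw [hφ (l + l') (ρ l + ρ l'), add_mul, add_smul]
        have := Jc.add_mem (hρ l) (hρ l')
        convert this using 1
        rw [Submodule.coe_add]
        ring
      map_smul' := fun a l => by
        rw [hφ (a • l) (a * ρ l), RingHom.id_apply, smul_smul, mul_assoc]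
        have := Jc.mul_mem_left a (hρ l)
        convert this using 1
        rw [Submodule.coe_smul, smul_eq_mul]
        ring }
  have hdeg : IsGrHomDeg (GrInj18.subGr 𝒜 L) X.gr φ (d - δ) := fun i l hl => by
    have hl' : (l : R) ∈ 𝒜 i := hl
    show (ρ l * x ^ n) • e ∈ X.gr (i + (d - δ))
    rw [hφ l (GrInj18.cmp 𝒜 (i - (n + 1) • δ) (ρ l))]
    · have h1 : GrInj18.cmp 𝒜 (i - (n + 1) • δ) (ρ l) * x ^ n ∈ 𝒜 (i - (n + 1) • δ + n • δ) :=
        SetLike.mul_mem_graded (GrInj18.cmp_mem 𝒜 _ _) (SetLike.pow_mem_graded n hx)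
      have h2 := GrInj18.smul_mem_add 𝒜 X.gr h1 he
      rwa [show i - (n + 1) • δ + n • δ + d = i + (d - δ) by rw [succ_nsmul]; abel] at h2
    · have h1 : GrInj18.cmp 𝒜 i ((l : R) - ρ l * x ^ (n + 1)) ∈ Jc := hJh i (hρ l)
      rw [map_sub, GrInj18.cmp_of_mem 𝒜 hl', ← smul_eq_mul, GrInj18.cmp_smul_homog_right 𝒜 𝒜 i hxn,
        smul_eq_mul] at h1
      exact h1
  obtain ⟨h, hh, hhφ⟩ := GrMod19.exists_extend hX (GrInj18.gsub 𝒜 𝒜 hL) (GrInj18.gof 𝒜 𝒜) L.subtype
    (GrInj18.isGrHom_subtype 𝒜 L) L.injective_subtype φ (d - δ) hdeg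
  let h' : R →ₗ[R] X.carrier := h
  have happ : ∀ r : R, r • h' 1 = h' r := fun r => by rw [← map_smul, smul_eq_mul, mul_one]
  have hφh : ∀ l : L, h' l = (ρ l * x ^ n) • e := fun l => LinearMap.congr_fun hhφ l
  refine ⟨h' 1, n, ?_, fun r hr => ?_, ?_⟩
  · have := hh 0 (1 : R) (SetLike.one_mem_graded 𝒜)
    rwa [zero_add] at this
  · have hrL : r ∈ L := Submodule.mem_sup_right hr
    rw [happ, show r = ((⟨r, hrL⟩ : L) : R) from rfl, hφh, hφ ⟨r, hrL⟩ 0 (by simpa using hr), zero_mul, zero_smul]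
  · have hxL : x ^ (n + 1) ∈ L := Submodule.mem_sup_left (Submodule.mem_span_singleton_self _)
    have h1 : x ^ (n + 1) • h' 1 = (1 * x ^ n) • e := by
      rw [happ, show x ^ (n + 1) = ((⟨_, hxL⟩ : L) : R) from rfl, hφh, hφ ⟨_, hxL⟩ 1 (by simp)]
    rw [smul_sub, smul_smul, ← pow_succ, h1, one_mul, sub_self]

/-- a homogeneous submodule of a bundled graded module -/
noncomputable def subM (X : GMod.{u} 𝒜) {P : Submodule R X.carrier} (hP : P.IsHomogeneous X.gr) : GMod.{u} 𝒜 :=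
  GrInj18.gsub 𝒜 X.gr hP

/-- the quotient of a bundled graded module by a homogeneous submodule -/
noncomputable def quotM (X : GMod.{u} 𝒜) {P : Submodule R X.carrier} (hP : P.IsHomogeneous X.gr) : GMod.{u} 𝒜 :=
  GrInj18.gquot 𝒜 X.gr hP

/-- A property of graded modules holds for the torsion-free quotient of a *injective as soon as it is
stable under extensions, holds for zero and for modules with a bijective homogeneous element of
positive degree. -/
theorem quot_gam_induction (Q : GMod.{u} 𝒜 → Prop) (h0 : ∀ X : GMod.{u} 𝒜, Subsingleton X.carrier → Q X)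
    (hext : ∀ (X Y Z : GMod.{u} 𝒜) (f : X.carrier →ₗ[R] Y.carrier) (g : Y.carrier →ₗ[R] Z.carrier),
      GrMod19.Ses X.gr Y.gr Z.gr f g 0 → Q X → Q Z → Q Y)
    (hbij : ∀ (X : GMod.{u} 𝒜) (δ : ℤ) (x : R), 0 < δ → x ∈ 𝒜 δ →
      Function.Bijective (fun y : X.carrier => x • y) → Q X)
    {l : ℕ} {deg : Fin l → ℤ} {g : Fin l → R} (hdeg : ∀ b, 0 < deg b) (hg : ∀ b, g b ∈ 𝒜 (deg b))
    (a : HomogeneousIdeal 𝒜) (hgen : Ideal.span (Set.range g) = a.toIdeal)
    (X : GMod.{u} 𝒜) (hX : IsStarInj 𝒜 X.gr) :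
    Q (quotM X (GrMod19.isHomogeneous_gam X.gr a)) := by
  classical
  suffices key : ∀ (s : Finset (Fin l)) (b : HomogeneousIdeal 𝒜), b.toIdeal = Ideal.span (g '' s) →
      Q (quotM X (GrMod19.isHomogeneous_gam X.gr b)) from
    key Finset.univ a (by rw [Finset.coe_univ, Set.image_univ, hgen])
  intro s
  induction s using Finset.induction with
  | empty =>
    intro b hb
    refine h0 _ (Submodule.Quotient.subsingleton_iff.2 ?_)
    rw [eq_top_iff]
    intro e _
    refine ⟨1, fun r hr => ?_⟩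
    rw [pow_one, hb, Finset.coe_empty, Set.image_empty, Ideal.span_empty] at hr
    rw [(Submodule.mem_bot R).1 hr, zero_smul]
  | @insert i s _ ih =>
    intro b hb
    let J : HomogeneousIdeal 𝒜 := ⟨Ideal.span (g '' s), Ideal.homogeneous_span 𝒜 _ (by
      rintro _ ⟨j, -, rfl⟩
      exact ⟨_, hg j⟩)⟩
    have hJQ := ih J rfl
    let P := gam J.toIdeal X.carrier
    let P' := gam b.toIdeal X.carrier
    have hP : P.IsHomogeneous X.gr := GrMod19.isHomogeneous_gam X.gr J
    have hP' : P'.IsHomogeneous X.gr := GrMod19.isHomogeneous_gam X.gr b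
    have hJb : J.toIdeal ≤ b.toIdeal := by
      rw [hb]
      exact Ideal.span_mono (Set.image_mono (by simp))
    have hib : g i ∈ b.toIdeal := by
      rw [hb]
      exact Ideal.subset_span ⟨i, by simp, rfl⟩
    have hle : P' ≤ P := fun e ⟨c, hc⟩ => ⟨c, fun r hr => hc r (Ideal.pow_right_mono hJb c hr)⟩
    have hmemP' : ∀ (e : X.carrier) (c n : ℕ), (∀ r ∈ J.toIdeal ^ c, r • e = 0) → g i ^ n • e = 0 → e ∈ P' := by
      intro e c n hc hn
      refine ⟨c + n, fun r hr => ?_⟩
      have hbeq : b.toIdeal = J.toIdeal ⊔ Ideal.span {g i} := by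
        rw [hb, Finset.coe_insert, Set.image_insert_eq, Ideal.span_insert, sup_comm]
      rw [hbeq] at hr
      obtain ⟨p, hp, q, hq, rfl⟩ := Submodule.mem_sup.1 (Ideal.sup_pow_add_le_pow_sup_pow hr)
      rw [Ideal.span_singleton_pow, Ideal.mem_span_singleton'] at hq
      obtain ⟨q', rfl⟩ := hq
      rw [add_smul, hc p hp, mul_smul, hn, smul_zero, add_zero]
    let Y := quotM X hP'
    let S : Submodule R Y.carrier := P.map P'.mkQ
    have hS : S.IsHomogeneous Y.gr := GrInj18.isHomogeneous_map X.gr Y.gr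
      ((GrInj18.isGrHomDeg_zero_iff X.gr Y.gr).2 (GrInj18.isGrHom_mkQ X.gr P')) hP
    let Z := quotM X hP
    let π : Y.carrier →ₗ[R] Z.carrier := P'.mapQ P LinearMap.id hle
    have hses : GrMod19.Ses (subM Y hS).gr Y.gr Z.gr S.subtype π 0 :=
      { hf := (GrInj18.isGrHomDeg_zero_iff _ _).2 (GrInj18.isGrHom_subtype Y.gr S)
        hg := fun d y hy => by
          obtain ⟨e, he, rfl⟩ := hy
          exact ⟨e, he, rfl⟩
        inj := S.injective_subtype
        exact := fun y => by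
          induction y using Submodule.Quotient.induction_on with
          | _ e =>
            constructor
            · intro h
              exact ⟨⟨_, ⟨e, (Submodule.Quotient.mk_eq_zero P).1 h, rfl⟩⟩, rfl⟩
            · rintro ⟨⟨_, e', he', rfl⟩, h⟩
              rw [← h]
              exact (Submodule.Quotient.mk_eq_zero P).2 he'
        surj := fun z => by
          induction z using Submodule.Quotient.induction_on with
          | _ e => exact ⟨P'.mkQ e, rfl⟩ }
    refine hext _ _ _ _ _ hses (hbij _ _ (g i) (hdeg i) (hg i) ⟨fun u v huv => ?_, fun u => ?_⟩) hJQ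
    · obtain ⟨_, e, he, rfl⟩ := u
      obtain ⟨_, e', he', rfl⟩ := v
      have h1 : g i • e - g i • e' ∈ P' := by
        rw [← Submodule.Quotient.eq]
        exact congrArg Subtype.val huv
      refine Subtype.ext ((Submodule.Quotient.eq P').2 ?_)
      obtain ⟨c, hc⟩ := h1
      obtain ⟨c', hc'⟩ := P.sub_mem he he'
      refine hmemP' _ c' (c + 1) hc' ?_
      rw [pow_succ, mul_smul, smul_sub]
      exact hc _ (Ideal.pow_mem_pow hib c)
    · obtain ⟨_, e, he, rfl⟩ := u
      obtain ⟨c, hc⟩ := he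
      have hcmp : ∀ d : ℤ, ∃ g' ∈ P, g i • g' - GrInj18.cmp X.gr d e ∈ P' := fun d => by
        have hk : ∀ r ∈ J.toIdeal ^ c, r • GrInj18.cmp X.gr d e = 0 :=
          GrMod19.smul_cmp_eq_zero X.gr (GrMod19.isHomogeneous_pow J c) hc d
        obtain ⟨g', n, -, hg', hn⟩ := exists_divide X hX J c (hg i) (GrInj18.cmp_mem X.gr d e) hk
        exact ⟨g', ⟨c, hg'⟩, hmemP' _ c n (fun r hr => by
          rw [smul_sub, hk r hr, smul_comm, hg' r hr, smul_zero, sub_zero]) hn⟩
      choose g' hg'P hg' using hcmp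
      obtain ⟨t, ht⟩ := GrInj18.exists_sum_cmp X.gr e
      refine ⟨⟨P'.mkQ (∑ d ∈ t, g' d), _, sum_mem fun d _ => hg'P d, rfl⟩, Subtype.ext ((Submodule.Quotient.eq P').2 ?_)⟩
      show g i • (∑ d ∈ t, g' d) - e ∈ P'
      rw [Finset.smul_sum, ← ht, ← Finset.sum_sub_distrib]
      exact sum_mem fun d _ => hg' d

end Groth.Agent.GrSeg54
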