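import Groth.Agent.GrMod19.Van
import Groth.Agent.GrSeg54.Div

/-!
Isomorphisms between homogeneous pieces of graded local cohomology coming from short exact sequences.
-/

set_option autoImplicit false

universe u

open DirectSum GrLC

namespace Groth.Agent.GrSeg54

variable {R : Type u} [CommRing R] {σ : Type u} [SetLike σ R] [AddSubgroupClass σ R]
  {𝒜 : ℤ → σ} [GradedRing 𝒜]

/-- all local cohomology with support in `a` vanishes -/
def AllVan (a : Ideal R) (M : Type u) [AddCommGroup M] [Module R M] : Prop :=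
  ∀ i : ℕ, Subsingleton (LocCoh.H a i M)

variable [IsNoetherianRing R] {a : HomogeneousIdeal 𝒜}

theorem allVan_of_subsingleton (M : Type u) [AddCommGroup M] [Module R M] [Subsingleton M] (J : Ideal R) :
    AllVan J M := fun _ => LC15.subsingleton_H_of_subsingleton _ _

theorem allVan_ext {X Y Z : GMod.{u} 𝒜} {f : X.carrier →ₗ[R] Y.carrier} {g : Y.carrier →ₗ[R] Z.carrier} {e : ℤ}
    (S : GrMod19.Ses X.gr Y.gr Z.gr f g e) {J : Ideal R} (hX : AllVan J X.carrier) (hZ : AllVan J Z.carrier) :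
    AllVan J Y.carrier := fun i =>
  LC15.subsingleton_H_middle J i S.inj S.exact S.surj (hX i) (hZ i)

variable {M : Type u} [AddCommGroup M] [Module R M] {τ : Type u} [SetLike τ M] [AddSubgroupClass τ M]
  {ℳ : ℤ → τ} [Decomposition ℳ] [SetLike.GradedSMul 𝒜 ℳ]
  {N : Type u} [AddCommGroup N] [Module R N] {τ' : Type u} [SetLike τ' N] [AddSubgroupClass τ' N]
  {𝒩 : ℤ → τ'} [Decomposition 𝒩] [SetLike.GradedSMul 𝒜 𝒩]
  {L : Type u} [AddCommGroup L] [Module R L] {τ'' : Type u} [SetLike τ'' L] [AddSubgroupClass τ'' L]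
  {ℒ : ℤ → τ''} [Decomposition ℒ] [SetLike.GradedSMul 𝒜 ℒ]

theorem vanH_of_allVan (h : AllVan a.toIdeal M) (i : ℕ) (n : ℤ) : GrMod19.VanH a ℳ i n := fun E => by
  obtain ⟨e⟩ := GrMod19.nonempty_H_equiv E a i
  have := h i
  have := e.toEquiv.subsingleton
  exact (Submodule.eq_bot_iff _).2 fun y _ => Subsingleton.elim _ _

theorem gam_eq_bot_of_allVan (h : AllVan a.toIdeal M) : gam a.toIdeal M = ⊥ := by
  have := h 0
  rw [(LC15.H0equiv a.toIdeal M).toEquiv.subsingleton_congr, Submodule.subsingleton_iff_eq_bot] at this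
  exact this

variable (E : StarInjRes 𝒜 ℳ) (F : StarInjRes 𝒜 𝒩) (G : StarInjRes 𝒜 ℒ)

omit [IsNoetherianRing R] in
/-- a degree preserving map between cohomologies, on one piece -/
def pieceMap {i j : ℕ} (φ : E.H a i →ₗ[R] F.H a j) (hφ : ∀ n y, y ∈ E.Hcomp a i n → φ y ∈ F.Hcomp a j n) (n : ℤ) :
    E.Hcomp a i n →ₗ[deg0 𝒜] F.Hcomp a j n :=
  LinearMap.restrict (φ.restrictScalars (deg0 𝒜)) fun y hy => hφ n y hy

omit [IsNoetherianRing R] in
theorem pieceMap_coe {i j : ℕ} (φ : E.H a i →ₗ[R] F.H a j) (hφ : ∀ n y, y ∈ E.Hcomp a i n → φ y ∈ F.Hcomp a j n)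
    (n : ℤ) (y : E.Hcomp a i n) : (pieceMap E F φ hφ n y : F.H a j) = φ y.1 := rfl

omit [IsNoetherianRing R] in
theorem nonempty_pieceEquiv {i j : ℕ} (φ : E.H a i →ₗ[R] F.H a j)
    (hφ : ∀ n y, y ∈ E.Hcomp a i n → φ y ∈ F.Hcomp a j n) (n : ℤ)
    (hinj : ∀ y ∈ E.Hcomp a i n, φ y = 0 → y = 0) (hsurj : ∀ y ∈ F.Hcomp a j n, ∃ x ∈ E.Hcomp a i n, φ x = y) :
    Nonempty (E.Hcomp a i n ≃ₗ[deg0 𝒜] F.Hcomp a j n) :=
  ⟨LinearEquiv.ofBijective (pieceMap E F φ hφ n)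
    ⟨(injective_iff_map_eq_zero _).2 fun y hy => Subtype.ext (hinj y.1 y.2 (congrArg Subtype.val hy)),
      fun y => by
        obtain ⟨x, hx, hxy⟩ := hsurj y.1 y.2
        exact ⟨⟨x, hx⟩, Subtype.ext hxy⟩⟩⟩

variable {f : M →ₗ[R] N} {g : N →ₗ[R] L}

theorem nonempty_connEquiv (S : GrMod19.Ses ℳ 𝒩 ℒ f g 0) {i : ℕ} {n : ℤ} (h1 : GrMod19.VanH a 𝒩 i n)
    (h2 : GrMod19.VanH a 𝒩 (i + 1) n) :
    Nonempty (G.Hcomp a i n ≃ₗ[deg0 𝒜] E.Hcomp a (i + 1) n) := by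
  obtain ⟨F⟩ := GrInj18.nonempty_starInjRes 𝒜 𝒩
  obtain ⟨δ, hδ, -, hex2, hex3, -⟩ := GrMod19.exists_les E F G S a
  have hδ' : ∀ n y, y ∈ G.Hcomp a i n → δ i y ∈ E.Hcomp a (i + 1) n := fun n y hy => by
    have := hδ i n y hy
    rwa [neg_zero, add_zero] at this
  refine nonempty_pieceEquiv G E (δ i) hδ' n (fun y hy h => ?_) fun y hy => ?_
  · obtain ⟨x, hx, rfl⟩ := GrMod19.exists_Hcomp_preimage F a G (g := n)
      (GrMod19.hMap_deg (E := F) (F := G) a (GrMod19.isGrHomDeg_zero_iff.2 S.hg) i) (by rwa [add_zero])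
      ((hex2 i y).1 h)
    rw [h1 F, Submodule.mem_bot] at hx
    rw [hx, map_zero]
  · have hfy := GrMod19.hMap_mem_Hcomp₀ a E F S.hf hy
    rw [h2 F, Submodule.mem_bot] at hfy
    exact GrMod19.exists_Hcomp_preimage G a E (g := n) (hδ i) (by rwa [neg_zero, add_zero]) ((hex3 i y).1 hfy)

theorem nonempty_leftEquiv (S : GrMod19.Ses ℳ 𝒩 ℒ f g 0) {i : ℕ} {n : ℤ} (h1 : GrMod19.VanH a ℒ i n)
    (h2 : GrMod19.VanH a ℒ (i + 1) n) :
    Nonempty (E.Hcomp a (i + 1) n ≃ₗ[deg0 𝒜] F.Hcomp a (i + 1) n) := by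
  obtain ⟨G⟩ := GrInj18.nonempty_starInjRes 𝒜 ℒ
  obtain ⟨δ, hδ, hex1, -, hex3, -⟩ := GrMod19.exists_les E F G S a
  refine nonempty_pieceEquiv E F (GrMod19.hMap E F a f S.hf (i + 1))
    (fun n y hy => GrMod19.hMap_mem_Hcomp₀ a E F S.hf hy) n (fun y hy h => ?_) fun y hy => ?_
  · obtain ⟨x, hx, rfl⟩ := GrMod19.exists_Hcomp_preimage G a E (g := n) (hδ i) (by rwa [neg_zero, add_zero])
      ((hex3 i y).1 h)
    rw [h1 G, Submodule.mem_bot] at hx
    rw [hx, map_zero]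
  · have hgy := GrMod19.hMap_mem_Hcomp₀ a F G (GrMod19.isGrHomDeg_zero_iff.2 S.hg) hy
    rw [h2 G, Submodule.mem_bot] at hgy
    exact GrMod19.exists_Hcomp_preimage E a F (g := n) (GrMod19.hMap_deg (E := E) (F := F) a S.hf (i + 1))
      (by rwa [add_zero]) ((hex1 (i + 1) y).1 hgy)

theorem nonempty_rightEquiv (S : GrMod19.Ses ℳ 𝒩 ℒ f g 0) {i : ℕ} {n : ℤ} (h1 : GrMod19.VanH a ℳ i n)
    (h2 : GrMod19.VanH a ℳ (i + 1) n) :
    Nonempty (F.Hcomp a i n ≃ₗ[deg0 𝒜] G.Hcomp a i n) := by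
  obtain ⟨E⟩ := GrInj18.nonempty_starInjRes 𝒜 ℳ
  obtain ⟨δ, hδ, hex1, hex2, -, -⟩ := GrMod19.exists_les E F G S a
  refine nonempty_pieceEquiv F G (GrMod19.hMap F G a g (GrMod19.isGrHomDeg_zero_iff.2 S.hg) i)
    (fun n y hy => GrMod19.hMap_mem_Hcomp₀ a F G (GrMod19.isGrHomDeg_zero_iff.2 S.hg) hy) n
    (fun y hy h => ?_) fun y hy => ?_
  · obtain ⟨x, hx, rfl⟩ := GrMod19.exists_Hcomp_preimage E a F (g := n)
      (GrMod19.hMap_deg (E := E) (F := F) a S.hf i) (by rwa [add_zero]) ((hex1 i y).1 h)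
    rw [h1 E, Submodule.mem_bot] at hx
    rw [hx, map_zero]
  · have hdy : δ i y ∈ E.Hcomp a (i + 1) n := by
      have := hδ i n y hy
      rwa [neg_zero, add_zero] at this
    rw [h2 E, Submodule.mem_bot] at hdy
    exact GrMod19.exists_Hcomp_preimage F a G (g := n)
      (GrMod19.hMap_deg (E := F) (F := G) a (GrMod19.isGrHomDeg_zero_iff.2 S.hg) i) (by rwa [add_zero])
      ((hex2 i y).1 hdy)

variable (a ℳ) in
/-- the torsion part of one piece -/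
def gamComp (n : ℤ) : Submodule (deg0 𝒜) M :=
  comp 𝒜 ℳ n ⊓ (gam a.toIdeal M).restrictScalars (deg0 𝒜)

omit [IsNoetherianRing R] in
theorem nonempty_zeroEquiv (n : ℤ) : Nonempty (gamComp a ℳ n ≃ₗ[deg0 𝒜] E.Hcomp a 0 n) := by
  let f : gamComp a ℳ n →ₗ[deg0 𝒜] E.Hcomp a 0 n :=
    { toFun := fun m => ⟨GrMod19.zeroMap E a ⟨m.1, m.2.2⟩, GrMod19.zeroMap_mem E a m.2.1⟩
      map_add' := fun x y => Subtype.ext (by
        show GrMod19.zeroMap E a _ = GrMod19.zeroMap E a _ + GrMod19.zeroMap E a _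
        rw [← map_add]; rfl)
      map_smul' := fun r x => Subtype.ext (by
        show GrMod19.zeroMap E a _ = r • GrMod19.zeroMap E a _
        rw [← LinearMap.map_smul_of_tower]; rfl) }
  refine ⟨LinearEquiv.ofBijective f ⟨fun x y h => ?_, fun y => ?_⟩⟩
  · have := GrMod19.zeroMap_injective E a (congrArg Subtype.val h)
    exact Subtype.ext (congrArg Subtype.val this :)
  · obtain ⟨m, hm, hmy⟩ := GrMod19.exists_zeroMap_of_mem E a y.2
    exact ⟨⟨m.1, hm, m.2⟩, Subtype.ext hmy⟩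

end Groth.Agent.GrSeg54
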