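import Groth.Agent.GrSeg54.CMCrit
import Groth.Agent.GrSeg54.Pieces
import Groth.Agent.CAlg6.SegNorm
import Groth.Agent.GrSeg54.Field

/-!
Graded algebras over a field: Cohen–Macaulayness through graded local cohomology.
-/

set_option autoImplicit false

universe u

open DirectSum GrLC

namespace Groth.Agent.GrSeg54

section General

variable {R : Type u} [CommRing R] [IsNoetherianRing R] {σ : Type u} [SetLike σ R] [AddSubgroupClass σ R]
  {𝒜 : ℤ → σ} [GradedRing 𝒜] {M : Type u} [AddCommGroup M] [Module R M] {τ : Type u} [SetLike τ M]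
  [AddSubgroupClass τ M] {ℳ : ℤ → τ} [Decomposition ℳ] [SetLike.GradedSMul 𝒜 ℳ] (a : HomogeneousIdeal 𝒜)

/-- vanishing of local cohomology is vanishing of all its pieces -/
theorem subsingleton_H_iff (i : ℕ) : Subsingleton (LocCoh.H a.toIdeal i M) ↔ ∀ n, GrMod19.VanH a ℳ i n := by
  refine ⟨fun h n E => ?_, fun h => ?_⟩
  · obtain ⟨e⟩ := GrMod19.nonempty_H_equiv E a i
    have := e.toEquiv.subsingleton
    exact (Submodule.eq_bot_iff _).2 fun y _ => Subsingleton.elim _ _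
  · obtain ⟨E⟩ := GrInj18.nonempty_starInjRes 𝒜 ℳ
    obtain ⟨e⟩ := GrMod19.nonempty_H_equiv E a i
    have : Subsingleton (E.H a i) := by
      let := (GrMod19.isInternal_Hgr E a i).chooseDecomposition
      refine subsingleton_of_forall_eq 0 fun y => GrMod19.eq_of_cmp (E.Hgr a i) fun n => ?_
      rw [map_zero]
      have h1 : GrMod19.cmp (E.Hgr a i) n y ∈ E.Hgr a i n := GrMod19.cmp_mem (E.Hgr a i) n y
      rw [GrMod19.Hcomp_eq_bot_iff E a |>.1 (h n E), AddSubgroup.mem_bot] at h1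
      exact h1
    exact e.symm.toEquiv.subsingleton

end General

variable {k : Type u} [Field k] {R : Type u} [CommRing R] [Algebra k R]
  {𝒜 : ℤ → Submodule k R} [GradedAlgebra 𝒜]

/-- the pieces of a graded algebra as additive subgroups -/
@[reducible]
noncomputable def gradedRingN : GradedRing (GrMod19.selfN 𝒜) :=
  { GrMod19.selfN_dec 𝒜 with
    one_mem := (SetLike.GradedOne.one_mem : (1 : R) ∈ 𝒜 0)
    mul_mem := fun _ _ _ _ ha hb => SetLike.mul_mem_graded (A := 𝒜) ha hb }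

theorem cmp_selfN (n : ℤ) (x : R) : GrMod19.cmp (GrMod19.selfN 𝒜) n x = GrMod19.cmp 𝒜 n x := by
  induction x using GrMod19.piece_induction 𝒜 with
  | h0 => simp
  | hadd a b ha hb => rw [map_add, map_add, ha, hb]
  | hp j a ha =>
    have ha' : a ∈ GrMod19.selfN 𝒜 j := ha
    rcases eq_or_ne j n with rfl | hne
    · rw [GrMod19.cmp_of_mem 𝒜 ha, GrMod19.cmp_of_mem _ ha']
    · rw [GrMod19.cmp_of_ne 𝒜 ha hne, GrMod19.cmp_of_ne _ ha' hne]

theorem isHomogeneous_selfN_iff (J : Ideal R) :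
    letI := gradedRingN (𝒜 := 𝒜)
    J.IsHomogeneous (GrMod19.selfN 𝒜) ↔ J.IsHomogeneous 𝒜 := by
  letI := gradedRingN (𝒜 := 𝒜)
  refine ⟨fun h i x hx => ?_, fun h i x hx => ?_⟩
  · show GrMod19.cmp 𝒜 i x ∈ J
    rw [← cmp_selfN]
    exact h i hx
  · show GrMod19.cmp (GrMod19.selfN 𝒜) i x ∈ J
    rw [cmp_selfN]
    exact h i hx

variable {M : Type u} [AddCommGroup M] [Module R M] {τ : Type u} [SetLike τ M] [AddSubgroupClass τ M]
  (ℳ : ℤ → τ) [Decomposition ℳ] [SetLike.GradedSMul 𝒜 ℳ]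

variable (hpos : ∀ n : ℤ, n < 0 → 𝒜 n = ⊥) (h0 : 𝒜 0 = Submodule.span k {(1 : R)})
  {mR : HomogeneousIdeal 𝒜} (hmR : GrMod19.IsPlus mR)

include hpos h0 hmR in
theorem isMaximal_plus [Nontrivial R] : mR.toIdeal.IsMaximal := by
  rw [hmR]
  exact CAlg6.Seg.plus_isMaximal hpos h0

include hpos h0 hmR in
theorem le_plus_of_homogeneous {J : Ideal R} (hJ : J.IsHomogeneous 𝒜) (hne : J ≠ ⊤) : J ≤ mR.toIdeal := by
  rw [hmR]
  exact CAlg6.Seg.le_plus hpos h0 hJ hne

include hpos h0 hmR ℳ in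
/-- the Cohen–Macaulay criterion -/
theorem cmAll_iff_vanH [IsNoetherianRing R] [Nontrivial M] [Module.Finite R M] {d : ℕ}
    (hd : Module.supportDim R M = d) :
    CMCrit.CMAll R M ↔ ∀ i, i < d → ∀ n, GrMod19.VanH mR ℳ i n := by
  have : Nontrivial R := Module.nontrivial R M
  letI := gradedRingN (𝒜 := 𝒜)
  let 𝔪 : HomogeneousIdeal (GrMod19.selfN 𝒜) := ⟨mR.toIdeal, (isHomogeneous_selfN_iff _).2 mR.isHomogeneous⟩
  haveI : 𝔪.toIdeal.IsMaximal := isMaximal_plus hpos h0 hmR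
  haveI : SetLike.GradedSMul (GrMod19.selfN 𝒜) (GrMod19.selfN ℳ) :=
    ⟨fun {i j} c m hc hm => SetLike.GradedSMul.smul_mem (A := 𝒜) (B := ℳ) hc hm⟩
  rw [CMCrit.cmAll_iff (𝔪 := 𝔪)
    (fun J hJ hne => le_plus_of_homogeneous hpos h0 hmR ((isHomogeneous_selfN_iff J).1 hJ) hne)
    (GrMod19.selfN ℳ) hd]
  exact forall₂_congr fun i _ => subsingleton_H_iff mR i

include hpos h0 hmR ℳ in
/-- the top local cohomology of a Cohen–Macaulay module is nonzero -/
theorem not_vanH_top [IsNoetherianRing R] [Nontrivial M] [Module.Finite R M] {d : ℕ}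
    (hd : Module.supportDim R M = d) (hcm : CMCrit.CMAll R M) : ∃ n, ¬ GrMod19.VanH mR ℳ d n := by
  by_contra hc
  push Not at hc
  have : Nontrivial R := Module.nontrivial R M
  letI := gradedRingN (𝒜 := 𝒜)
  let 𝔪 : HomogeneousIdeal (GrMod19.selfN 𝒜) := ⟨mR.toIdeal, (isHomogeneous_selfN_iff _).2 mR.isHomogeneous⟩
  haveI : 𝔪.toIdeal.IsMaximal := isMaximal_plus hpos h0 hmR
  haveI : SetLike.GradedSMul (GrMod19.selfN 𝒜) (GrMod19.selfN ℳ) :=
    ⟨fun {i j} c m hc hm => SetLike.GradedSMul.smul_mem (A := 𝒜) (B := ℳ) hc hm⟩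
  have hvan := (cmAll_iff_vanH ℳ hpos h0 hmR hd).1 hcm
  have h1 : ((d + 1 : ℕ) : ℕ∞) ≤ LocCoh.idealDepth 𝔪.toIdeal M :=
    (LC17.natCast_le_idealDepth_iff _ M (d + 1)).2 fun i hi => (subsingleton_H_iff (ℳ := ℳ) mR i).2 fun n => by
      rcases Nat.lt_succ_iff_lt_or_eq.1 hi with h | rfl
      exacts [hvan i h n, hc n]
  obtain ⟨hJm, hdim⟩ := CMCrit.supportDim_eq_star (𝔪 := 𝔪)
    (fun J hJ hne => le_plus_of_homogeneous hpos h0 hmR ((isHomogeneous_selfN_iff J).1 hJ) hne)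
    (GrMod19.selfN ℳ)
  rw [CMCrit.depth_star_eq_idealDepth] at h1
  have h2 := CMCrit.depth_le_supportDim_loc (M := M) ⟨𝔪.toIdeal, inferInstance⟩
    (Module.mem_support_iff_of_finite.2 hJm)
  rw [← hdim, hd] at h2
  have h3 := h1.trans (WithBot.coe_le_coe.1 h2)
  norm_cast at h3
  omega

include ℳ in
/-- vanishing above the dimension -/
theorem vanH_above [IsNoetherianRing R] {d : ℕ} (hd : Module.supportDim R M ≤ (d : WithBot ℕ∞)) {i : ℕ}
    (hi : d < i) (n : ℤ) : GrMod19.VanH mR ℳ i n :=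
  (subsingleton_H_iff mR i).1 (CMCrit.subsingleton_H_above mR.toIdeal hd hi) n

theorem cmAll_self_iff [IsNoetherianRing R] : LocCoh.IsCohenMacaulayRing R ↔ CMCrit.CMAll R R := by
  refine ⟨fun h q _ => Or.inr (h.isCohenMacaulayLocalRing_localization q).supportDim_eq_depth,
    fun h => { isCohenMacaulayLocalRing_localization := fun p _ => ?_ }⟩
  rcases h p with hs | hcm
  · exact absurd hs (not_subsingleton_iff_nontrivial.2 (inferInstance : Nontrivial (Localization.AtPrime p)))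
  · exact { supportDim_eq_depth := hcm }

end Groth.Agent.GrSeg54
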