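import Groth.Agent.GrMod19.Bass.Dim
import Groth.Agent.GrMod19.CMTop
import Groth.Agent.S13234
import Groth.Agent.LC15.CMDepth
import Groth.Agent.LC15.Dim
import Groth.Agent.LC17.Adjacent

/-!
Cohen–Macaulay finite graded modules over a positively graded ring with maximal irrelevant ideal, through local
cohomology.
-/

set_option autoImplicit false

universe u

open DirectSum GrLC

namespace Groth.Agent.GrSeg54.CMCrit

/-- Cohen–Macaulay at every prime -/
def CMAll (R : Type u) [CommRing R] (M : Type u) [AddCommGroup M] [Module R M] : Prop :=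
  ∀ (q : Ideal R) [q.IsPrime], Subsingleton (LocalizedModule q.primeCompl M) ∨
    LocCoh.IsCohenMacaulayModule (Localization.AtPrime q) (LocalizedModule q.primeCompl M)

theorem coheight_le_supportDim {R : Type u} [CommRing R] {M : Type u} [AddCommGroup M] [Module R M]
    {p : PrimeSpectrum R} (hp : p ∈ Module.support R M) :
    (Order.coheight p : WithBot ℕ∞) ≤ Module.supportDim R M := by
  rw [Order.coheight_eq_krullDim_Ici]
  exact Order.krullDim_le_of_strictMono (fun q => ⟨q.1, Module.mem_support_mono q.2 hp⟩) fun _ _ h => h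

variable {R : Type u} [CommRing R] [IsNoetherianRing R]

theorem depth_le_supportDim_loc {M : Type u} [AddCommGroup M] [Module R M] [Module.Finite R M] (p : PrimeSpectrum R)
    (hp : p ∈ Module.support R M) :
    ((LocCoh.depth (Localization.AtPrime p.asIdeal) (LocalizedModule p.asIdeal.primeCompl M) : ℕ∞) : WithBot ℕ∞) ≤
      Module.supportDim (Localization.AtPrime p.asIdeal) (LocalizedModule p.asIdeal.primeCompl M) := by
  have : Nontrivial (LocalizedModule p.asIdeal.primeCompl M) := Module.mem_support_iff.mp hp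
  have : Module.Finite (Localization.AtPrime p.asIdeal) (LocalizedModule p.asIdeal.primeCompl M) :=
    Module.Finite.of_isLocalizedModule p.asIdeal.primeCompl
      (LocalizedModule.mkLinearMap p.asIdeal.primeCompl M)
  exact EGA4Alg4.depth_le_supportDim

/-- vanishing above the dimension -/
theorem subsingleton_H_above {M : Type u} [AddCommGroup M] [Module R M] (J : Ideal R) {d : ℕ}
    (hd : Module.supportDim R M ≤ (d : WithBot ℕ∞)) {i : ℕ} (hi : d < i) :
    Subsingleton (LocCoh.H J i M) := by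
  refine LC15.subsingleton_H_of_coheightLT (d + 1) (fun p hp => ?_) i hi
  rw [Nat.cast_succ, ENat.lt_add_one_iff (ENat.natCast_ne_top d)]
  exact WithBot.coe_le_coe.1 ((coheight_le_supportDim hp).trans hd)

variable {𝒜 : ℤ → AddSubgroup R} [GradedRing 𝒜] {𝔪 : HomogeneousIdeal 𝒜} [𝔪.toIdeal.IsMaximal]

theorem height_map_core_le_one (P : Ideal R) [P.IsPrime] :
    (P.map (Ideal.Quotient.mk (P.homogeneousCore 𝒜).toIdeal)).height ≤ 1 := by
  have hC := GrRing54.isPrime_homogeneousCore (𝒜 := 𝒜) P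
  have hle := GrRing54.height_add_height_map_le (P.homogeneousCore 𝒜).toIdeal P
    (Ideal.toIdeal_homogeneousCore_le 𝒜 P)
  have hcore : (P.homogeneousCore 𝒜).toIdeal = GrRing54.core 𝒜 (AddMonoidHom.id ℤ) P := by
    ext x
    rw [GrRing54.mem_core]
    refine ⟨fun hx k => ?_, fun hx => ?_⟩
    · rw [GrMod19.comp_id_eq_cmp]
      exact Ideal.toIdeal_homogeneousCore_le _ _ ((P.homogeneousCore 𝒜).isHomogeneous k hx)
    · obtain ⟨t, ht⟩ := GrMod19.exists_sum_cmp 𝒜 x
      rw [← ht]
      exact sum_mem fun k _ => Ideal.mem_homogeneousCore_of_homogeneous_of_mem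
        ⟨k, GrMod19.cmp_mem 𝒜 k x⟩ (by rw [← GrMod19.comp_id_eq_cmp]; exact hx k)
  have h1 := GrRing54.height_le_core_add_one 𝒜 (AddMonoidHom.id ℤ) P
  rw [← hcore] at h1
  exact (ENat.add_le_add_iff_left (Ideal.height_ne_top_of_isPrime (I := (P.homogeneousCore 𝒜).toIdeal))).1
    (hle.trans h1)

variable (hle : ∀ J : Ideal R, J.IsHomogeneous 𝒜 → J ≠ ⊤ → J ≤ 𝔪.toIdeal)
  {M : Type u} [AddCommGroup M] [Module R M] [Module.Finite R M]
  (ℳ : ℤ → AddSubgroup M) [Decomposition ℳ] [SetLike.GradedSMul 𝒜 ℳ]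

include ℳ in
omit [IsNoetherianRing R] [Module.Finite R M] in
theorem annihilator_isHomogeneous : (Module.annihilator R M).IsHomogeneous 𝒜 := by
  intro i r hr
  rw [Module.mem_annihilator] at hr ⊢
  intro m
  induction m using GrMod19.piece_induction ℳ with
  | h0 => rw [smul_zero]
  | hadd a b ha hb => rw [smul_add, ha, hb, add_zero]
  | hp d m hm =>
    have h1 : ∀ r : R, GrMod19.cmp ℳ (i + d) (r • m) = GrMod19.cmp 𝒜 i r • m := fun r => by
      induction r using GrMod19.piece_induction 𝒜 with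
      | h0 => simp
      | hadd a b ha hb => rw [add_smul, map_add, map_add, ha, hb, add_smul]
      | hp j a ha =>
        rcases eq_or_ne j i with rfl | hne
        · rw [GrMod19.cmp_of_mem 𝒜 ha, GrMod19.cmp_of_mem ℳ (GrMod19.smul_mem_add 𝒜 ℳ ha hm)]
        · rw [GrMod19.cmp_of_ne 𝒜 ha hne,
            GrMod19.cmp_of_ne ℳ (GrMod19.smul_mem_add 𝒜 ℳ ha hm) (fun h => hne (add_right_cancel h)), zero_smul]
    have hz := h1 r
    rw [show r • m = 0 from hr m, map_zero] at hz
    exact hz.symm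

include hle ℳ in
theorem supportDim_eq_star [Nontrivial M] :
    Module.annihilator R M ≤ 𝔪.toIdeal ∧
      Module.supportDim R M =
        Module.supportDim (Localization.AtPrime 𝔪.toIdeal) (LocalizedModule 𝔪.toIdeal.primeCompl M) := by
  have hJ := annihilator_isHomogeneous (𝒜 := 𝒜) ℳ
  have hne : Module.annihilator R M ≠ ⊤ := fun h => by
    obtain ⟨x, hx⟩ := exists_ne (0 : M)
    refine hx ?_
    have := Module.mem_annihilator.1 ((Ideal.eq_top_iff_one _).1 h) x
    rwa [one_smul] at this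
  have hJm := hle _ hJ hne
  refine ⟨hJm, ?_⟩
  have hs : Function.Surjective (Ideal.Quotient.mk (Module.annihilator R M)) := Ideal.Quotient.mk_surjective
  rw [Module.supportDim_eq_ringKrullDim_quotient_annihilator, GrMod19.Bass.supportDim_localized_eq 𝔪.toIdeal hJm]
  have hmp : (𝔪.toIdeal.map (Ideal.Quotient.mk (Module.annihilator R M))).IsPrime :=
    Ideal.map_isPrime_of_surjective hs (by rwa [Ideal.mk_ker])
  refine le_antisymm ((ringKrullDim_le_iff_isMaximal_height_le _).2 fun Q hQ => WithBot.coe_le_coe.2 ?_)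
    (Ideal.height_le_ringKrullDim_of_ne_top hmp.ne_top)
  set P := Q.comap (Ideal.Quotient.mk (Module.annihilator R M)) with hPdef
  have hPQ : P.map (Ideal.Quotient.mk (Module.annihilator R M)) = Q := Ideal.map_comap_of_surjective _ hs Q
  have hJP : Module.annihilator R M ≤ P := fun a ha => by
    rw [hPdef, Ideal.mem_comap, Ideal.Quotient.eq_zero_iff_mem.2 ha]
    exact zero_mem _
  have hPmax : P.IsMaximal := Ideal.comap_isMaximal_of_surjective _ hs
  have hC := GrRing54.isPrime_homogeneousCore (𝒜 := 𝒜) P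
  have hCm : (P.homogeneousCore 𝒜).toIdeal ≤ 𝔪.toIdeal := hle _ (P.homogeneousCore 𝒜).isHomogeneous hC.ne_top
  rw [← hPQ, GrMod19.Bass.height_map_eq_core_add 𝒜 _ hJ P hJP]
  rcases hCm.lt_or_eq with hlt | heq
  · calc _ ≤ LC17.htq (Module.annihilator R M) (P.homogeneousCore 𝒜).toIdeal + 1 :=
          add_le_add le_rfl (height_map_core_le_one P)
      _ ≤ _ := LC17.htq_add_one_le (by
          intro x hx
          obtain ⟨t, ht⟩ := GrMod19.exists_sum_cmp 𝒜 x
          rw [← ht]
          exact sum_mem fun i _ => Ideal.mem_homogeneousCore_of_homogeneous_of_mem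
            ⟨i, GrMod19.cmp_mem 𝒜 i x⟩ (hJP (hJ i hx))) hlt
  · have hmP : 𝔪.toIdeal = P := (inferInstance : 𝔪.toIdeal.IsMaximal).eq_of_le hPmax.ne_top
      (heq ▸ Ideal.toIdeal_homogeneousCore_le 𝒜 P)
    rw [heq, hmP, Ideal.map_quotient_self, Ideal.height_bot, add_zero]

omit [IsNoetherianRing R] in
theorem depth_star_eq_idealDepth [IsNoetherianRing R] :
    LocCoh.idealDepth 𝔪.toIdeal M =
      LocCoh.depth (Localization.AtPrime 𝔪.toIdeal) (LocalizedModule 𝔪.toIdeal.primeCompl M) := by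
  rw [LC17.idealDepth_eq_iInf]
  refine le_antisymm (iInf₂_le (⟨𝔪.toIdeal, inferInstance⟩ : PrimeSpectrum R) le_rfl) (le_iInf₂ fun q hq => ?_)
  obtain rfl : q = ⟨𝔪.toIdeal, inferInstance⟩ :=
    PrimeSpectrum.ext ((inferInstance : 𝔪.toIdeal.IsMaximal).eq_of_le q.2.ne_top hq).symm
  exact le_rfl

include hle ℳ in
/-- Cohen–Macaulayness is the vanishing of local cohomology below the dimension -/
theorem cmAll_iff [Nontrivial M] {d : ℕ} (hd : Module.supportDim R M = d) :
    CMAll R M ↔ ∀ i, i < d → Subsingleton (LocCoh.H 𝔪.toIdeal i M) := by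
  obtain ⟨hJm, hdim⟩ := supportDim_eq_star hle ℳ
  have hJ := annihilator_isHomogeneous (𝒜 := 𝒜) ℳ
  rw [hdim] at hd
  rw [← LC17.natCast_le_idealDepth_iff, depth_star_eq_idealDepth]
  refine ⟨fun h => ?_, fun h P _ => ?_⟩
  · rcases h 𝔪.toIdeal with hs | hcm
    · rw [EGA4Alg4.depth_of_subsingleton]; exact le_top
    · exact le_of_eq (WithBot.coe_inj.1 (hd.symm.trans hcm))
  by_cases hJP : Module.annihilator R M ≤ P
  swap
  · left
    rw [← not_nontrivial_iff_subsingleton]
    exact fun hn => hJP ((Module.mem_support_iff_of_finite (p := ⟨P, inferInstance⟩)).1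
      (Module.mem_support_iff.2 hn))
  right
  set C := (P.homogeneousCore 𝒜).toIdeal with hCdef
  have hC : C.IsPrime := GrRing54.isPrime_homogeneousCore (𝒜 := 𝒜) P
  have hJC : Module.annihilator R M ≤ C := by
    intro x hx
    obtain ⟨t, ht⟩ := GrMod19.exists_sum_cmp 𝒜 x
    rw [← ht]
    exact sum_mem fun i _ => Ideal.mem_homogeneousCore_of_homogeneous_of_mem
      ⟨i, GrMod19.cmp_mem 𝒜 i x⟩ (hJP (hJ i hx))
  have hCm : C ≤ 𝔪.toIdeal := hle _ (P.homogeneousCore 𝒜).isHomogeneous hC.ne_top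
  have hCP : C ≤ P := Ideal.toIdeal_homogeneousCore_le 𝒜 P
  have hsuppC : (⟨C, hC⟩ : PrimeSpectrum R) ∈ Module.support R M :=
    Module.mem_support_iff_of_finite.2 hJC
  have hsuppP : (⟨P, inferInstance⟩ : PrimeSpectrum R) ∈ Module.support R M :=
    Module.mem_support_iff_of_finite.2 hJP
  obtain ⟨e, he⟩ := LC17.exists_htq_eq hCP
  obtain ⟨g, hg⟩ := LC17.exists_htq_eq hCm
  obtain ⟨c, hc⟩ := LC17.exists_htq_eq hJC
  obtain ⟨n, hn⟩ := LC17.exists_htq_eq (p := Module.annihilator R M) (q := 𝔪.toIdeal) hJm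
  have hdn : n = d := by
    rw [GrMod19.Bass.supportDim_localized_eq 𝔪.toIdeal hJm] at hd
    have h' : (LC17.htq (Module.annihilator R M) 𝔪.toIdeal : WithBot ℕ∞) = ((d : ℕ∞) : WithBot ℕ∞) := hd
    rw [WithBot.coe_inj, hn] at h'
    exact_mod_cast h'
  have hsum : c + g ≤ d := by
    have := LC17.htq_add_le hJC hCm
    rw [hc, hg, hn, hdn] at this
    exact_mod_cast this
  have hC1 := depth_le_supportDim_loc _ hsuppC
  rw [GrMod19.Bass.supportDim_localized_eq C hJC,
    show (C.map (Ideal.Quotient.mk (Module.annihilator R M))).height = (c : ℕ∞) from hc] at hC1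
  have hC2 := WithBot.coe_le_coe.1 hC1
  obtain ⟨f, hf⟩ := ENat.ne_top_iff_exists.1 (ne_top_of_le_ne_top (ENat.natCast_ne_top c) hC2)
  have hC3 := LC17.depth_loc_le_add_height (M := M) hCm
  rw [hg, ← hf] at hC3
  have h3 : d ≤ f + g := by exact_mod_cast h.trans hC3
  rw [← hf] at hC2
  have h4 : f ≤ c := by exact_mod_cast hC2
  have hfc : f = c := by omega
  have hP1 := S13234.result R 𝒜 M ℳ P e he
  show Module.supportDim (Localization.AtPrime P) (LocalizedModule P.primeCompl M) = _
  rw [GrMod19.Bass.supportDim_localized_eq P hJP, GrMod19.Bass.height_map_eq_core_add 𝒜 _ hJ P hJP]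
  refine congrArg WithBot.some ?_
  rw [hP1]
  exact congrArg₂ (· + ·) (hc.trans ((congrArg (Nat.cast : ℕ → ℕ∞) hfc.symm).trans hf)) he

end Groth.Agent.GrSeg54.CMCrit
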