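import Groth.Agent.GrSeg54.TopSegre
import Groth.Agent.GrSeg54.Bridge
import Groth.Agent.GrMod19.Gor.Pairing
import Groth.Agent.GrMod19.Regrade
import Mathlib.LinearAlgebra.Contraction

/-!
Canonical modules of graded algebras over a field as graded `k`-duals of top local cohomology.
-/

set_option autoImplicit false
set_option maxHeartbeats 400000

universe u

open scoped TensorProduct
open DirectSum GrLC

namespace Groth.Agent.GrSeg54

open Groth.Agent.CAlg6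

variable {k : Type u} [Field k] {R : Type u} [CommRing R] [Algebra k R]
  {𝒜 : ℤ → Submodule k R} [GradedAlgebra 𝒜]

/-- a piece of a graded module as a `k`-subspace -/
noncomputable def kPc {M : Type u} [AddCommGroup M] [Module R M] [Module k M] [IsScalarTower k R M]
    (𝒜 : ℤ → Submodule k R) [GradedAlgebra 𝒜] {τ : Type u} [SetLike τ M] [AddSubgroupClass τ M]
    (ℳ : ℤ → τ) [SetLike.GradedSMul 𝒜 ℳ] (d : ℤ) : Submodule k M :=
  (comp 𝒜 ℳ d).restrictScalars k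

theorem mem_kPc {M : Type u} [AddCommGroup M] [Module R M] [Module k M] [IsScalarTower k R M]
    {τ : Type u} [SetLike τ M] [AddSubgroupClass τ M] {ℳ : ℤ → τ} [SetLike.GradedSMul 𝒜 ℳ] {d : ℤ} {x : M} :
    x ∈ kPc 𝒜 ℳ d ↔ x ∈ ℳ d := Iff.rfl

variable {C H : Type u} [AddCommGroup C] [Module R C] [Module k C] [IsScalarTower k R C]
  [AddCommGroup H] [Module R H] [Module k H]

/-- a graded pairing into `k` identifying each piece with the dual of the opposite one -/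
structure KPair (𝒞 : ℤ → AddSubgroup C) [SetLike.GradedSMul 𝒜 𝒞] (ℋ : ℤ → AddSubgroup H)
    (β : H →ₗ[k] C →ₗ[k] k) : Prop where
  balanced : ∀ (a : R) (h : H) (c : C), β (a • h) c = β h (a • c)
  orth : ∀ (d e : ℤ), ∀ h ∈ ℋ d, ∀ c ∈ 𝒞 e, d + e ≠ 0 → β h c = 0
  unique : ∀ (d : ℤ), ∀ h ∈ ℋ d, (∀ c ∈ 𝒞 (-d), β h c = 0) → h = 0
  onto : ∀ (d : ℤ) (F : kPc 𝒜 𝒞 (-d) →ₗ[k] k), ∃ h ∈ ℋ d, ∀ c : kPc 𝒜 𝒞 (-d), β h c.1 = F c

/-- the coefficient field inside the degree-zero pieces -/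
theorem exists_deg0R_equiv [Nontrivial R] (h0 : 𝒜 0 = Submodule.span k {(1 : R)}) :
    ∃ e : k ≃+* deg0 (GrMod19.reg 𝒜), ∀ c, (e c : R) = algebraMap k R c := by
  let f : k →+* deg0 (GrMod19.reg 𝒜) :=
    (algebraMap k R).codRestrict (deg0 (GrMod19.reg 𝒜)) fun c => SetLike.algebraMap_mem_graded 𝒜 c
  exact ⟨RingEquiv.ofBijective f ⟨f.injective, fun x => by
    obtain ⟨c, hc⟩ := exists_algebraMap_eq h0 x.2
    exact ⟨c, Subtype.ext hc⟩⟩, fun _ => rfl⟩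

theorem isField_deg0R [Nontrivial R] (h0 : 𝒜 0 = Submodule.span k {(1 : R)}) :
    IsField (deg0 (GrMod19.reg 𝒜)) := by
  obtain ⟨e, -⟩ := exists_deg0R_equiv h0
  exact e.toMulEquiv.symm.isField (Field.toIsField k)

theorem reg_neg (hpos : ∀ n : ℤ, n < 0 → 𝒜 n = ⊥) : ∀ n : ℤ, n < 0 → GrMod19.reg 𝒜 n = ⊥ := fun n hn =>
  (AddSubgroup.eq_bot_iff_forall _).2 fun x hx => (Submodule.eq_bot_iff _).1 (hpos n hn) x hx

theorem isStarLocal_of_plus [Nontrivial R] (hpos : ∀ n : ℤ, n < 0 → 𝒜 n = ⊥)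
    (h0 : 𝒜 0 = Submodule.span k {(1 : R)}) {mR : HomogeneousIdeal 𝒜} (hmR : GrMod19.IsPlus mR) :
    IsStarLocal 𝒜 mR := by
  have hle : ∀ J : HomogeneousIdeal 𝒜, J ≠ ⊤ → J ≤ mR := fun J hJ =>
    le_plus_of_homogeneous hpos h0 hmR J.isHomogeneous fun (h : J.toIdeal = ⊤) =>
      hJ (HomogeneousIdeal.ext (h.trans HomogeneousIdeal.toIdeal_top.symm))
  have hne : mR ≠ ⊤ := fun h => (isMaximal_plus hpos h0 hmR).ne_top
    ((congrArg HomogeneousIdeal.toIdeal h).trans HomogeneousIdeal.toIdeal_top)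
  refine ⟨⟨hne, fun J hJ => ?_⟩, fun J hJ => ?_⟩
  · by_contra hJt
    exact hJ.not_ge (hle J hJt)
  · rcases (hle J hJ.1).eq_or_lt with h | h
    exacts [h, absurd (hJ.2 _ h) hne]

section Reg

variable [IsNoetherianRing R] [Nontrivial R] (hpos : ∀ n : ℤ, n < 0 → 𝒜 n = ⊥)
  (h0 : 𝒜 0 = Submodule.span k {(1 : R)}) {mR : HomogeneousIdeal 𝒜} (hmR : GrMod19.IsPlus mR)
  {E : Type u} [AddCommGroup E] [Module R E] {𝓔 : ℤ → AddSubgroup E} [Decomposition 𝓔]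
  [SetLike.GradedSMul 𝒜 𝓔] {e : (R ⧸ mR.toIdeal) →ₗ[R] E} (he : IsStarInjHull 𝒜 (quotGr 𝒜 mR) 𝓔 e)
  (I : StarInjRes 𝒜 𝒜) (n : ℕ)

include h0 in
/-- a perfect pairing into the degree-zero subring as a pairing into `k` -/
theorem kPair_of_perfect {𝒞 : ℤ → AddSubgroup C} [SetLike.GradedSMul 𝒜 𝒞]
    {β₀ : (GrMod19.regRes I).H (GrMod19.regIdeal mR) n →+ C →+ deg0 (GrMod19.reg 𝒜)}
    (hβ : GrMod19.Pairing.IsPerfect 𝒞 ((GrMod19.regRes I).Hcomp (GrMod19.regIdeal mR) n) β₀) :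
    ∃ β : I.H mR n →ₗ[k] C →ₗ[k] k, KPair (𝒜 := 𝒜) 𝒞 (I.Hgr mR n) β := by
  obtain ⟨ε, hε⟩ := exists_deg0R_equiv (𝒜 := 𝒜) h0
  have hlin : ∀ (c : k) (h : I.H mR n) (x : C), β₀ h (c • x) = ε c * β₀ h x := fun c h x => by
    rw [← algebraMap_smul R c x, ← hε]
    exact hβ.linear (ε c) h x
  have hlin' : ∀ (c : k) (h : I.H mR n) (x : C), β₀ ((c • h : I.H mR n)) x = ε c * β₀ h x := fun c h x => by
    rw [← hlin, ← algebraMap_smul R c h, ← algebraMap_smul R c x]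
    exact hβ.balanced _ h x
  refine ⟨LinearMap.mk₂ k (fun h x => ε.symm (β₀ h x))
    (fun h h' x => (congrArg ε.symm (DFunLike.congr_fun (β₀.map_add h h') x)).trans (map_add _ (β₀ h x) (β₀ h' x)))
    (fun c h x => by rw [hlin', map_mul, RingEquiv.symm_apply_apply, smul_eq_mul])
    (fun h x x' => (congrArg ε.symm (map_add (β₀ h) x x')).trans (map_add _ _ _))
    (fun c h x => by rw [hlin, map_mul, RingEquiv.symm_apply_apply, smul_eq_mul]),
    fun a h x => congrArg ε.symm (hβ.balanced a h x),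
    fun d d' h hh x hx hne => (congrArg ε.symm (hβ.orth d d' h hh x hx hne)).trans (map_zero _),
    fun d h hh hz => hβ.unique d h hh fun x hx => ε.symm.injective ((hz x hx).trans (map_zero _).symm),
    fun d F => ?_⟩
  obtain ⟨h, hh, hF⟩ := hβ.onto d
    { toFun := fun x => ε (F ⟨x.1, x.2⟩)
      map_add' := fun x y => (congrArg ε (map_add F ⟨x.1, x.2⟩ ⟨y.1, y.2⟩)).trans (map_add _ _ _)
      map_smul' := fun a x => by
        obtain ⟨c, rfl⟩ := ε.surjective a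
        have hx : (⟨(ε c • x).1, (ε c • x).2⟩ : kPc 𝒜 𝒞 (-d)) = c • ⟨x.1, x.2⟩ := Subtype.ext (by
          show (ε c : R) • x.1 = c • x.1
          rw [hε, algebraMap_smul])
        rw [hx, map_smul, smul_eq_mul, map_mul]
        rfl }
  refine ⟨h, hh, fun x => ?_⟩
  show ε.symm (β₀ h x.1) = F x
  rw [hF ⟨x.1, x.2⟩]
  exact ε.symm_apply_apply _

include hpos h0 hmR he in
/-- the canonical module is the graded dual of the top cohomology -/
theorem exists_kPair {𝒞 : ℤ → AddSubgroup C} [Decomposition 𝒞] [SetLike.GradedSMul 𝒜 𝒞]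
    (hC : IsStarCanonical 𝒜 𝒞 𝓔 mR n I) :
    ∃ β : I.H mR n →ₗ[k] C →ₗ[k] k, KPair (𝒜 := 𝒜) 𝒞 (I.Hgr mR n) β := by
  obtain ⟨β₀, hβ⟩ := GrMod19.Pairing.exists_perfect (reg_neg hpos) (isField_deg0R h0)
    (GrMod19.isStarLocal_regIdeal (isStarLocal_of_plus hpos h0 hmR))
    (show (GrMod19.regIdeal mR).toIdeal = _ from hmR) (GrMod19.isStarInjHull_reg he) 𝒞
    (GrMod19.isStarCanonical_reg hC)
  exact kPair_of_perfect h0 I n hβ

include hpos h0 hmR he in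
/-- a graded dual of the top cohomology is a canonical module -/
theorem canonical_of_kPair [Module.Finite R C] {𝒞 : ℤ → AddSubgroup C} [Decomposition 𝒞]
    [SetLike.GradedSMul 𝒜 𝒞] {β : I.H mR n →ₗ[k] C →ₗ[k] k}
    (hβ : KPair (𝒜 := 𝒜) 𝒞 (I.Hgr mR n) β) : IsStarCanonical 𝒜 𝒞 𝓔 mR n I := by
  obtain ⟨ε, hε⟩ := exists_deg0R_equiv (𝒜 := 𝒜) h0
  let β₀ : I.H mR n →+ C →+ deg0 (GrMod19.reg 𝒜) := AddMonoidHom.mk'
    (fun h => ε.toAddMonoidHom.comp (β h).toAddMonoidHom) fun h h' => AddMonoidHom.ext fun x => by simp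
  have h : GrMod19.Pairing.IsPerfect (𝒜 := GrMod19.reg 𝒜) 𝒞
      ((GrMod19.regRes I).Hcomp (GrMod19.regIdeal mR) n) β₀ := by
    refine ⟨fun a h x => congrArg ε (hβ.balanced a h x), fun a h x => ?_, fun d d' h hh x hx hne => ?_,
      fun d h hh hz => hβ.unique d h hh fun x hx => ε.injective ((hz x hx).trans (map_zero _).symm),
      fun d F => ?_⟩
    · obtain ⟨c, rfl⟩ := ε.surjective a
      show ε (β h ((ε c : R) • x)) = ε c * ε (β h x)
      rw [hε, algebraMap_smul, map_smul, smul_eq_mul, map_mul]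
    · show ε (β h x) = 0
      rw [hβ.orth d d' h hh x hx hne, map_zero]
    · obtain ⟨h, hh, hF⟩ := hβ.onto d
        { toFun := fun x => ε.symm (F ⟨x.1, x.2⟩)
          map_add' := fun x y => (congrArg ε.symm (map_add F ⟨x.1, x.2⟩ ⟨y.1, y.2⟩)).trans (map_add _ _ _)
          map_smul' := fun c x => by
            have hx : (⟨(c • x).1, (c • x).2⟩ : comp (GrMod19.reg 𝒜) 𝒞 (-d)) = ε c • ⟨x.1, x.2⟩ :=
              Subtype.ext (by
                show c • x.1 = (ε c : R) • x.1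
                rw [hε, algebraMap_smul])
            rw [hx, map_smul, smul_eq_mul, map_mul, RingEquiv.symm_apply_apply]
            rfl }
      refine ⟨h, hh, fun x => ?_⟩
      show ε (β h x.1) = F x
      rw [hF ⟨x.1, x.2⟩]
      exact ε.apply_symm_apply _
  exact GrMod19.Pairing.starCanonical_of_perfect (I := GrMod19.regRes I) (reg_neg hpos) (isField_deg0R h0)
    (GrMod19.isStarLocal_regIdeal (isStarLocal_of_plus hpos h0 hmR))
    (show (GrMod19.regIdeal mR).toIdeal = _ from hmR) (GrMod19.isStarInjHull_reg he) 𝒞 h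

end Reg

section Rank

variable {𝒞 : ℤ → AddSubgroup C} [Decomposition 𝒞] [SetLike.GradedSMul 𝒜 𝒞] {ℋ : ℤ → AddSubgroup H}
  {β : H →ₗ[k] C →ₗ[k] k}

/-- the evaluation of a piece on the opposite one -/
noncomputable def KPair.toDual (_hβ : KPair (𝒜 := 𝒜) 𝒞 ℋ β) (W : Submodule k H) (d : ℤ) :
    W →ₗ[k] Module.Dual k (kPc 𝒜 𝒞 (-d)) :=
  (LinearMap.lcomp k k (kPc 𝒜 𝒞 (-d)).subtype) ∘ₗ β ∘ₗ W.subtype

theorem KPair.toDual_bijective (hβ : KPair (𝒜 := 𝒜) 𝒞 ℋ β) (W : Submodule k H) (d : ℤ)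
    (hW : ∀ x, x ∈ W ↔ x ∈ ℋ d) : Function.Bijective (hβ.toDual W d) := by
  refine ⟨(injective_iff_map_eq_zero _).2 fun h hh => Subtype.ext ?_, fun F => ?_⟩
  · exact hβ.unique d h.1 ((hW _).1 h.2) fun c hc => LinearMap.congr_fun hh ⟨c, hc⟩
  · obtain ⟨h, hh, hF⟩ := hβ.onto d F
    exact ⟨⟨h, (hW h).2 hh⟩, LinearMap.ext hF⟩

end Rank

end Groth.Agent.GrSeg54
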