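import Groth.Agent.GrSeg54.Criteria

/-!
Segre products of Cohen–Macaulay graded rings.
-/

set_option autoImplicit false

universe u

open scoped TensorProduct
open DirectSum GrLC

namespace Groth.Agent.GrSeg54

open Groth.Agent.CAlg6

variable {k : Type u} [Field k] {R S T : Type u} [CommRing R] [CommRing S] [CommRing T]
  [Algebra k R] [Algebra k S] [Algebra k T] [Algebra.FiniteType k R] [Algebra.FiniteType k S]
  {𝒜 : ℤ → Submodule k R} [GradedAlgebra 𝒜] {ℬ : ℤ → Submodule k S} [GradedAlgebra ℬ]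
  {𝒯 : ℤ → Submodule k T} [GradedAlgebra 𝒯] {ψ : T →ₐ[k] R ⊗[k] S}
  {mR : HomogeneousIdeal 𝒜} {mS : HomogeneousIdeal ℬ}
  (hposR : ∀ n : ℤ, n < 0 → 𝒜 n = ⊥) (h0R : 𝒜 0 = Submodule.span k {(1 : R)})
  (hposS : ∀ n : ℤ, n < 0 → ℬ n = ⊥) (h0S : ℬ 0 = Submodule.span k {(1 : S)})
  (hmR : GrMod19.IsPlus mR) (hmS : GrMod19.IsPlus mS)
  (hT : GrSeg.IsSegreRing 𝒜 ℬ 𝒯 ψ) [LocCoh.IsCohenMacaulayRing R] [LocCoh.IsCohenMacaulayRing S]

omit [Algebra.FiniteType k R] [LocCoh.IsCohenMacaulayRing R] in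
theorem nontrivial_of_dim {r : ℕ} (hr : ringKrullDim R = r) : Nontrivial R := by
  rw [← not_subsingleton_iff_nontrivial]
  intro h
  rw [ringKrullDim_eq_bot_of_subsingleton] at hr
  exact WithBot.bot_ne_coe hr

include hposR h0R hposS h0S hmR hmS hT in
theorem cmRing_two {r s : ℕ} (hr : ringKrullDim R = r) (hs : ringKrullDim S = s) (h2r : 2 ≤ r) (h2s : 2 ≤ s)
    (I : StarInjRes 𝒜 𝒜) (J : StarInjRes ℬ ℬ) :
    LocCoh.IsCohenMacaulayRing T ↔ (∀ n : ℤ, 𝒜 n = ⊥ ∨ J.Hcomp mS s n = ⊥) ∧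
      (∀ n : ℤ, I.Hcomp mR r n = ⊥ ∨ ℬ n = ⊥) := by
  haveI := nontrivial_of_dim hr
  haveI := nontrivial_of_dim hs
  haveI := isNoetherianRing_segre hT
  haveI := nontrivial_segre ψ
  rw [cmAll_self_iff]
  refine (cm_two hposR h0R hposS h0S hmR hmS hT (Seg.isSegreMod_self hT) h2r h2s
    ((Module.supportDim_self_eq_ringKrullDim R).trans hr) ((Module.supportDim_self_eq_ringKrullDim S).trans hs)
    (cmAll_self_iff.1 inferInstance) (cmAll_self_iff.1 inferInstance)).trans ?_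
  simp only [Submodule.eq_bot_iff (𝒜 _), Submodule.eq_bot_iff (ℬ _), GrMod19.vanH_iff mR I,
    GrMod19.vanH_iff mS J]

include hposR h0R hposS h0S hmR hT in
theorem cmRing_one {s : ℕ} (hr : ringKrullDim R = (1 : ℕ)) (hs : ringKrullDim S = s) (h1s : 1 ≤ s)
    (I : StarInjRes 𝒜 𝒜) :
    (2 ≤ s → (LocCoh.IsCohenMacaulayRing T ↔ ∀ n : ℤ, I.Hcomp mR 1 n = ⊥ ∨ ℬ n = ⊥)) ∧
      (s = 1 → LocCoh.IsCohenMacaulayRing T) := by
  haveI := nontrivial_of_dim hr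
  haveI := nontrivial_of_dim hs
  haveI := isNoetherianRing_segre hT
  haveI := nontrivial_segre ψ
  obtain ⟨h2, h1⟩ := cm_one hposR h0R hposS h0S hmR hT (Seg.isSegreMod_self hT) h1s
    ((Module.supportDim_self_eq_ringKrullDim R).trans hr) ((Module.supportDim_self_eq_ringKrullDim S).trans hs)
    (cmAll_self_iff.1 inferInstance) (cmAll_self_iff.1 inferInstance)
  rw [cmAll_self_iff]
  refine ⟨fun h => (h2 h).trans ?_, h1⟩
  simp only [Submodule.eq_bot_iff (ℬ _), GrMod19.vanH_iff mR I]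

end Groth.Agent.GrSeg54
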