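import Groth.Agent.GrSeg54.Canon
import Groth.Agent.GrSeg54.RingCase
import Mathlib.LinearAlgebra.Dual.Lemmas

/-!
The canonical module of a Segre product is the Segre product of the canonical modules.
-/

set_option autoImplicit false
set_option maxHeartbeats 400000

universe u

open scoped TensorProduct
open DirectSum GrLC

namespace Groth.Agent.GrSeg54

open Groth.Agent.CAlg6

variable {k : Type u} [Field k]

section Tensor

variable {A B : Type u} [AddCommGroup A] [Module k A] [AddCommGroup B] [Module k B]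
  {τ τ' : Type u} [SetLike τ A] [SetLike τ' B] {𝒳 : ℤ → τ} {𝒴 : ℤ → τ'}

theorem segrePiece_eq_range {d : ℤ} (U : Submodule k A) (V : Submodule k B) (hU : ∀ x, x ∈ U ↔ x ∈ 𝒳 d)
    (hV : ∀ x, x ∈ V ↔ x ∈ 𝒴 d) :
    GrSeg.segrePiece k 𝒳 𝒴 d = LinearMap.range (TensorProduct.map U.subtype V.subtype) := by
  refine le_antisymm (Submodule.span_le.2 ?_) ?_
  · rintro _ ⟨a, ha, b, hb, rfl⟩
    exact ⟨(⟨a, (hU a).2 ha⟩ : U) ⊗ₜ (⟨b, (hV b).2 hb⟩ : V), TensorProduct.map_tmul _ _ _ _⟩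
  · rintro _ ⟨z, rfl⟩
    induction z using TensorProduct.induction_on with
    | zero => rw [map_zero]; exact zero_mem _
    | add a b ha hb => rw [map_add]; exact add_mem ha hb
    | tmul a b =>
      rw [TensorProduct.map_tmul]
      exact Submodule.subset_span ⟨a.1, (hU _).1 a.2, b.1, (hV _).1 b.2, rfl⟩

end Tensor

section Finite

variable {R : Type u} [CommRing R] [Algebra k R] [IsNoetherianRing R] [Nontrivial R]
  {𝒜 : ℤ → Submodule k R} [GradedAlgebra 𝒜] {C : Type u} [AddCommGroup C] [Module R C] [Module k C]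
  [IsScalarTower k R C] [Module.Finite R C]

theorem finite_kPc (hpos : ∀ n : ℤ, n < 0 → 𝒜 n = ⊥) (h0 : 𝒜 0 = Submodule.span k {(1 : R)})
    {mR : HomogeneousIdeal 𝒜} (hmR : GrMod19.IsPlus mR) (𝒞 : ℤ → AddSubgroup C) [Decomposition 𝒞]
    [SetLike.GradedSMul 𝒜 𝒞] (d : ℤ) : Module.Finite k (kPc 𝒜 𝒞 d) := by
  haveI : Module.Finite k (deg0 𝒜) := Module.Finite.equiv
    (LinearEquiv.ofBijective (Algebra.linearMap k (deg0 𝒜)) (algebraMap_deg0_bijective h0))
  haveI : Module.Finite (deg0 𝒜) (comp 𝒜 𝒞 d) := GrMod19.finite_comp (nonnegGr_of_bot hpos) hmR 𝒞 d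
  haveI : Module.Finite k (comp 𝒜 𝒞 d) := Module.Finite.trans (deg0 𝒜) _
  exact (inferInstance : Module.Finite k (comp 𝒜 𝒞 d))

end Finite

section Pairing

variable {R S T : Type u} [CommRing R] [CommRing S] [CommRing T]
  [Algebra k R] [Algebra k S] [Algebra k T]
  {𝒜 : ℤ → Submodule k R} [GradedAlgebra 𝒜] {ℬ : ℤ → Submodule k S} [GradedAlgebra ℬ]
  {𝒯 : ℤ → Submodule k T} [GradedAlgebra 𝒯] {ψ : T →ₐ[k] R ⊗[k] S}
  {HR HS HT CR CS P : Type u}
  [AddCommGroup HR] [Module R HR] [Module k HR] [IsScalarTower k R HR]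
  [AddCommGroup HS] [Module S HS] [Module k HS] [IsScalarTower k S HS]
  [AddCommGroup HT] [Module T HT] [Module k HT] [IsScalarTower k T HT]
  [AddCommGroup CR] [Module R CR] [Module k CR] [IsScalarTower k R CR]
  [AddCommGroup CS] [Module S CS] [Module k CS] [IsScalarTower k S CS]
  [AddCommGroup P] [Module T P] [Module k P] [IsScalarTower k T P]
  {ℋR : ℤ → AddSubgroup HR} {ℋS : ℤ → AddSubgroup HS} {ℋT : ℤ → AddSubgroup HT}
  {𝒞R : ℤ → AddSubgroup CR} [SetLike.GradedSMul 𝒜 𝒞R]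
  {𝒞S : ℤ → AddSubgroup CS} [SetLike.GradedSMul ℬ 𝒞S]
  {𝒬 : ℤ → AddSubgroup P} [Decomposition 𝒬] [SetLike.GradedSMul 𝒯 𝒬]

/-- the tensor product of two pairings -/
theorem exists_kPair_segre [Decomposition 𝒞R] [Decomposition 𝒞S]
    {βR : HR →ₗ[k] CR →ₗ[k] k} (hR : KPair (𝒜 := 𝒜) 𝒞R ℋR βR)
    {βS : HS →ₗ[k] CS →ₗ[k] k} (hS : KPair (𝒜 := ℬ) 𝒞S ℋS βS)
    (WR : ℤ → Submodule k HR) (hWR : ∀ d x, x ∈ WR d ↔ x ∈ ℋR d)
    (WS : ℤ → Submodule k HS) (hWS : ∀ d x, x ∈ WS d ↔ x ∈ ℋS d)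
    (hfR : ∀ d, Module.Finite k (kPc 𝒜 𝒞R d)) (hfS : ∀ d, Module.Finite k (kPc ℬ 𝒞S d))
    {φ : P →ₗ[k] CR ⊗[k] CS} (hP : GrSeg.IsSegreMod ψ 𝒞R 𝒞S 𝒬 φ)
    (Θ : HT →+ HR ⊗[k] HS) (hΘi : Function.Injective Θ)
    (hΘp : ∀ d, Θ '' (ℋT d : Set HT) = (GrSeg.segrePiece k ℋR ℋS d : Set _))
    (hΘs : ∀ (t : T) y, Θ (t • y) = GrSeg.act k R S HR HS (ψ t) (Θ y)) :
    ∃ β : HT →ₗ[k] P →ₗ[k] k, KPair (𝒜 := 𝒯) 𝒬 ℋT β := by
  let Θk : HT →ₗ[k] HR ⊗[k] HS :=
    { toFun := Θ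
      map_add' := map_add Θ
      map_smul' := fun c y => by
        rw [← algebraMap_smul T c y, hΘs, AlgHom.commutes, Algebra.algebraMap_eq_smul_one, map_smul,
          LinearMap.smul_apply, Seg.act_one]
        rfl }
  let D : HR ⊗[k] HS →ₗ[k] Module.Dual k (CR ⊗[k] CS) :=
    TensorProduct.dualDistrib k CR CS ∘ₗ TensorProduct.map βR βS
  have hDt : ∀ a b c e, D (a ⊗ₜ b) (c ⊗ₜ e) = βR a c * βS b e := fun a b c e => rfl
  let β : HT →ₗ[k] P →ₗ[k] k := LinearMap.lcomp k k φ ∘ₗ D ∘ₗ Θk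
  have hβ : ∀ y v, β y v = D (Θ y) (φ v) := fun y v => rfl
  refine ⟨β, fun t y v => ?_, fun d e y hy v hv hne => ?_, fun d y hy hz => ?_, fun d F => ?_⟩
  · rw [hβ, hβ, hΘs, hP.map_smul]
    generalize ψ t = z, Θ y = w, φ v = x
    induction z using TensorProduct.induction_on with
    | zero => simp
    | add a b ha hb => simp [map_add, LinearMap.add_apply, ha, hb]
    | tmul a a' =>
      induction w using TensorProduct.induction_on with
      | zero => simp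
      | add u u' hu hu' => simp [map_add, LinearMap.add_apply, hu, hu']
      | tmul b b' =>
        induction x using TensorProduct.induction_on with
        | zero => simp
        | add u u' hu hu' => simp only [map_add, hu, hu']
        | tmul c c' => rw [GrSeg.act_tmul, GrSeg.act_tmul, hDt, hDt, hR.balanced, hS.balanced]
  · rw [hβ]
    have h1 : Θ y ∈ GrSeg.segrePiece k ℋR ℋS d := by
      rw [← SetLike.mem_coe, ← hΘp]; exact ⟨y, hy, rfl⟩
    have h2 := Seg.phi_mem_piece hP hv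
    generalize Θ y = w at h1 ⊢
    generalize φ v = x at h2 ⊢
    induction h1 using Submodule.span_induction with
    | zero => simp
    | add u u' _ _ hu hu' => simp [map_add, hu, hu']
    | smul c u _ hu => simp [map_smul, hu]
    | mem u hu =>
      obtain ⟨a, ha, b, hb, rfl⟩ := hu
      induction h2 using Submodule.span_induction with
      | zero => simp
      | add u u' _ _ hu hu' => simp [map_add, hu, hu']
      | smul c u _ hu => simp [map_smul, hu]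
      | mem w hw =>
        obtain ⟨c, hc, e', -, rfl⟩ := hw
        rw [hDt, hR.orth d e a ha c hc hne, zero_mul]
  all_goals
    haveI := hfR (-d)
    haveI := hfS (-d)
    let eR := LinearEquiv.ofBijective _ (hR.toDual_bijective (WR d) d (hWR d))
    let eS := LinearEquiv.ofBijective _ (hS.toDual_bijective (WS d) d (hWS d))
    let Ed := (TensorProduct.congr eR eS).trans
      (TensorProduct.dualDistribEquiv k (kPc 𝒜 𝒞R (-d)) (kPc ℬ 𝒞S (-d)))
    let ι := TensorProduct.map (WR d).subtype (WS d).subtype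
    let κ := TensorProduct.map (kPc 𝒜 𝒞R (-d)).subtype (kPc ℬ 𝒞S (-d)).subtype
    have key : ∀ w z, D (ι w) (κ z) = Ed w z := fun w z => by
      induction w using TensorProduct.induction_on with
      | zero => simp
      | add u u' hu hu' => simp only [map_add, LinearMap.add_apply, hu, hu']
      | tmul a b =>
        induction z using TensorProduct.induction_on with
        | zero => simp
        | add u u' hu hu' => simp only [map_add, hu, hu']
        | tmul c e => rfl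
    have hpc : GrSeg.segrePiece k 𝒞R 𝒞S (-d) = LinearMap.range κ :=
      segrePiece_eq_range _ _ (fun _ => Iff.rfl) fun _ => Iff.rfl
    have hph : GrSeg.segrePiece k ℋR ℋS d = LinearMap.range ι := segrePiece_eq_range _ _ (hWR d) (hWS d)
  · obtain ⟨w, hw⟩ : Θ y ∈ LinearMap.range ι := by
      rw [← hph, ← SetLike.mem_coe, ← hΘp]; exact ⟨y, hy, rfl⟩
    have h0 : Ed w = 0 := LinearMap.ext fun z => by
      obtain ⟨v, hv, hvz⟩ := Seg.exists_phi_eq hP (show κ z ∈ GrSeg.segrePiece k 𝒞R 𝒞S (-d) from hpc ▸ ⟨z, rfl⟩)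
      rw [← key, hw, ← hvz, ← hβ]
      exact hz v hv
    rw [Ed.map_eq_zero_iff] at h0
    refine hΘi ?_
    rw [← hw, h0, map_zero, map_zero]
  · have hex : ∀ z, ∃ v : kPc 𝒯 𝒬 (-d), φ v.1 = κ z := fun z => by
      obtain ⟨v, hv, hvz⟩ := Seg.exists_phi_eq hP (show κ z ∈ GrSeg.segrePiece k 𝒞R 𝒞S (-d) from hpc ▸ ⟨z, rfl⟩)
      exact ⟨⟨v, hv⟩, hvz⟩
    choose lift hlift using hex
    let G : kPc 𝒜 𝒞R (-d) ⊗[k] kPc ℬ 𝒞S (-d) →ₗ[k] k :=
      { toFun := fun z => F (lift z)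
        map_add' := fun z z' => by
          rw [← map_add]
          exact congrArg F (Subtype.ext (hP.injective (by simp [hlift])))
        map_smul' := fun c z => by
          rw [RingHom.id_apply, ← map_smul]
          exact congrArg F (Subtype.ext (hP.injective (by simp [hlift]))) }
    obtain ⟨w, hw⟩ := Ed.surjective G
    obtain ⟨y, hy, hyw⟩ : ι w ∈ Θ '' (ℋT d : Set HT) := by
      rw [hΘp, SetLike.mem_coe, hph]; exact ⟨w, rfl⟩
    refine ⟨y, hy, fun v => ?_⟩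
    obtain ⟨z, hz⟩ : φ v.1 ∈ LinearMap.range κ := hpc ▸ Seg.phi_mem_piece hP v.2
    rw [hβ, hyw, ← hz, key, hw]
    exact congrArg F (Subtype.ext (hP.injective ((hlift z).trans hz)))

end Pairing

section Rings

variable {R S T : Type u} [CommRing R] [CommRing S] [CommRing T]
  [Algebra k R] [Algebra k S] [Algebra k T] [Algebra.FiniteType k R] [Algebra.FiniteType k S]
  {𝒜 : ℤ → Submodule k R} [GradedAlgebra 𝒜] {ℬ : ℤ → Submodule k S} [GradedAlgebra ℬ]
  {𝒯 : ℤ → Submodule k T} [GradedAlgebra 𝒯] {ψ : T →ₐ[k] R ⊗[k] S}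
  {mR : HomogeneousIdeal 𝒜} {mS : HomogeneousIdeal ℬ} {mT : HomogeneousIdeal 𝒯}
  (hT : GrSeg.IsSegreRing 𝒜 ℬ 𝒯 ψ)
  (hposR : ∀ n : ℤ, n < 0 → 𝒜 n = ⊥) (h0R : 𝒜 0 = Submodule.span k {(1 : R)})
  (hposS : ∀ n : ℤ, n < 0 → ℬ n = ⊥) (h0S : ℬ 0 = Submodule.span k {(1 : S)})
  (hmR : GrMod19.IsPlus mR) (hmS : GrMod19.IsPlus mS) (hmT : GrMod19.IsPlus mT)

theorem vanH_ring_above {r : ℕ} (hr : ringKrullDim R = r) {i : ℕ} (hi : r < i) (d : ℤ) :
    GrMod19.VanH mR 𝒜 i d := by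
  haveI := Algebra.FiniteType.isNoetherianRing k R
  exact vanH_above 𝒜 (le_of_eq ((Module.supportDim_self_eq_ringKrullDim R).trans hr)) hi d

set_option maxHeartbeats 2000000 in
include hT hposR hposS hmR hmS hmT in
/-- the top cohomology of the Segre product ring -/
theorem exists_topRing {r s : ℕ} (hr : ringKrullDim R = r) (hs : ringKrullDim S = s) (h2r : 2 ≤ r) (h2s : 2 ≤ s)
    (I : StarInjRes 𝒜 𝒜) (J : StarInjRes ℬ ℬ) (IT : StarInjRes 𝒯 𝒯) :
    ∃ Θ : IT.H mT (r + s - 1) →+ I.H mR r ⊗[k] J.H mS s,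
      Function.Injective Θ ∧
      (∀ d, Θ '' (IT.Hgr mT (r + s - 1) d : Set _) =
        (GrSeg.segrePiece k (I.Hgr mR r) (J.Hgr mS s) d : Set _)) ∧
      ∀ (t : T) y, Θ (t • y) = GrSeg.act k R S (I.H mR r) (J.H mS s) (ψ t) (Θ y) := by
  obtain ⟨p, rfl⟩ : ∃ p, r = p + 2 := ⟨r - 2, by omega⟩
  obtain ⟨q, rfl⟩ : ∃ q, s = q + 2 := ⟨s - 2, by omega⟩
  rw [show p + 2 + (q + 2) - 1 = p + q + 3 by omega]
  exact exists_topSegre hT (Seg.isSegreMod_self hT) hposR hposS hmR hmS hmT I J IT p q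
    (fun i d => vanH_ring_above hr (by omega) d) (fun i d => vanH_ring_above hs (by omega) d)

variable {CR CS P : Type u} [AddCommGroup CR] [Module R CR] [Module k CR] [IsScalarTower k R CR]
  [AddCommGroup CS] [Module S CS] [Module k CS] [IsScalarTower k S CS]
  [AddCommGroup P] [Module T P] [Module k P] [IsScalarTower k T P]
  {𝒞R : ℤ → AddSubgroup CR} [Decomposition 𝒞R] [SetLike.GradedSMul 𝒜 𝒞R] [Module.Finite R CR]
  {𝒞S : ℤ → AddSubgroup CS} [Decomposition 𝒞S] [SetLike.GradedSMul ℬ 𝒞S] [Module.Finite S CS]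
  {𝒬 : ℤ → AddSubgroup P} [Decomposition 𝒬] [SetLike.GradedSMul 𝒯 𝒬]

include hT hposR h0R hposS h0S hmR hmS hmT in
/-- graded duals of top cohomology multiply -/
theorem exists_kPair_ring {r s : ℕ} (hr : ringKrullDim R = r) (hs : ringKrullDim S = s) (h2r : 2 ≤ r) (h2s : 2 ≤ s)
    (I : StarInjRes 𝒜 𝒜) (J : StarInjRes ℬ ℬ) (IT : StarInjRes 𝒯 𝒯)
    {βR : I.H mR r →ₗ[k] CR →ₗ[k] k} (hR : KPair (𝒜 := 𝒜) 𝒞R (I.Hgr mR r) βR)
    {βS : J.H mS s →ₗ[k] CS →ₗ[k] k} (hS : KPair (𝒜 := ℬ) 𝒞S (J.Hgr mS s) βS)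
    {φ : P →ₗ[k] CR ⊗[k] CS} (hP : GrSeg.IsSegreMod ψ 𝒞R 𝒞S 𝒬 φ) :
    ∃ β : IT.H mT (r + s - 1) →ₗ[k] P →ₗ[k] k, KPair (𝒜 := 𝒯) 𝒬 (IT.Hgr mT (r + s - 1)) β := by
  haveI := Algebra.FiniteType.isNoetherianRing k R
  haveI := Algebra.FiniteType.isNoetherianRing k S
  haveI := nontrivial_of_dim hr
  haveI := nontrivial_of_dim hs
  obtain ⟨Θ, h1, h2, h3⟩ := exists_topRing hT hposR hposS hmR hmS hmT hr hs h2r h2s I J IT
  exact exists_kPair_segre hR hS (fun d => (I.Hcomp mR r d).restrictScalars k) (fun _ _ => Iff.rfl)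
    (fun d => (J.Hcomp mS s d).restrictScalars k) (fun _ _ => Iff.rfl)
    (finite_kPc hposR h0R hmR 𝒞R) (finite_kPc hposS h0S hmS 𝒞S) hP Θ h1 h2 h3

omit [Decomposition 𝒬] in
theorem finrank_dual {A C H : Type u} [CommRing A] [Algebra k A] {𝒜 : ℤ → Submodule k A} [GradedAlgebra 𝒜]
    [AddCommGroup C] [Module A C] [Module k C] [IsScalarTower k A C] [AddCommGroup H] [Module A H] [Module k H]
    {𝒞 : ℤ → AddSubgroup C} [Decomposition 𝒞] [SetLike.GradedSMul 𝒜 𝒞] {ℋ : ℤ → AddSubgroup H}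
    {β : H →ₗ[k] C →ₗ[k] k} (hβ : KPair (𝒜 := 𝒜) 𝒞 ℋ β) {W : Submodule k H} {d : ℤ}
    (hW : ∀ x, x ∈ W ↔ x ∈ ℋ d) : Module.finrank k W = Module.finrank k (kPc 𝒜 𝒞 (-d)) :=
  (LinearEquiv.ofBijective _ (hβ.toDual_bijective W d hW)).finrank_eq.trans Subspace.dual_finrank_eq

variable {CT : Type u} [AddCommGroup CT] [Module T CT] [Module k CT] [IsScalarTower k T CT]
  {𝒞T : ℤ → AddSubgroup CT} [Decomposition 𝒞T] [SetLike.GradedSMul 𝒯 𝒞T]

set_option maxHeartbeats 2000000 in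
include hT hposR h0R hposS h0S hmR hmS hmT in
omit [Module.Finite R CR] [Module.Finite S CS] in
/-- dimensions of the pieces of the canonical modules multiply -/
theorem finrank_canonical_segre {r s : ℕ} (hr : ringKrullDim R = r) (hs : ringKrullDim S = s) (h2r : 2 ≤ r)
    (h2s : 2 ≤ s) (I : StarInjRes 𝒜 𝒜) (J : StarInjRes ℬ ℬ) (IT : StarInjRes 𝒯 𝒯)
    (hR : ∃ β : I.H mR r →ₗ[k] CR →ₗ[k] k, KPair (𝒜 := 𝒜) 𝒞R (I.Hgr mR r) β)
    (hS : ∃ β : J.H mS s →ₗ[k] CS →ₗ[k] k, KPair (𝒜 := ℬ) 𝒞S (J.Hgr mS s) β)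
    (hCT : ∃ β : IT.H mT (r + s - 1) →ₗ[k] CT →ₗ[k] k, KPair (𝒜 := 𝒯) 𝒞T (IT.Hgr mT (r + s - 1)) β)
    (n : ℤ) : Module.finrank (deg0 𝒯) (comp 𝒯 𝒞T n) =
      Module.finrank (deg0 𝒜) (comp 𝒜 𝒞R n) * Module.finrank (deg0 ℬ) (comp ℬ 𝒞S n) := by
  haveI := nontrivial_of_dim hr
  haveI := nontrivial_of_dim hs
  haveI := nontrivial_segre ψ
  obtain ⟨βR, hR⟩ := hR
  obtain ⟨βS, hS⟩ := hS
  obtain ⟨βT, hβT⟩ := hCT
  obtain ⟨Θ, h1, h2, h3⟩ := exists_topRing hT hposR hposS hmR hmS hmT hr hs h2r h2s I J IT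
  rw [finrank_deg0_eq (segre_zero hT h0R h0S), finrank_deg0_eq h0R, finrank_deg0_eq h0S]
  obtain ⟨d, rfl⟩ : ∃ d, n = -d := ⟨-n, (neg_neg n).symm⟩
  let WR := (I.Hcomp mR r d).restrictScalars k
  let WS := (J.Hcomp mS s d).restrictScalars k
  let WT := (IT.Hcomp mT (r + s - 1) d).restrictScalars k
  let Θk : IT.H mT (r + s - 1) →ₗ[k] I.H mR r ⊗[k] J.H mS s :=
    { toFun := Θ
      map_add' := map_add Θ
      map_smul' := fun c y => by
        rw [← algebraMap_smul T c y, h3, AlgHom.commutes, Algebra.algebraMap_eq_smul_one, map_smul,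
          LinearMap.smul_apply, Seg.act_one]
        rfl }
  have hι : WT.map Θk = LinearMap.range (TensorProduct.map WR.subtype WS.subtype) := by
    rw [← segrePiece_eq_range (𝒳 := I.Hgr mR r) (𝒴 := J.Hgr mS s) WR WS (fun _ => Iff.rfl) fun _ => Iff.rfl]
    exact SetLike.coe_injective (h2 d)
  calc Module.finrank k (comp 𝒯 𝒞T (-d)) = Module.finrank k WT :=
        (finrank_dual hβT (W := WT) fun _ => Iff.rfl).symm
    _ = Module.finrank k (WT.map Θk) := (Submodule.equivMapOfInjective Θk h1 WT).finrank_eq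
    _ = Module.finrank k (WR ⊗[k] WS) := by
      rw [hι]
      exact LinearMap.finrank_range_of_inj (TensorProduct.map_injective_of_flat_flat _ _
        (Submodule.injective_subtype _) (Submodule.injective_subtype _))
    _ = _ := by
      rw [Module.finrank_tensorProduct, finrank_dual hR (W := WR) fun _ => Iff.rfl,
        finrank_dual hS (W := WS) fun _ => Iff.rfl]
      rfl

end Rings

end Groth.Agent.GrSeg54
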