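import Groth.Agent.GrSeg54.Transport

/-!
Cohen–Macaulayness of Segre products of Cohen–Macaulay modules.
-/

set_option autoImplicit false

universe u

open scoped TensorProduct
open DirectSum GrLC

namespace Groth.Agent.GrSeg54

open Groth.Agent.CAlg6

variable {k : Type u} [Field k] {R S T : Type u} [CommRing R] [CommRing S] [CommRing T]
  [Algebra k R] [Algebra k S] [Algebra k T] [Algebra.FiniteType k R] [Algebra.FiniteType k S]
  {𝒜 : ℤ → Submodule k R} [GradedAlgebra 𝒜] {ℬ : ℤ → Submodule k S} [GradedAlgebra ℬ]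
  {𝒯 : ℤ → Submodule k T} [GradedAlgebra 𝒯] {ψ : T →ₐ[k] R ⊗[k] S}
  {M N P : Type u} [AddCommGroup M] [Module R M] [Module k M] [IsScalarTower k R M] [Module.Finite R M]
  [AddCommGroup N] [Module S N] [Module k N] [IsScalarTower k S N] [Module.Finite S N]
  [AddCommGroup P] [Module T P] [Module k P] [IsScalarTower k T P]
  {σM σN σQ : Type u} [SetLike σM M] [AddSubgroupClass σM M] [SetLike σN N] [AddSubgroupClass σN N]
  [SetLike σQ P] [AddSubgroupClass σQ P]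
  {ℳ : ℤ → σM} [Decomposition ℳ] [SetLike.GradedSMul 𝒜 ℳ]
  {𝒩 : ℤ → σN} [Decomposition 𝒩] [SetLike.GradedSMul ℬ 𝒩]
  {𝒬 : ℤ → σQ} [Decomposition 𝒬] {φ : P →ₗ[k] M ⊗[k] N}
  {mR : HomogeneousIdeal 𝒜} {mS : HomogeneousIdeal ℬ}
  (hposR : ∀ n : ℤ, n < 0 → 𝒜 n = ⊥) (h0R : 𝒜 0 = Submodule.span k {(1 : R)})
  (hposS : ∀ n : ℤ, n < 0 → ℬ n = ⊥) (h0S : ℬ 0 = Submodule.span k {(1 : S)})
  (hmR : GrMod19.IsPlus mR) (hmS : GrMod19.IsPlus mS)
  (hT : GrSeg.IsSegreRing 𝒜 ℬ 𝒯 ψ) (hP : GrSeg.IsSegreMod ψ ℳ 𝒩 𝒬 φ)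

variable (𝒯) in
/-- the irrelevant ideal of the Segre product -/
noncomputable def plusH : HomogeneousIdeal 𝒯 := ⟨Seg.plus 𝒯, Seg.plus_homogeneous 𝒯⟩

omit [Module.Finite R M] [Module k M] [IsScalarTower k R M] in
include hposR h0R hmR in
/-- all cohomology of a Cohen–Macaulay module except the top one vanishes -/
theorem vanH_ne [Nontrivial M] [Module.Finite R M] {r : ℕ} (hd : Module.supportDim R M = r)
    (hcm : CMCrit.CMAll R M) {i : ℕ} (hi : i ≠ r) (n : ℤ) : GrMod19.VanH mR ℳ i n := by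
  haveI := Algebra.FiniteType.isNoetherianRing k R
  rcases lt_or_gt_of_ne hi with h | h
  · exact (cmAll_iff_vanH ℳ hposR h0R hmR hd).1 hcm i h n
  · exact vanH_above ℳ hd.le h n

include hposR h0R hposS h0S hmR hmS hT hP in
theorem cm_two [Nontrivial P] {r s : ℕ} (h2r : 2 ≤ r) (h2s : 2 ≤ s) (hdM : Module.supportDim R M = r)
    (hdN : Module.supportDim S N = s) (hMcm : CMCrit.CMAll R M) (hNcm : CMCrit.CMAll S N) :
    CMCrit.CMAll T P ↔ (∀ d : ℤ, (∀ x ∈ ℳ d, x = 0) ∨ GrMod19.VanH mS 𝒩 s d) ∧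
      (∀ d : ℤ, GrMod19.VanH mR ℳ r d ∨ ∀ x ∈ 𝒩 d, x = 0) := by
  haveI := Algebra.FiniteType.isNoetherianRing k R
  haveI := Algebra.FiniteType.isNoetherianRing k S
  haveI := isNoetherianRing_segre hT
  haveI := Seg.isNoetherian_segre hT hP
  haveI := gradedSMul_segre hT hP
  obtain ⟨-, ⟨m, -, hm⟩, m', -, hm'⟩ := exists_pair hP
  haveI : Nontrivial M := ⟨⟨m, 0, hm⟩⟩
  haveI : Nontrivial N := ⟨⟨m', 0, hm'⟩⟩
  have vM := fun i (hi : i ≠ r) n => vanH_ne (ℳ := ℳ) hposR h0R hmR hdM hMcm hi n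
  have vN := fun i (hi : i ≠ s) n => vanH_ne (ℳ := 𝒩) hposS h0S hmS hdN hNcm hi n
  have hmT : GrMod19.IsPlus (plusH 𝒯) := rfl
  have high := fun d n => segVanHigh (mT := plusH 𝒯) hT hP hposR hposS hmR hmS hmT (vM 0 (by omega) d)
    (vM 1 (by omega) d) (vN 0 (by omega) d) (vN 1 (by omega) d) n
  rw [cmAll_iff_vanH (mR := plusH 𝒯) 𝒬 (segre_nonneg hT hposR) (segre_zero hT h0R h0S) hmT
    (supportDim_segre_cm hposR h0R hposS h0S hT hP (by omega) (by omega) hdM hdN hMcm hNcm)]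
  constructor
  · intro h
    refine ⟨fun d => ?_, fun d => ?_⟩
    · obtain ⟨n, rfl⟩ : ∃ n, s = n + 2 := ⟨s - 2, by omega⟩
      exact (high d n).1 (h (n + 2) (by omega) d) 0 (n + 1) (by omega)
    · obtain ⟨n, rfl⟩ : ∃ n, r = n + 2 := ⟨r - 2, by omega⟩
      exact (high d n).1 (h (n + 2) (by omega) d) (n + 1) 0 (by omega)
  · rintro ⟨c1, c2⟩ i hi d
    rcases i with _ | _ | n
    · exact segVan0 hT hP hposR hposS hmR hmS hmT (vM 0 (by omega) d) (vN 0 (by omega) d)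
    · exact (segVan1 hT hP hposR hposS hmR hmS hmT (vN 0 (by omega) d) (vN 1 (by omega) d)).2
        (Or.inl (vM 1 (by omega) d))
    refine (high d n).2 fun i j hij => ?_
    rcases i with _ | i <;> rcases j with _ | j
    · omega
    · rcases eq_or_ne (j + 2) s with hj | hj
      · subst hj; exact c1 d
      · exact Or.inr (vN (j + 2) hj d)
    · rcases eq_or_ne (i + 2) r with hi' | hi'
      · subst hi'; exact c2 d
      · exact Or.inl (vM (i + 2) hi' d)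
    · by_cases hi' : i + 2 = r
      · exact Or.inr (vN (j + 2) (by omega) d)
      · exact Or.inl (vM (i + 2) hi' d)

include hposR h0R hposS h0S hmR hT hP in
theorem cm_one [Nontrivial P] {s : ℕ} (h1s : 1 ≤ s) (hdM : Module.supportDim R M = (1 : ℕ))
    (hdN : Module.supportDim S N = s) (hMcm : CMCrit.CMAll R M) (hNcm : CMCrit.CMAll S N) :
    (2 ≤ s → (CMCrit.CMAll T P ↔ ∀ d : ℤ, GrMod19.VanH mR ℳ 1 d ∨ ∀ x ∈ 𝒩 d, x = 0)) ∧
      (s = 1 → CMCrit.CMAll T P) := by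
  haveI := Algebra.FiniteType.isNoetherianRing k R
  haveI := Algebra.FiniteType.isNoetherianRing k S
  haveI := isNoetherianRing_segre hT
  haveI := Seg.isNoetherian_segre hT hP
  haveI := gradedSMul_segre hT hP
  obtain ⟨-, ⟨m, -, hm⟩, m', -, hm'⟩ := exists_pair hP
  haveI : Nontrivial M := ⟨⟨m, 0, hm⟩⟩
  haveI : Nontrivial N := ⟨⟨m', 0, hm'⟩⟩
  let mS : HomogeneousIdeal ℬ := plusH ℬ
  have hmS : GrMod19.IsPlus mS := rfl
  have hmT : GrMod19.IsPlus (plusH 𝒯) := rfl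
  have vM := fun i (hi : i ≠ 1) n => vanH_ne (ℳ := ℳ) hposR h0R hmR hdM hMcm hi n
  have vN := fun i (hi : i ≠ s) n => vanH_ne (ℳ := 𝒩) hposS h0S hmS hdN hNcm hi n
  have hcrit := cmAll_iff_vanH (mR := plusH 𝒯) 𝒬 (segre_nonneg hT hposR) (segre_zero hT h0R h0S) hmT
    (supportDim_segre_cm hposR h0R hposS h0S hT hP le_rfl h1s hdM hdN hMcm hNcm)
  have h0 : ∀ d, GrMod19.VanH (plusH 𝒯) 𝒬 0 d := fun d =>
    segVan0 hT hP hposR hposS hmR hmS hmT (vM 0 (by omega) d) (vN 0 (by omega) d)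
  refine ⟨fun h2 => ?_, fun h1 => hcrit.2 fun i hi d => ?_⟩
  · rw [hcrit]
    have h1 := fun d => segVan1 (mT := plusH 𝒯) hT hP hposR hposS hmR hmS hmT (vN 0 (by omega) d)
      (vN 1 (by omega) d)
    refine ⟨fun h d => (h1 d).1 (h 1 (by omega) d), fun h i hi d => ?_⟩
    rcases i with _ | _ | n
    · exact h0 d
    · exact (h1 d).2 (h d)
    · exact segVanLeftOne hT hP hposR hposS hmR hmS hmT (fun i => vM (i + 2) (by omega) d)
        (vN (n + 2) (by omega) d)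
  · obtain rfl : i = 0 := by omega
    exact h0 d

end Groth.Agent.GrSeg54
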