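import Mathlib.LinearAlgebra.TensorProduct.Map
import Mathlib.LinearAlgebra.Basis.VectorSpace
import Mathlib.LinearAlgebra.Quotient.Basic
import Mathlib.Algebra.Order.Antidiag.Prod
import Mathlib.Data.Finset.NatAntidiagonal
import Mathlib.Tactic.Abel
import Mathlib.Tactic.LinearCombination
import Mathlib.LinearAlgebra.Isomorphisms
import Mathlib.Algebra.Module.Projective

/-!
Double complexes indexed by `ℕ × ℕ` and the Künneth formula over a field.
-/

set_option autoImplicit false

universe u v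

open scoped TensorProduct

namespace Groth.Agent.GrSeg54

section Dbl

variable {A : Type v} [CommRing A] {G : ℕ → ℕ → Type u} [∀ i j, AddCommGroup (G i j)]
  [∀ i j, Module A (G i j)]
  (h : ∀ i j, G i j →ₗ[A] G (i + 1) j) (v : ∀ i j, G i j →ₗ[A] G i (j + 1))

/-- the contribution of the first differential -/
noncomputable def dblL : (∀ i j, G i j) →ₗ[A] (∀ i j, G i j) :=
  LinearMap.pi fun i => match i with
    | 0 => 0
    | i + 1 => LinearMap.pi fun j => h i j ∘ₗ LinearMap.proj j ∘ₗ LinearMap.proj i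

/-- the contribution of the second differential -/
noncomputable def dblR : (∀ i j, G i j) →ₗ[A] (∀ i j, G i j) :=
  LinearMap.pi fun i => LinearMap.pi fun j => match j with
    | 0 => 0
    | j + 1 => v i j ∘ₗ LinearMap.proj j ∘ₗ LinearMap.proj i

/-- the total differential -/
noncomputable def dbl : (∀ i j, G i j) →ₗ[A] (∀ i j, G i j) := dblL h + dblR v

theorem dbl_zero_zero (x : ∀ i j, G i j) : dbl h v x 0 0 = 0 := by
  simp [dbl, dblL, dblR]

theorem dbl_succ_zero (x : ∀ i j, G i j) (i : ℕ) : dbl h v x (i + 1) 0 = h i 0 (x i 0) := by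
  simp [dbl, dblL, dblR]

theorem dbl_zero_succ (x : ∀ i j, G i j) (j : ℕ) : dbl h v x 0 (j + 1) = v 0 j (x 0 j) := by
  simp [dbl, dblL, dblR]

theorem dbl_succ_succ (x : ∀ i j, G i j) (i j : ℕ) :
    dbl h v x (i + 1) (j + 1) = h i (j + 1) (x i (j + 1)) + v (i + 1) j (x (i + 1) j) := by
  simp [dbl, dblL, dblR]

variable (A G) in
/-- the families supported on total degree `n` -/
def supp (n : ℕ) : Submodule A (∀ i j, G i j) where
  carrier := {x | ∀ i j, i + j ≠ n → x i j = 0}
  add_mem' hx hy i j hij := by simp [hx i j hij, hy i j hij]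
  zero_mem' i j _ := rfl
  smul_mem' c x hx i j hij := by simp [hx i j hij]

theorem dbl_mem_supp {n : ℕ} {x : ∀ i j, G i j} (hx : x ∈ supp A G n) : dbl h v x ∈ supp A G (n + 1) := by
  intro i j hij
  rcases i with _ | i <;> rcases j with _ | j
  · exact dbl_zero_zero h v x
  · rw [dbl_zero_succ, hx 0 j (by omega), map_zero]
  · rw [dbl_succ_zero, hx i 0 (by omega), map_zero]
  · rw [dbl_succ_succ, hx i (j + 1) (by omega), hx (i + 1) j (by omega), map_zero, map_zero, add_zero]

theorem dbl_dbl (hh : ∀ i j y, h (i + 1) j (h i j y) = 0) (vv : ∀ i j y, v i (j + 1) (v i j y) = 0)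
    (hv : ∀ i j y, h i (j + 1) (v i j y) + v (i + 1) j (h i j y) = 0) (x : ∀ i j, G i j) :
    dbl h v (dbl h v x) = 0 := by
  funext i j
  rcases i with _ | i <;> rcases j with _ | j
  · exact dbl_zero_zero h v _
  · rw [dbl_zero_succ]
    rcases j with _ | j
    · rw [dbl_zero_zero, map_zero]; rfl
    · rw [dbl_zero_succ, vv]; rfl
  · rw [dbl_succ_zero]
    rcases i with _ | i
    · rw [dbl_zero_zero, map_zero]; rfl
    · rw [dbl_succ_zero, hh]; rfl
  · rw [dbl_succ_succ]
    rcases i with _ | i <;> rcases j with _ | j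
    · rw [dbl_zero_succ, dbl_succ_zero]
      exact hv 0 0 _
    · rw [dbl_zero_succ, dbl_succ_succ, map_add, ← add_assoc, hv, vv]
      exact add_zero _
    · rw [dbl_succ_succ, dbl_succ_zero, map_add, hh]
      have := hv (i + 1) 0 (x (i + 1) 0)
      simpa using this
    · rw [dbl_succ_succ, dbl_succ_succ, map_add, map_add, hh, vv]
      have := hv (i + 1) (j + 1) (x (i + 1) (j + 1))
      simpa using this

/-- naturality of the total differential -/
theorem dbl_natural {A' : Type v} [CommRing A'] {G' : ℕ → ℕ → Type u} [∀ i j, AddCommGroup (G' i j)]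
    [∀ i j, Module A' (G' i j)] (h' : ∀ i j, G' i j →ₗ[A'] G' (i + 1) j)
    (v' : ∀ i j, G' i j →ₗ[A'] G' i (j + 1)) (f : ∀ i j, G i j →+ G' i j)
    (hf : ∀ i j y, f (i + 1) j (h i j y) = h' i j (f i j y))
    (vf : ∀ i j y, f i (j + 1) (v i j y) = v' i j (f i j y)) (x : ∀ i j, G i j) (i j : ℕ) :
    f i j (dbl h v x i j) = dbl h' v' (fun i j => f i j (x i j)) i j := by
  rcases i with _ | i <;> rcases j with _ | j
  · rw [dbl_zero_zero, dbl_zero_zero, map_zero]
  · rw [dbl_zero_succ, dbl_zero_succ, vf]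
  · rw [dbl_succ_zero, dbl_succ_zero, hf]
  · rw [dbl_succ_succ, dbl_succ_succ, map_add, hf, vf]

end Dbl

/-- pairs of natural numbers of given sum -/
abbrev Idx (n : ℕ) : Type := {p : ℕ × ℕ // p ∈ Finset.antidiagonal n}

section Coh

variable {k : Type u} [Field k] {V : ℕ → Type u} [∀ n, AddCommGroup (V n)] [∀ n, Module k (V n)]
  (d : ∀ n, V n →ₗ[k] V (n + 1))

/-- the boundaries -/
def bdy : ∀ n, Submodule k (V n)
  | 0 => ⊥
  | n + 1 => LinearMap.range (d n)

/-- the cohomology of a complex of vector spaces -/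
abbrev Coh (n : ℕ) : Type u := LinearMap.ker (d n) ⧸ (bdy d n).comap (LinearMap.ker (d n)).subtype

theorem exists_ginv (n : ℕ) : ∃ s : V (n + 1) →ₗ[k] V n, ∀ x, d n (s (d n x)) = d n x := by
  obtain ⟨r, hr⟩ := (d n).rangeRestrict.exists_rightInverse_of_surjective (d n).range_rangeRestrict
  obtain ⟨s, hs⟩ := r.exists_extend
  refine ⟨s, fun x => ?_⟩
  have h1 : s (d n x) = r ⟨d n x, LinearMap.mem_range_self _ x⟩ := LinearMap.congr_fun hs ⟨d n x, _⟩
  rw [h1]
  exact congrArg Subtype.val (LinearMap.congr_fun hr ⟨d n x, LinearMap.mem_range_self _ x⟩)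

/-- a generalised inverse of the differential -/
noncomputable def gi (n : ℕ) : V (n + 1) →ₗ[k] V n := (exists_ginv d n).choose

theorem d_gi_d (n : ℕ) (x : V n) : d n (gi d n (d n x)) = d n x := (exists_ginv d n).choose_spec x

/-- the complement of the homotopy -/
noncomputable def emap : ∀ n, V n →ₗ[k] V n
  | 0 => LinearMap.id - gi d 0 ∘ₗ d 0
  | n + 1 => LinearMap.id - d n ∘ₗ gi d n - gi d (n + 1) ∘ₗ d (n + 1)

theorem d_emap (hd : ∀ n x, d (n + 1) (d n x) = 0) : ∀ (n : ℕ) (x : V n), d n (emap d n x) = 0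
  | 0, x => by simp [emap, d_gi_d]
  | n + 1, x => by simp [emap, d_gi_d, hd]

theorem emap_d (hd : ∀ n x, d (n + 1) (d n x) = 0) (n : ℕ) (x : V n) : emap d (n + 1) (d n x) = 0 := by
  simp [emap, d_gi_d, hd]

theorem emap_sub_mem : ∀ (n : ℕ) (z : V n), d n z = 0 → z - emap d n z ∈ bdy d n
  | 0, z, hz => by simp [emap, hz, bdy]
  | n + 1, z, hz => ⟨gi d n z, by simp [emap, hz]⟩

theorem emap_bdy (hd : ∀ n x, d (n + 1) (d n x) = 0) : ∀ (n : ℕ) (z : V n), z ∈ bdy d n → emap d n z = 0
  | 0, z, hz => by rw [(Submodule.mem_bot k).1 hz, map_zero]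
  | n + 1, _, ⟨w, rfl⟩ => emap_d d hd n w

variable (hd : ∀ n x, d (n + 1) (d n x) = 0)

/-- the projection onto cohomology -/
noncomputable def cproj (n : ℕ) : V n →ₗ[k] Coh d n :=
  Submodule.mkQ _ ∘ₗ (emap d n).codRestrict (LinearMap.ker (d n)) fun x => LinearMap.mem_ker.2 (d_emap d hd n x)

/-- representatives of cohomology classes -/
noncomputable def cincl (n : ℕ) : Coh d n →ₗ[k] V n :=
  Submodule.liftQ _ (emap d n ∘ₗ (LinearMap.ker (d n)).subtype) fun z hz =>
    LinearMap.mem_ker.2 (emap_bdy d hd n z hz)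

theorem cincl_cproj (n : ℕ) (x : V n) : cincl d hd n (cproj d hd n x) = emap d n (emap d n x) := rfl

theorem cproj_eq_mk (n : ℕ) (z : LinearMap.ker (d n)) : cproj d hd n z.1 = Submodule.Quotient.mk z := by
  refine (Submodule.Quotient.eq _).2 ?_
  show emap d n z.1 - z.1 ∈ bdy d n
  rw [← neg_sub]
  exact neg_mem (emap_sub_mem d n z.1 z.2)

theorem d_cincl (n : ℕ) (c : Coh d n) : d n (cincl d hd n c) = 0 := by
  induction c using Submodule.Quotient.induction_on with
  | _ z => exact d_emap d hd n _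

theorem cproj_cincl (n : ℕ) (c : Coh d n) : cproj d hd n (cincl d hd n c) = c := by
  induction c using Submodule.Quotient.induction_on with
  | _ z =>
    show cproj d hd n (emap d n z.1) = _
    have h1 : cproj d hd n (emap d n z.1) = cproj d hd n z.1 := by
      have h2 := emap_sub_mem d n z.1 z.2
      have h3 : emap d n (emap d n z.1) = emap d n z.1 := by
        have := emap_bdy d hd n _ h2
        rw [map_sub, sub_eq_zero] at this
        exact this.symm
      exact congrArg (Submodule.mkQ _) (Subtype.ext h3)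
    rw [h1, cproj_eq_mk]

theorem cproj_d (n : ℕ) (x : V n) : cproj d hd (n + 1) (d n x) = 0 := by
  refine (Submodule.Quotient.mk_eq_zero _).2 ?_
  show emap d (n + 1) (d n x) ∈ bdy d (n + 1)
  rw [emap_d d hd]
  exact zero_mem _

/-- the homotopy between the identity and the projection onto representatives -/
noncomputable def htpy (n : ℕ) : V (n + 1) →ₗ[k] V n := gi d n + emap d n ∘ₗ gi d n

include hd in
theorem htpy_zero (x : V 0) : htpy d 0 (d 0 x) = x - emap d 0 (emap d 0 x) := by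
  simp [htpy, emap, d_gi_d]

include hd in
theorem htpy_succ (n : ℕ) (x : V (n + 1)) :
    d n (htpy d n x) + htpy d (n + 1) (d (n + 1) x) = x - emap d (n + 1) (emap d (n + 1) x) := by
  have h1 : emap d (n + 1) x = x - d n (gi d n x) - gi d (n + 1) (d (n + 1) x) := by simp [emap]
  rw [show emap d (n + 1) (emap d (n + 1) x) =
      emap d (n + 1) (x - d n (gi d n x) - gi d (n + 1) (d (n + 1) x)) by rw [h1]]
  simp only [htpy, LinearMap.add_apply, LinearMap.comp_apply, map_add, map_sub, d_emap d hd, emap_d d hd,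
    add_zero, sub_zero]
  rw [h1]
  abel

end Coh

section Kunneth

variable {k : Type u} [Field k] {V : ℕ → Type u} [∀ n, AddCommGroup (V n)] [∀ n, Module k (V n)]
  {W : ℕ → Type u} [∀ n, AddCommGroup (W n)] [∀ n, Module k (W n)]
  (dV : ∀ n, V n →ₗ[k] V (n + 1)) (dW : ∀ n, W n →ₗ[k] W (n + 1))

/-- the first differential of a tensor product -/
noncomputable def tdh (i j : ℕ) : V i ⊗[k] W j →ₗ[k] V (i + 1) ⊗[k] W j :=
  TensorProduct.map (dV i) LinearMap.id

/-- the second differential of a tensor product -/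
noncomputable def tdv (i j : ℕ) : V i ⊗[k] W j →ₗ[k] V i ⊗[k] W (j + 1) :=
  (-1 : k) ^ i • TensorProduct.map LinearMap.id (dW j)

/-- the differential of the tensor product of two complexes -/
noncomputable def tD : (∀ i j, V i ⊗[k] W j) →ₗ[k] (∀ i j, V i ⊗[k] W j) := dbl (tdh dV) (tdv dW)

variable (hV : ∀ n x, dV (n + 1) (dV n x) = 0) (hW : ∀ n x, dW (n + 1) (dW n x) = 0)

/-- the classes of a family of tensors -/
noncomputable def kclass (n : ℕ) :
    (∀ i j, V i ⊗[k] W j) →ₗ[k] (∀ p : Idx n, Coh dV p.1.1 ⊗[k] Coh dW p.1.2) :=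
  LinearMap.pi fun p =>
    TensorProduct.map (cproj dV hV p.1.1) (cproj dW hW p.1.2) ∘ₗ LinearMap.proj p.1.2 ∘ₗ LinearMap.proj p.1.1

/-- the homotopy of the tensor product -/
noncomputable def kh : (∀ i j, V i ⊗[k] W j) →ₗ[k] (∀ i j, V i ⊗[k] W j) :=
  LinearMap.pi fun i => LinearMap.pi fun j =>
    TensorProduct.map (htpy dV i) LinearMap.id ∘ₗ LinearMap.proj j ∘ₗ LinearMap.proj (i + 1) +
    (-1 : k) ^ i • (TensorProduct.map (emap dV i ∘ₗ emap dV i) (htpy dW j) ∘ₗ
      LinearMap.proj (j + 1) ∘ₗ LinearMap.proj i)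

include hV hW in
theorem kh_eq (x : ∀ i j, V i ⊗[k] W j) (i j : ℕ) :
    tD dV dW (kh dV dW x) i j + kh dV dW (tD dV dW x) i j =
      x i j - TensorProduct.map (emap dV i ∘ₗ emap dV i) (emap dW j ∘ₗ emap dW j) (x i j) := by
  have sq : ∀ i : ℕ, ((-1 : k) ^ i) * (-1) ^ i = 1 := fun i => by
    rw [← mul_pow]; norm_num
  have mm : ∀ {a b c a' b' c' : ℕ} (f : V b →ₗ[k] V c) (g : V a →ₗ[k] V b) (f' : W b' →ₗ[k] W c')
      (g' : W a' →ₗ[k] W b') (y : V a ⊗[k] W a'),
      TensorProduct.map f f' (TensorProduct.map g g' y) = TensorProduct.map (f ∘ₗ g) (f' ∘ₗ g') y :=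
    fun f g f' g' y => (LinearMap.congr_fun (TensorProduct.map_comp f f' g g') y).symm
  have key : ∀ (i j : ℕ) (y : V i ⊗[k] W j) (P : V i →ₗ[k] V i) (P' : W j →ₗ[k] W j)
      (hP : P = LinearMap.id - emap dV i ∘ₗ emap dV i) (hP' : P' = LinearMap.id - emap dW j ∘ₗ emap dW j),
      TensorProduct.map P LinearMap.id y + TensorProduct.map (emap dV i ∘ₗ emap dV i) P' y =
        y - TensorProduct.map (emap dV i ∘ₗ emap dV i) (emap dW j ∘ₗ emap dW j) y := by
    rintro i j y P P' rfl rfl
    induction y using TensorProduct.induction_on with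
    | zero => simp
    | add a b ha hb =>
      rw [map_add, map_add, map_add, add_add_add_comm, ha, hb]
      abel
    | tmul a b =>
      simp only [TensorProduct.map_tmul, LinearMap.sub_apply, LinearMap.id_apply, TensorProduct.sub_tmul,
        TensorProduct.tmul_sub]
      abel
  have sq1 : ∀ i : ℕ, (-1 : k) ^ i * -1 * ((-1) ^ i * -1) = 1 := fun i => by
    rw [mul_mul_mul_comm, sq, one_mul, neg_mul_neg, one_mul]
  have z1 : ∀ i, dV i ∘ₗ (emap dV i ∘ₗ emap dV i) = 0 := fun i => LinearMap.ext fun a => d_emap dV hV i _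
  have z2 : ∀ i, (emap dV (i + 1) ∘ₗ emap dV (i + 1)) ∘ₗ dV i = 0 := fun i => LinearMap.ext fun a => by
    simp [emap_d dV hV]
  have h0 : ∀ (U : ℕ → Type u) [∀ n, AddCommGroup (U n)] [∀ n, Module k (U n)]
      (d : ∀ n, U n →ₗ[k] U (n + 1)) (_ : ∀ n x, d (n + 1) (d n x) = 0),
      htpy d 0 ∘ₗ d 0 = LinearMap.id - emap d 0 ∘ₗ emap d 0 :=
    fun U _ _ d hd => LinearMap.ext fun a => htpy_zero d hd a
  have h1 : ∀ (U : ℕ → Type u) [∀ n, AddCommGroup (U n)] [∀ n, Module k (U n)]
      (d : ∀ n, U n →ₗ[k] U (n + 1)) (_ : ∀ n x, d (n + 1) (d n x) = 0) (n : ℕ),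
      d n ∘ₗ htpy d n + htpy d (n + 1) ∘ₗ d (n + 1) = LinearMap.id - emap d (n + 1) ∘ₗ emap d (n + 1) :=
    fun U _ _ d hd n => LinearMap.ext fun a => htpy_succ d hd n a
  rcases i with _ | i <;> rcases j with _ | j
  all_goals
    simp only [tD, dbl_zero_zero, dbl_zero_succ, dbl_succ_zero, dbl_succ_succ, tdh, tdv, kh, LinearMap.pi_apply,
      LinearMap.add_apply, LinearMap.smul_apply, LinearMap.comp_apply, LinearMap.proj_apply, map_add, map_smul,
      mm, smul_smul, LinearMap.id_comp, LinearMap.comp_id, smul_add, z1, z2, TensorProduct.map_zero_left,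
      LinearMap.zero_apply, smul_zero, zero_add, add_zero, pow_zero, pow_succ, one_mul, mul_one, one_smul]
  · rw [← key 0 0 (x 0 0) _ _ (h0 V dV hV) (h0 W dW hW)]
  · rw [← key 0 (j + 1) (x 0 (j + 1)) _ _ (h0 V dV hV) (h1 W dW hW j)]
    simp only [TensorProduct.map_add_right, LinearMap.add_apply]
    module
  · rw [← key (i + 1) 0 (x (i + 1) 0) _ _ (h1 V dV hV i) (h0 W dW hW)]
    simp only [TensorProduct.map_add_left, LinearMap.add_apply]
    simp only [sq1, one_smul]
    module
  · rw [← key (i + 1) (j + 1) (x (i + 1) (j + 1)) _ _ (h1 V dV hV i) (h1 W dW hW j)]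
    simp only [TensorProduct.map_add_left, TensorProduct.map_add_right, LinearMap.add_apply]
    simp only [sq1, one_smul]
    module

theorem cincl_map_kclass {n : ℕ} (x : ∀ i j, V i ⊗[k] W j) (p : Idx n) :
    TensorProduct.map (cincl dV hV p.1.1) (cincl dW hW p.1.2) (kclass dV dW hV hW n x p) =
      TensorProduct.map (emap dV p.1.1 ∘ₗ emap dV p.1.1) (emap dW p.1.2 ∘ₗ emap dW p.1.2) (x p.1.1 p.1.2) := by
  rw [kclass, LinearMap.pi_apply, LinearMap.comp_apply, LinearMap.comp_apply, LinearMap.proj_apply,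
    LinearMap.proj_apply, ← LinearMap.comp_apply, ← TensorProduct.map_comp]
  rfl

include hV hW in
theorem kh_supp {n : ℕ} {x : ∀ i j, V i ⊗[k] W j} (hx : x ∈ supp k (fun i j => V i ⊗[k] W j) (n + 1)) :
    kh dV dW x ∈ supp k (fun i j => V i ⊗[k] W j) n := by
  intro i j hij
  simp [kh, hx (i + 1) j (by omega), hx i (j + 1) (by omega)]

include hV hW in
theorem sub_tD_kh {n : ℕ} {x : ∀ i j, V i ⊗[k] W j} (hx : x ∈ supp k (fun i j => V i ⊗[k] W j) n)
    (hD : tD dV dW x = 0) (hc : kclass dV dW hV hW n x = 0) : tD dV dW (kh dV dW x) = x := by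
  funext i j
  have h := kh_eq dV dW hV hW x i j
  rw [hD, map_zero, Pi.zero_apply, Pi.zero_apply, add_zero] at h
  rw [h, sub_eq_self]
  by_cases hij : i + j = n
  · have := cincl_map_kclass dV dW hV hW x (n := n) ⟨(i, j), Finset.mem_antidiagonal.2 hij⟩
    rw [hc, Pi.zero_apply, map_zero] at this
    exact this.symm
  · rw [hx i j hij, map_zero]

include hV hW in
/-- a cycle without class in degree zero vanishes -/
theorem eq_zero_of_kclass {x : ∀ i j, V i ⊗[k] W j} (hx : x ∈ supp k (fun i j => V i ⊗[k] W j) 0)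
    (hD : tD dV dW x = 0) (hc : kclass dV dW hV hW 0 x = 0) : x = 0 := by
  have h0 : kh dV dW x = 0 := by
    funext i j
    simp [kh, hx (i + 1) j (by omega), hx i (j + 1) (by omega)]
  rw [← sub_tD_kh dV dW hV hW hx hD hc, h0, map_zero]

include hV hW in
/-- a cycle without class bounds -/
theorem exists_of_kclass {n : ℕ} {x : ∀ i j, V i ⊗[k] W j}
    (hx : x ∈ supp k (fun i j => V i ⊗[k] W j) (n + 1)) (hD : tD dV dW x = 0)
    (hc : kclass dV dW hV hW (n + 1) x = 0) :
    ∃ y ∈ supp k (fun i j => V i ⊗[k] W j) n, tD dV dW y = x :=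
  ⟨kh dV dW x, kh_supp dV dW hV hW hx, sub_tD_kh dV dW hV hW hx hD hc⟩

include hV hW in
theorem kclass_tD (n : ℕ) (y : ∀ i j, V i ⊗[k] W j) : kclass dV dW hV hW n (tD dV dW y) = 0 := by
  funext p
  obtain ⟨⟨i, j⟩, hp⟩ := p
  show TensorProduct.map (cproj dV hV i) (cproj dW hW j) (tD dV dW y i j) = 0
  have zV : ∀ i, cproj dV hV (i + 1) ∘ₗ dV i = 0 := fun i => LinearMap.ext fun a => cproj_d dV hV i a
  have zW : ∀ i, cproj dW hW (i + 1) ∘ₗ dW i = 0 := fun i => LinearMap.ext fun a => cproj_d dW hW i a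
  rcases i with _ | i <;> rcases j with _ | j
  all_goals
    simp only [tD, dbl_zero_zero, dbl_zero_succ, dbl_succ_zero, dbl_succ_succ, tdh, tdv, map_zero, map_add,
      LinearMap.smul_apply, map_smul, ← LinearMap.comp_apply, ← TensorProduct.map_comp, zV, zW,
      TensorProduct.map_zero_left, TensorProduct.map_zero_right, LinearMap.zero_apply, smul_zero, add_zero]

include hV hW in
/-- every family of classes is the class of a cycle -/
theorem exists_kclass_eq (n : ℕ) (c : ∀ p : Idx n, Coh dV p.1.1 ⊗[k] Coh dW p.1.2) :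
    ∃ x ∈ supp k (fun i j => V i ⊗[k] W j) n, tD dV dW x = 0 ∧ kclass dV dW hV hW n x = c := by
  classical
  let x : ∀ i j, V i ⊗[k] W j := fun i j =>
    if h : i + j = n then TensorProduct.map (cincl dV hV i) (cincl dW hW j) (c ⟨(i, j), Finset.mem_antidiagonal.2 h⟩)
    else 0
  refine ⟨x, fun i j h => dif_neg h, ?_, funext fun ⟨⟨i, j⟩, hp⟩ => ?_⟩
  · have h1 : ∀ i j, TensorProduct.map (dV i) (LinearMap.id : W j →ₗ[k] W j) (x i j) = 0 := fun i j => by
      by_cases h : i + j = n
      · simp only [x, dif_pos h, ← LinearMap.comp_apply, ← TensorProduct.map_comp]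
        rw [show dV i ∘ₗ cincl dV hV i = 0 from LinearMap.ext (d_cincl dV hV i), TensorProduct.map_zero_left]
        rfl
      · simp only [x, dif_neg h, map_zero]
    have h2 : ∀ i j, TensorProduct.map (LinearMap.id : V i →ₗ[k] V i) (dW j) (x i j) = 0 := fun i j => by
      by_cases h : i + j = n
      · simp only [x, dif_pos h, ← LinearMap.comp_apply, ← TensorProduct.map_comp]
        rw [show dW j ∘ₗ cincl dW hW j = 0 from LinearMap.ext (d_cincl dW hW j), TensorProduct.map_zero_right]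
        rfl
      · simp only [x, dif_neg h, map_zero]
    funext i j
    rcases i with _ | i <;> rcases j with _ | j
    all_goals
      simp only [tD, dbl_zero_zero, dbl_zero_succ, dbl_succ_zero, dbl_succ_succ, tdh, tdv, LinearMap.smul_apply,
        h1, h2, smul_zero, add_zero, Pi.zero_apply]
  · show TensorProduct.map (cproj dV hV i) (cproj dW hW j) (x i j) = _
    have hij : i + j = n := Finset.mem_antidiagonal.1 hp
    simp only [x, dif_pos hij, ← LinearMap.comp_apply, ← TensorProduct.map_comp]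
    rw [show cproj dV hV i ∘ₗ cincl dV hV i = LinearMap.id from LinearMap.ext (cproj_cincl dV hV i),
      show cproj dW hW j ∘ₗ cincl dW hW j = LinearMap.id from LinearMap.ext (cproj_cincl dW hW j),
      TensorProduct.map_id]
    rfl

end Kunneth

end Groth.Agent.GrSeg54
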