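import Groth.Agent.GrSeg54.Field
import Groth.Agent.GrSeg54.Kunneth

/-!
The total complex of the Segre products of two complexes of graded modules, degree by degree.
-/

set_option autoImplicit false

universe u

open scoped TensorProduct
open DirectSum GrLC

namespace Groth.Agent.GrSeg54

open Groth.Agent.CAlg6

variable {k : Type u} [Field k] {R S T : Type u} [CommRing R] [CommRing S] [CommRing T]
  [Algebra k R] [Algebra k S] [Algebra k T]
  {𝒜 : ℤ → Submodule k R} [GradedAlgebra 𝒜] {ℬ : ℤ → Submodule k S} [GradedAlgebra ℬ]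
  {𝒯 : ℤ → Submodule k T} [GradedAlgebra 𝒯] {ψ : T →ₐ[k] R ⊗[k] S}

/-- a homogeneous property holds for all elements killed by a homogeneous map -/
theorem exists_of_homog {A : Type u} [CommRing A] {σ : Type u} [SetLike σ A] [AddSubgroupClass σ A]
    {𝒞 : ℤ → σ} [GradedRing 𝒞] {U V W : GMod.{u} 𝒞} (f : U.carrier →ₗ[A] V.carrier)
    (g : V.carrier →ₗ[A] W.carrier) (hg : IsGrHom V.gr W.gr g)
    (h : ∀ d, ∀ y ∈ V.gr d, g y = 0 → ∃ z, f z = y) {y : V.carrier} (hy : g y = 0) : ∃ z, f z = y := by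
  have hd : ∀ d, ∃ z, f z = GrMod19.cmp V.gr d y := fun d =>
    h d _ (GrMod19.cmp_mem V.gr d y) (by rw [GrMod19.map_cmp V.gr W.gr hg, hy, map_zero])
  choose z hz using hd
  obtain ⟨t, ht⟩ := GrMod19.exists_sum_cmp V.gr y
  exact ⟨∑ d ∈ t, z d, by rw [map_sum, Finset.sum_congr rfl fun d _ => hz d, ht]⟩

/-- the restriction of a homogeneous map to a piece -/
noncomputable def pmap {X X' : GMod.{u} 𝒜} (f : X.carrier →ₗ[R] X'.carrier) (hf : IsGrHom X.gr X'.gr f) (d : ℤ) :
    pieceK X d →ₗ[k] pieceK X' d :=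
  (linK f).restrict fun x hx => hf d x hx

/-- the projection onto a piece -/
noncomputable def pd (X : GMod.{u} 𝒜) (d : ℤ) : X.carrier →ₗ[k] pieceK X d :=
  (prK X d).codRestrict _ fun x => Seg.prj_mem 𝒜 X.gr d x

theorem pd_of_mem {X : GMod.{u} 𝒜} {d : ℤ} (x : pieceK X d) : pd X d x.1 = x :=
  Subtype.ext (Seg.prj_of_mem 𝒜 X.gr x.2)

theorem pd_comp_subtype (X : GMod.{u} 𝒜) (d : ℤ) : pd X d ∘ₗ (pieceK X d).subtype = LinearMap.id :=
  LinearMap.ext pd_of_mem

theorem pd_comp_linK {X X' : GMod.{u} 𝒜} (f : X.carrier →ₗ[R] X'.carrier) (hf : IsGrHom X.gr X'.gr f) (d : ℤ) :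
    pd X' d ∘ₗ linK f = pmap f hf d ∘ₗ pd X d :=
  LinearMap.ext fun x => Subtype.ext (GrMod19.map_cmp X.gr X'.gr hf d x).symm

variable (hT : GrSeg.IsSegreRing 𝒜 ℬ 𝒯 ψ)

theorem map_subtype_mem (X : GMod.{u} 𝒜) (Y : GMod.{u} ℬ) (d : ℤ) (u : pieceK X d ⊗[k] pieceK Y d) :
    TensorProduct.map (pieceK X d).subtype (pieceK Y d).subtype u ∈ GrSeg.segrePiece k X.gr Y.gr d := by
  induction u using TensorProduct.induction_on with
  | zero => rw [map_zero]; exact zero_mem _
  | add a b ha hb => rw [map_add]; exact add_mem ha hb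
  | tmul a b =>
    rw [TensorProduct.map_tmul]
    exact Seg.tmul_mem_piece X.gr Y.gr a.2 b.2

theorem map_subtype_pd {X : GMod.{u} 𝒜} {Y : GMod.{u} ℬ} {d : ℤ} {w : X.carrier ⊗[k] Y.carrier}
    (hw : w ∈ GrSeg.segrePiece k X.gr Y.gr d) :
    TensorProduct.map (pieceK X d).subtype (pieceK Y d).subtype (TensorProduct.map (pd X d) (pd Y d) w) = w := by
  rw [← LinearMap.comp_apply, ← TensorProduct.map_comp]
  exact (map_prK_of_mem X Y hw d).trans (if_pos rfl)

/-- the projection of a Segre product onto the tensor product of two pieces -/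
noncomputable def locMap (X : GMod.{u} 𝒜) (Y : GMod.{u} ℬ) (d : ℤ) :
    (segG X Y hT).carrier →ₗ[k] pieceK X d ⊗[k] pieceK Y d :=
  TensorProduct.map (pd X d) (pd Y d) ∘ₗ val X Y hT

theorem locMap_injOn {X : GMod.{u} 𝒜} {Y : GMod.{u} ℬ} {d : ℤ} {v : (segG X Y hT).carrier}
    (hv : v ∈ (segG X Y hT).gr d) (h : locMap hT X Y d v = 0) : v = 0 := by
  refine val_injective X Y hT ?_
  rw [map_zero, ← map_subtype_pd ((mem_gr_iff X Y hT).1 hv)]
  exact (congrArg _ h).trans (map_zero _)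

theorem exists_locMap_eq (X : GMod.{u} 𝒜) (Y : GMod.{u} ℬ) (d : ℤ) (u : pieceK X d ⊗[k] pieceK Y d) :
    ∃ v ∈ (segG X Y hT).gr d, locMap hT X Y d v = u := by
  obtain ⟨v, hv, hvu⟩ := exists_val_piece X Y hT (map_subtype_mem X Y d u)
  refine ⟨v, hv, ?_⟩
  rw [locMap, LinearMap.comp_apply, hvu, ← LinearMap.comp_apply, ← TensorProduct.map_comp, pd_comp_subtype,
    pd_comp_subtype, TensorProduct.map_id, LinearMap.id_apply]

theorem locMap_segMap {X X' : GMod.{u} 𝒜} {Y Y' : GMod.{u} ℬ} (f : X.carrier →ₗ[R] X'.carrier)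
    (g : Y.carrier →ₗ[S] Y'.carrier) (hf : IsGrHom X.gr X'.gr f) (hg : IsGrHom Y.gr Y'.gr g) (d : ℤ)
    (v : (segG X Y hT).carrier) :
    locMap hT X' Y' d (segMap X Y hT f g hf hg v) =
      TensorProduct.map (pmap f hf d) (pmap g hg d) (locMap hT X Y d v) := by
  rw [locMap, locMap, LinearMap.comp_apply, LinearMap.comp_apply, val_segMap, ← LinearMap.comp_apply,
    ← TensorProduct.map_comp, pd_comp_linK f hf, pd_comp_linK g hg, TensorProduct.map_comp, LinearMap.comp_apply]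

section Complex

variable (X : ℕ → GMod.{u} 𝒜) (Y : ℕ → GMod.{u} ℬ)

/-- the bigraded family of Segre products -/
abbrev cell (i j : ℕ) : Type u := (segG (X i) (Y j) hT).carrier

theorem segGr_cmp_ne_finite (n : ℕ) (x : supp T (cell hT X Y) n) :
    ∃ t : Finset ℤ, ∀ i j, ∀ d ∉ t, GrMod19.cmp (segG (X i) (Y j) hT).gr d (x.1 i j) = 0 := by
  classical
  refine ⟨(Finset.HasAntidiagonal.antidiagonal n).biUnion fun p =>
    (GrMod19.finite_cmp_ne_zero (segG (X p.1) (Y p.2) hT).gr (x.1 p.1 p.2)).toFinset, fun i j d hd => ?_⟩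
  by_cases hij : i + j = n
  · by_contra h
    exact hd (Finset.mem_biUnion.2 ⟨(i, j), Finset.HasAntidiagonal.mem_antidiagonal.2 hij, (Set.Finite.mem_toFinset _).2 h⟩)
  · rw [x.2 i j hij, map_zero]

/-- the pieces of the total complex -/
def totGr (n : ℕ) (d : ℤ) : AddSubgroup (supp T (cell hT X Y) n) where
  carrier := {x | ∀ i j, x.1 i j ∈ (segG (X i) (Y j) hT).gr d}
  add_mem' hx hy i j := add_mem (hx i j) (hy i j)
  zero_mem' i j := zero_mem _
  neg_mem' hx i j := neg_mem (hx i j)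

theorem totGr_isInternal (n : ℕ) : IsInternal (totGr hT X Y n) := by
  let c : ℤ → supp T (cell hT X Y) n →+ supp T (cell hT X Y) n := fun d =>
    { toFun := fun x => ⟨fun i j => GrMod19.cmp (segG (X i) (Y j) hT).gr d (x.1 i j), fun i j h => by
        show GrMod19.cmp (segG (X i) (Y j) hT).gr d (x.1 i j) = 0
        rw [x.2 i j h, map_zero]⟩
      map_zero' := Subtype.ext (funext fun i => funext fun j => map_zero _)
      map_add' := fun x y => Subtype.ext (funext fun i => funext fun j => map_add _ _ _) }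
  refine GrInj18.isInternal_of_proj _ c (fun d x i j => GrMod19.cmp_mem (segG (X i) (Y j) hT).gr d (x.1 i j)) ?_
    (fun d x hx => Subtype.ext (funext fun i => funext fun j => GrMod19.cmp_of_mem _ (hx i j)))
    (fun d e x hx h => Subtype.ext (funext fun i => funext fun j => GrMod19.cmp_of_ne _ (hx i j) h))
  intro x
  classical
  obtain ⟨t, ht⟩ := segGr_cmp_ne_finite hT X Y n x
  refine ⟨t, Subtype.ext (funext fun i => funext fun j => ?_)⟩
  rw [AddSubmonoidClass.coe_finsetSum, Finset.sum_apply, Finset.sum_apply]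
  refine GrMod19.eq_of_cmp (segG (X i) (Y j) hT).gr fun e => ?_
  show GrMod19.cmp _ e (∑ d ∈ t, GrMod19.cmp (segG (X i) (Y j) hT).gr d (x.1 i j)) = _
  rw [map_sum, Finset.sum_eq_single e]
  · exact GrMod19.cmp_of_mem _ (GrMod19.cmp_mem (segG (X i) (Y j) hT).gr e _)
  · exact fun d _ h => GrMod19.cmp_of_ne _ (GrMod19.cmp_mem (segG (X i) (Y j) hT).gr d _) h
  · intro he
    rw [ht i j e he, map_zero]

/-- the total Segre module in one cohomological degree -/
noncomputable def totG (n : ℕ) : GMod.{u} 𝒯 where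
  carrier := supp T (cell hT X Y) n
  gr := totGr hT X Y n
  dec := (totGr_isInternal hT X Y n).chooseDecomposition
  gsmul := ⟨fun {p q} t x ht hx i j => GrMod19.smul_mem_add 𝒯 (segG (X i) (Y j) hT).gr ht (hx i j)⟩

/-- the underlying family -/
noncomputable def fam (n : ℕ) : (totG hT X Y n).carrier →ₗ[T] (∀ i j, cell hT X Y i j) :=
  (supp T (cell hT X Y) n).subtype

theorem fam_injective (n : ℕ) : Function.Injective (fam hT X Y n) := Subtype.val_injective

theorem fam_mem (n : ℕ) (x : (totG hT X Y n).carrier) : fam hT X Y n x ∈ supp T (cell hT X Y) n :=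
  (show supp T (cell hT X Y) n from x).2

theorem fam_gr {n : ℕ} {d : ℤ} {x : (totG hT X Y n).carrier} :
    x ∈ (totG hT X Y n).gr d ↔ ∀ i j, fam hT X Y n x i j ∈ (segG (X i) (Y j) hT).gr d := Iff.rfl

theorem exists_fam_eq {n : ℕ} {F : ∀ i j, cell hT X Y i j} (hF : F ∈ supp T (cell hT X Y) n) :
    ∃ x : (totG hT X Y n).carrier, fam hT X Y n x = F :=
  ⟨(⟨F, hF⟩ : supp T (cell hT X Y) n), rfl⟩

/-- pointwise projection onto the tensor products of pieces -/
noncomputable def toLoc (n : ℕ) (d : ℤ) :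
    (totG hT X Y n).carrier →ₗ[k] (∀ i j, pieceK (X i) d ⊗[k] pieceK (Y j) d) where
  toFun x i j := locMap hT (X i) (Y j) d (fam hT X Y n x i j)
  map_add' x y := funext fun i => funext fun j => by
    show _ = locMap hT (X i) (Y j) d _ + locMap hT (X i) (Y j) d _
    rw [map_add, Pi.add_apply, Pi.add_apply, map_add]
  map_smul' c x := funext fun i => funext fun j => by
    show locMap hT (X i) (Y j) d (fam hT X Y n (algebraMap k T c • x) i j) = c • locMap hT (X i) (Y j) d _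
    rw [map_smul, Pi.smul_apply, Pi.smul_apply, algebraMap_smul, map_smul]

theorem toLoc_mem (n : ℕ) (d : ℤ) (x : (totG hT X Y n).carrier) :
    toLoc hT X Y n d x ∈ supp k (fun i j => pieceK (X i) d ⊗[k] pieceK (Y j) d) n := fun i j h => by
  show locMap hT (X i) (Y j) d (fam hT X Y n x i j) = 0
  rw [fam_mem hT X Y n x i j h, map_zero]

theorem toLoc_injOn {n : ℕ} {d : ℤ} {x : (totG hT X Y n).carrier} (hx : x ∈ (totG hT X Y n).gr d)
    (h : toLoc hT X Y n d x = 0) : x = 0 := by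
  refine fam_injective hT X Y n ?_
  rw [map_zero]
  funext i j
  exact locMap_injOn hT (hx i j) (congrFun (congrFun h i) j)

theorem exists_toLoc_eq (n : ℕ) (d : ℤ) {ξ : ∀ i j, pieceK (X i) d ⊗[k] pieceK (Y j) d}
    (hξ : ξ ∈ supp k (fun i j => pieceK (X i) d ⊗[k] pieceK (Y j) d) n) :
    ∃ x ∈ (totG hT X Y n).gr d, toLoc hT X Y n d x = ξ := by
  choose v hv hvu using fun i j => exists_locMap_eq hT (X i) (Y j) d (ξ i j)
  have hsupp : v ∈ supp T (cell hT X Y) n := fun i j h => locMap_injOn hT (hv i j) (by rw [hvu, hξ i j h])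
  obtain ⟨x, hx⟩ := exists_fam_eq hT X Y hsupp
  refine ⟨x, fun i j => ?_, funext fun i => funext fun j => ?_⟩
  · show fam hT X Y n x i j ∈ _
    rw [hx]
    exact hv i j
  · show locMap hT (X i) (Y j) d (fam hT X Y n x i j) = _
    rw [hx, hvu]

variable (dX : ∀ i, (X i).carrier →ₗ[R] (X (i + 1)).carrier) (dY : ∀ j, (Y j).carrier →ₗ[S] (Y (j + 1)).carrier)
  (hX : ∀ i, IsGrHom (X i).gr (X (i + 1)).gr (dX i)) (hY : ∀ j, IsGrHom (Y j).gr (Y (j + 1)).gr (dY j))

/-- the first differential -/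
noncomputable def segH (i j : ℕ) : cell hT X Y i j →ₗ[T] cell hT X Y (i + 1) j :=
  segMap (X i) (Y j) hT (dX i) LinearMap.id (hX i) fun _ _ h => h

/-- the second differential -/
noncomputable def segV (i j : ℕ) : cell hT X Y i j →ₗ[T] cell hT X Y i (j + 1) :=
  (-1 : T) ^ i • segMap (X i) (Y j) hT LinearMap.id (dY j) (fun _ _ h => h) (hY j)

/-- the total differential -/
noncomputable def totD (n : ℕ) : (totG hT X Y n).carrier →ₗ[T] (totG hT X Y (n + 1)).carrier :=
  (dbl (segH hT X Y dX hX) (segV hT X Y dY hY)).restrict fun _ hx => dbl_mem_supp _ _ hx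

theorem fam_totD (n : ℕ) (x : (totG hT X Y n).carrier) :
    fam hT X Y (n + 1) (totD hT X Y dX dY hX hY n x) =
      dbl (segH hT X Y dX hX) (segV hT X Y dY hY) (fam hT X Y n x) := rfl

theorem segV_mem {i j : ℕ} {d : ℤ} {v : cell hT X Y i j} (hv : v ∈ (segG (X i) (Y j) hT).gr d) :
    segV hT X Y dY hY i j v ∈ (segG (X i) (Y (j + 1)) hT).gr d := by
  have h1 : (-1 : T) ^ i ∈ 𝒯 0 := by
    have : (-1 : T) ∈ 𝒯 0 := neg_mem (SetLike.one_mem_graded 𝒯)
    simpa using SetLike.pow_mem_graded i this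
  have h2 := GrMod19.smul_mem_add 𝒯 (segG (X i) (Y (j + 1)) hT).gr h1
    (segMap_gr (X i) (Y j) hT LinearMap.id (dY j) (fun _ _ h => h) (hY j) d v hv)
  rwa [zero_add] at h2

theorem totD_gr (n : ℕ) : IsGrHom (totG hT X Y n).gr (totG hT X Y (n + 1)).gr (totD hT X Y dX dY hX hY n) := by
  intro d x hx i j
  show fam hT X Y (n + 1) (totD hT X Y dX dY hX hY n x) i j ∈ _
  rw [fam_totD]
  rcases i with _ | i <;> rcases j with _ | j
  · rw [dbl_zero_zero]; exact zero_mem _
  · rw [dbl_zero_succ]; exact segV_mem hT X Y dY hY (hx 0 j)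
  · rw [dbl_succ_zero]; exact segMap_gr _ _ hT _ _ _ _ d _ (hx i 0)
  · rw [dbl_succ_succ]
    exact add_mem (segMap_gr _ _ hT _ _ _ _ d _ (hx i (j + 1))) (segV_mem hT X Y dY hY (hx (i + 1) j))

theorem toLoc_totD (n : ℕ) (d : ℤ) (x : (totG hT X Y n).carrier) :
    toLoc hT X Y (n + 1) d (totD hT X Y dX dY hX hY n x) =
      tD (fun i => pmap (dX i) (hX i) d) (fun j => pmap (dY j) (hY j) d) (toLoc hT X Y n d x) := by
  have hid : ∀ {A : Type u} [CommRing A] [Algebra k A] {𝒞 : ℤ → Submodule k A} [GradedAlgebra 𝒞] (U : GMod.{u} 𝒞),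
      pmap (LinearMap.id : U.carrier →ₗ[A] U.carrier) (fun _ _ h => h) d = LinearMap.id := fun U => rfl
  funext i j
  show locMap hT (X i) (Y j) d (fam hT X Y (n + 1) (totD hT X Y dX dY hX hY n x) i j) = _
  rw [fam_totD]
  refine dbl_natural (segH hT X Y dX hX) (segV hT X Y dY hY) _ _
    (fun i j => (locMap hT (X i) (Y j) d).toAddMonoidHom) (fun i j y => ?_) (fun i j y => ?_) (fam hT X Y n x) i j
  · show locMap hT (X (i + 1)) (Y j) d (segMap (X i) (Y j) hT (dX i) LinearMap.id (hX i) _ y) = _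
    rw [locMap_segMap, hid]
    rfl
  · show locMap hT (X i) (Y (j + 1)) d
      ((-1 : T) ^ i • segMap (X i) (Y j) hT LinearMap.id (dY j) (fun _ _ h => h) (hY j) y) = _
    rw [show (-1 : T) ^ i = algebraMap k T ((-1) ^ i) by simp, algebraMap_smul, map_smul, locMap_segMap, hid]
    rfl

variable (ddX : ∀ i x, dX (i + 1) (dX i x) = 0) (ddY : ∀ j y, dY (j + 1) (dY j y) = 0)

include ddX ddY in
theorem totD_totD (n : ℕ) (x : (totG hT X Y n).carrier) :
    totD hT X Y dX dY hX hY (n + 1) (totD hT X Y dX dY hX hY n x) = 0 := by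
  refine fam_injective hT X Y _ ?_
  rw [fam_totD, fam_totD, map_zero]
  refine dbl_dbl _ _ (fun i j y => ?_) (fun i j y => ?_) (fun i j y => ?_) _
  · refine val_injective _ _ hT ?_
    rw [segH, segH, val_segMap, val_segMap, map_zero, ← LinearMap.comp_apply, ← TensorProduct.map_comp,
      show linK (dX (i + 1)) ∘ₗ linK (dX i) = 0 from LinearMap.ext (ddX i), TensorProduct.map_zero_left,
      LinearMap.zero_apply]
  · refine val_injective _ _ hT ?_
    simp only [segV, LinearMap.smul_apply, map_smul, map_zero]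
    rw [show ((-1 : T) ^ i : T) = algebraMap k T ((-1) ^ i) by simp]
    simp only [algebraMap_smul, map_smul, val_segMap]
    rw [← LinearMap.comp_apply, ← TensorProduct.map_comp,
      show linK (dY (j + 1)) ∘ₗ linK (dY j) = 0 from LinearMap.ext (ddY j), TensorProduct.map_zero_right,
      LinearMap.zero_apply, smul_zero, smul_zero]
  · refine val_injective _ _ hT ?_
    simp only [segH, segV, LinearMap.smul_apply, map_smul, map_zero, map_add]
    rw [show ((-1 : T) ^ (i + 1) : T) = algebraMap k T (-((-1) ^ i)) by simp [pow_succ],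
      show ((-1 : T) ^ i : T) = algebraMap k T ((-1) ^ i) by simp]
    simp only [algebraMap_smul, map_smul, val_segMap, neg_smul, map_neg]
    rw [← LinearMap.comp_apply (TensorProduct.map (linK (dX i)) _), ← TensorProduct.map_comp,
      ← LinearMap.comp_apply (TensorProduct.map (linK LinearMap.id) _), ← TensorProduct.map_comp]
    exact add_neg_cancel _

/-- the classes of degree `d` -/
noncomputable def cls (n : ℕ) (d : ℤ) : (totG hT X Y n).carrier →ₗ[k]
    (∀ p : Idx n, Coh (fun i => pmap (dX i) (hX i) d) p.1.1 ⊗[k] Coh (fun j => pmap (dY j) (hY j) d) p.1.2) :=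
  kclass (fun i => pmap (dX i) (hX i) d) (fun j => pmap (dY j) (hY j) d)
    (fun i x => Subtype.ext (ddX i x.1)) (fun j y => Subtype.ext (ddY j y.1)) n ∘ₗ toLoc hT X Y n d

theorem cls_apply (n : ℕ) (d : ℤ) (x : (totG hT X Y n).carrier) (p : Idx n) :
    cls hT X Y dX dY hX hY ddX ddY n d x p =
      TensorProduct.map (cproj (fun i => pmap (dX i) (hX i) d) (fun i x => Subtype.ext (ddX i x.1)) p.1.1)
        (cproj (fun j => pmap (dY j) (hY j) d) (fun j y => Subtype.ext (ddY j y.1)) p.1.2)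
        (locMap hT (X p.1.1) (Y p.1.2) d (fam hT X Y n x p.1.1 p.1.2)) := rfl

theorem cls_totD (n : ℕ) (d : ℤ) (y : (totG hT X Y n).carrier) :
    cls hT X Y dX dY hX hY ddX ddY (n + 1) d (totD hT X Y dX dY hX hY n y) = 0 := by
  rw [cls, LinearMap.comp_apply, toLoc_totD, kclass_tD]

theorem exists_cls_eq (n : ℕ) (d : ℤ)
    (c : ∀ p : Idx n, Coh (fun i => pmap (dX i) (hX i) d) p.1.1 ⊗[k] Coh (fun j => pmap (dY j) (hY j) d) p.1.2) :
    ∃ x ∈ (totG hT X Y n).gr d, totD hT X Y dX dY hX hY n x = 0 ∧ cls hT X Y dX dY hX hY ddX ddY n d x = c := by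
  obtain ⟨ξ, hξ, hD, hc⟩ := exists_kclass_eq (fun i => pmap (dX i) (hX i) d) (fun j => pmap (dY j) (hY j) d)
    (fun i x => Subtype.ext (ddX i x.1)) (fun j y => Subtype.ext (ddY j y.1)) n c
  obtain ⟨x, hx, hxξ⟩ := exists_toLoc_eq hT X Y n d hξ
  refine ⟨x, hx, toLoc_injOn hT X Y (totD_gr hT X Y dX dY hX hY n d x hx) ?_, ?_⟩
  · rw [toLoc_totD, hxξ, hD]
  · rw [cls, LinearMap.comp_apply, hxξ, hc]

theorem exists_bdy_of_cls {n : ℕ} {d : ℤ} {x : (totG hT X Y (n + 1)).carrier}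
    (hx : x ∈ (totG hT X Y (n + 1)).gr d) (hD : totD hT X Y dX dY hX hY (n + 1) x = 0)
    (hc : cls hT X Y dX dY hX hY ddX ddY (n + 1) d x = 0) :
    ∃ y ∈ (totG hT X Y n).gr d, totD hT X Y dX dY hX hY n y = x := by
  obtain ⟨η, hη, he⟩ := exists_of_kclass (fun i => pmap (dX i) (hX i) d) (fun j => pmap (dY j) (hY j) d)
    (fun i x => Subtype.ext (ddX i x.1)) (fun j y => Subtype.ext (ddY j y.1)) (toLoc_mem hT X Y (n + 1) d x)
    (by rw [← toLoc_totD hT X Y dX dY hX hY, hD, map_zero]) hc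
  obtain ⟨y, hy, hyη⟩ := exists_toLoc_eq hT X Y n d hη
  refine ⟨y, hy, sub_eq_zero.1 (toLoc_injOn hT X Y (d := d) (sub_mem (totD_gr hT X Y dX dY hX hY n d y hy) hx) ?_)⟩
  rw [map_sub, toLoc_totD, hyη, he, sub_self]

theorem eq_zero_of_cls {d : ℤ} {x : (totG hT X Y 0).carrier} (hx : x ∈ (totG hT X Y 0).gr d)
    (hD : totD hT X Y dX dY hX hY 0 x = 0) (hc : cls hT X Y dX dY hX hY ddX ddY 0 d x = 0) : x = 0 :=
  toLoc_injOn hT X Y hx (eq_zero_of_kclass (fun i => pmap (dX i) (hX i) d) (fun j => pmap (dY j) (hY j) d)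
    (fun i x => Subtype.ext (ddX i x.1)) (fun j y => Subtype.ext (ddY j y.1)) (toLoc_mem hT X Y 0 d x)
    (by rw [← toLoc_totD hT X Y dX dY hX hY, hD, map_zero]) hc)

end Complex

end Groth.Agent.GrSeg54
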