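import Groth.Agent.GrSeg54.Bridge
import Groth.Agent.CAlg6.SegDim
import Groth.Agent.CAlg6.SegModule

/-!
Dimension of the Segre product of two Cohen–Macaulay modules.
-/

set_option autoImplicit false

universe u

open scoped TensorProduct
open DirectSum GrLC

namespace Groth.Agent.GrSeg54

open Groth.Agent.CAlg6

variable {k : Type u} [Field k] {R : Type u} [CommRing R] [Algebra k R] [IsNoetherianRing R]
  {𝒜 : ℤ → Submodule k R} [GradedAlgebra 𝒜]
  {M : Type u} [AddCommGroup M] [Module R M] [Module k M] [IsScalarTower k R M] [Module.Finite R M]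
  {τ : Type u} [SetLike τ M] [AddSubgroupClass τ M] (ℳ : ℤ → τ) [Decomposition ℳ] [SetLike.GradedSMul 𝒜 ℳ]
  (hpos : ∀ n : ℤ, n < 0 → 𝒜 n = ⊥) (h0 : 𝒜 0 = Submodule.span k {(1 : R)})

include hpos h0 ℳ in
/-- associated primes of Cohen–Macaulay graded modules are homogeneous of maximal dimension -/
theorem unmixed [Nontrivial M] {r : ℕ} (hd : Module.supportDim R M = r) (hcm : CMCrit.CMAll R M) {q : Ideal R}
    (hq : q ∈ associatedPrimes R M) :
    q.IsHomogeneous 𝒜 ∧ Module.annihilator R M ≤ q ∧ (r : WithBot ℕ∞) ≤ ringKrullDim (R ⧸ q) := by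
  haveI := IsAssociatedPrime.isPrime hq
  obtain ⟨m, hm⟩ := LC17.exists_annihilator_mem hq
  have hJq : Module.annihilator R M ≤ q := fun a ha => (hm a).1 (Module.mem_annihilator.1 ha m)
  have hJh := Seg.annihilator_homogeneous (k := k) (𝒜 := 𝒜) (ℳ := ℳ) (M := M)
  have hdep : LocCoh.depth (Localization.AtPrime q) (LocalizedModule q.primeCompl M) = 0 := by
    by_contra h
    exact LC17.not_nul_H0_of_associated q le_rfl hm
      ((LC17.natCast_le_depth_loc_iff q 1).1 (by exact_mod_cast Order.one_le_iff_ne_zero.2 h) 0 one_pos)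
  have hcmq : LocCoh.IsCohenMacaulayModule (Localization.AtPrime q) (LocalizedModule q.primeCompl M) := by
    refine (hcm q).resolve_left (not_subsingleton_iff_nontrivial.2 ?_)
    exact Module.mem_support_iff.1
      ((Module.mem_support_iff_of_finite (p := ⟨q, inferInstance⟩)).2 hJq)
  have h0' : (q.map (Ideal.Quotient.mk (Module.annihilator R M))).height = 0 := by
    have h : Module.supportDim (Localization.AtPrime q) (LocalizedModule q.primeCompl M) =
        ((LocCoh.depth (Localization.AtPrime q) (LocalizedModule q.primeCompl M) : ℕ∞) : WithBot ℕ∞) := hcmq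
    rw [GrMod19.Bass.supportDim_localized_eq q hJq, hdep] at h
    exact WithBot.coe_inj.1 h
  have hmin : q ∈ (Module.annihilator R M).minimalPrimes := by
    haveI : (q.map (Ideal.Quotient.mk (Module.annihilator R M))).IsPrime :=
      Ideal.map_isPrime_of_surjective Ideal.Quotient.mk_surjective (by rwa [Ideal.mk_ker])
    rw [Ideal.minimalPrimes_eq_comap]
    refine ⟨_, Ideal.height_eq_zero_iff.1 h0', ?_⟩
    rw [Ideal.comap_map_of_surjective _ Ideal.Quotient.mk_surjective, ← RingHom.ker_eq_comap_bot, Ideal.mk_ker,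
      sup_eq_left.2 hJq]
  have hqh := Seg.isHomogeneous_of_mem_minimalPrimes 𝒜 hJh hmin
  refine ⟨hqh, hJq, ?_⟩
  have : Nontrivial R := Module.nontrivial R M
  letI := gradedRingN (𝒜 := 𝒜)
  let mR : HomogeneousIdeal 𝒜 := ⟨Seg.plus 𝒜, Seg.plus_homogeneous 𝒜⟩
  let 𝔪 : HomogeneousIdeal (GrMod19.selfN 𝒜) := ⟨mR.toIdeal, (isHomogeneous_selfN_iff _).2 mR.isHomogeneous⟩
  haveI : 𝔪.toIdeal.IsMaximal := Seg.plus_isMaximal hpos h0
  haveI : SetLike.GradedSMul (GrMod19.selfN 𝒜) (GrMod19.selfN ℳ) :=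
    ⟨fun {i j} c m hc hm => SetLike.GradedSMul.smul_mem (A := 𝒜) (B := ℳ) hc hm⟩
  obtain ⟨hJm, hdim⟩ := CMCrit.supportDim_eq_star (𝔪 := 𝔪)
    (fun J hJ hne => Seg.le_plus hpos h0 ((isHomogeneous_selfN_iff J).1 hJ) hne) (GrMod19.selfN ℳ)
  have hqm : q ≤ 𝔪.toIdeal := Seg.le_plus hpos h0 hqh (IsAssociatedPrime.isPrime hq).ne_top
  have hmcm : LocCoh.IsCohenMacaulayModule (Localization.AtPrime 𝔪.toIdeal)
      (LocalizedModule 𝔪.toIdeal.primeCompl M) := by
    refine (hcm _).resolve_left (not_subsingleton_iff_nontrivial.2 ?_)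
    exact Module.mem_support_iff.1
      ((Module.mem_support_iff_of_finite (p := ⟨𝔪.toIdeal, inferInstance⟩)).2 hJm)
  have hmd : LocCoh.depth (Localization.AtPrime 𝔪.toIdeal) (LocalizedModule 𝔪.toIdeal.primeCompl M) = (r : ℕ∞) := by
    have h : Module.supportDim (Localization.AtPrime 𝔪.toIdeal) (LocalizedModule 𝔪.toIdeal.primeCompl M) =
        ((LocCoh.depth (Localization.AtPrime 𝔪.toIdeal) (LocalizedModule 𝔪.toIdeal.primeCompl M) : ℕ∞) :
          WithBot ℕ∞) := hmcm
    rw [← hdim, hd] at h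
    exact (WithBot.coe_inj.1 h).symm
  have h1 := LC17.depth_loc_le_add_height (M := M) hqm
  rw [hdep, hmd, zero_add] at h1
  have hp : (𝔪.toIdeal.map (Ideal.Quotient.mk q)).IsPrime :=
    Ideal.map_isPrime_of_surjective Ideal.Quotient.mk_surjective (by rwa [Ideal.mk_ker])
  exact (WithBot.coe_le_coe.2 h1).trans (Ideal.height_le_ringKrullDim_of_ne_top hp.ne_top)

omit [Module k M] [IsScalarTower k R M] [Module.Finite R M] in
include hpos in
/-- parameters stay independent on a quotient of full dimension -/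
theorem eq_zero_of_aeval_mem {r : ℕ} (x : Fin r → R) {D : ℕ} (hD : 0 < D) (hx : ∀ i, x i ∈ 𝒜 (D : ℤ))
    {q : Ideal R} (hq : q.IsHomogeneous 𝒜) (hfin : Module.Finite k (R ⧸ (q ⊔ Ideal.span (Set.range x))))
    (hdim : (r : WithBot ℕ∞) ≤ ringKrullDim (R ⧸ q)) (p : MvPolynomial (Fin r) k)
    (hp : MvPolynomial.aeval x p ∈ q) : p = 0 := by
  classical
  obtain ⟨GM, hGM⟩ := Seg.exists_gen (ℳ := 𝒜) hpos x hD hx q hfin q (fun n z hz => hq n hz)
    (by rw [Ideal.smul_top_eq_map]; simp)
  let f : MvPolynomial (Fin r) k →ₐ[k] R ⧸ q := (Ideal.Quotient.mkₐ k q).comp (MvPolynomial.aeval x)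
  have hf : f.toRingHom.Finite := by
    letI := f.toRingHom.toAlgebra
    refine ⟨⟨GM.image (Ideal.Quotient.mk q), eq_top_iff.2 fun z _ => ?_⟩⟩
    obtain ⟨z, rfl⟩ := Ideal.Quotient.mk_surjective z
    have hz : z ∈ Submodule.span k {z : R | ∃ a : MvPolynomial (Fin r) k, ∃ g ∈ GM,
        z = MvPolynomial.aeval x a • g} ⊔ (q : Submodule R R).restrictScalars k := hGM ▸ trivial
    obtain ⟨v, hv, w, hw, rfl⟩ := Submodule.mem_sup.1 hz
    rw [map_add, Ideal.Quotient.eq_zero_iff_mem.2 (show w ∈ q from hw), add_zero]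
    clear hz
    induction hv using Submodule.span_induction with
    | zero => rw [map_zero]; exact zero_mem _
    | add a b _ _ ha hb => rw [map_add]; exact add_mem (ha trivial) (hb trivial)
    | mem a ha =>
      obtain ⟨p, g, hg, rfl⟩ := ha
      rw [smul_eq_mul, map_mul]
      exact Submodule.smul_mem _ p (Submodule.subset_span (Finset.mem_coe.2 (Finset.mem_image_of_mem _ hg)))
    | smul c a _ ha =>
      rw [Algebra.smul_def, map_mul]
      have := Submodule.smul_mem _ (MvPolynomial.C c) (ha trivial)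
      rwa [Algebra.smul_def, RingHom.algebraMap_toAlgebra,
        show (f.toRingHom (MvPolynomial.C c)) = Ideal.Quotient.mk q (algebraMap k R c) by simp [f]] at this
  have hle : ringKrullDim (R ⧸ q) ≤ ringKrullDim (MvPolynomial (Fin r) k ⧸ RingHom.ker f.toRingHom) := by
    have hint : f.toRingHom.IsIntegral := hf.to_isIntegral
    letI := f.toRingHom.kerLift.toAlgebra
    have : Algebra.IsIntegral (MvPolynomial (Fin r) k ⧸ RingHom.ker f.toRingHom) (R ⧸ q) := ⟨fun z => by
      obtain ⟨g, hg, hg'⟩ := hint z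
      refine ⟨g.map (Ideal.Quotient.mk _), hg.map _, ?_⟩
      rw [Polynomial.eval₂_map]
      exact hg'⟩
    exact EGA4Alg4.ringKrullDim_le_of_integral _ _
  by_contra hp0
  have hker : p ∈ RingHom.ker f.toRingHom := by
    rw [RingHom.mem_ker]
    exact Ideal.Quotient.eq_zero_iff_mem.2 hp
  have h1 := ringKrullDim_succ_le_of_surjective (Ideal.Quotient.mk (RingHom.ker f.toRingHom))
    Ideal.Quotient.mk_surjective (mem_nonZeroDivisors_of_ne_zero hp0) (Ideal.Quotient.eq_zero_iff_mem.2 hker)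
  have h2 : (r : WithBot ℕ∞) + 1 ≤ r := by
    refine le_trans ?_ (h1.trans_eq ?_)
    · gcongr; exact hdim.trans hle
    · rw [MvPolynomial.ringKrullDim_of_isNoetherianRing, ringKrullDim_eq_zero_of_field, zero_add, Nat.card_fin]
  exact absurd (show r + 1 ≤ r by exact_mod_cast h2) (by omega)

include hpos h0 ℳ in
/-- a Cohen–Macaulay module is torsion-free over a normalization -/
theorem torsionfree_normalization [Nontrivial M] {r : ℕ} (hd : Module.supportDim R M = r)
    (hcm : CMCrit.CMAll R M) (x : Fin r → R) {D : ℕ} (hD : 0 < D) (hx : ∀ i, x i ∈ 𝒜 (D : ℤ))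
    (hfin : Module.Finite k (R ⧸ (Module.annihilator R M ⊔ Ideal.span (Set.range x))))
    {m : M} (hm : m ≠ 0) (p : MvPolynomial (Fin r) k) (hp : MvPolynomial.aeval x p • m = 0) : p = 0 := by
  obtain ⟨q, hq, hle⟩ := exists_le_isAssociatedPrime_of_isNoetherianRing R m hm
  obtain ⟨hqh, hJq, hdim⟩ := unmixed ℳ hpos h0 hd hcm hq
  refine eq_zero_of_aeval_mem hpos x hD hx hqh ?_ hdim p (hle (Submodule.mem_colon_singleton.2 hp))
  have hle' : Module.annihilator R M ⊔ Ideal.span (Set.range x) ≤ q ⊔ Ideal.span (Set.range x) :=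
    sup_le_sup_right hJq _
  exact Module.Finite.of_surjective (Ideal.Quotient.factorₐ k hle').toLinearMap
    (Ideal.Quotient.factor_surjective hle')

end Groth.Agent.GrSeg54
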