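import Groth.Agent.GrSeg54.GorDescend
import Groth.Agent.GrSeg54.SegCM
import Groth.Agent.GrSeg54.RingCase
import Groth.Agent.Gor18.Local
import Groth.Agent.LC15.Gamma

/-!
Gorenstein Segre products of one-dimensional standard graded algebras.
-/

set_option autoImplicit false
set_option maxHeartbeats 400000

universe u

open scoped TensorProduct
open DirectSum GrLC

namespace Groth.Agent.GrSeg54

open Groth.Agent.CAlg6

variable {k : Type u} [Field k]

section One

variable {R : Type u} [CommRing R] [Algebra k R] [Algebra.FiniteType k R]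
  {𝒜 : ℤ → Submodule k R} [GradedAlgebra 𝒜]
  (hpos : ∀ n : ℤ, n < 0 → 𝒜 n = ⊥) (h0 : 𝒜 0 = Submodule.span k {(1 : R)})
  (hstd : Ideal.span (⋃ n ∈ Set.Ioi (0 : ℤ), (𝒜 n : Set R)) = Ideal.span ((𝒜 1 : Submodule k R) : Set R))
  [LocCoh.IsCohenMacaulayRing R] (hr : ringKrullDim R = (1 : ℕ))

omit [Algebra.FiniteType k R] [LocCoh.IsCohenMacaulayRing R] in
include hpos h0 in
theorem finite_pieceN [Nontrivial R] [IsNoetherianRing R] (n : ℤ) : Module.Finite k (𝒜 n) := by
  have h := finite_kPc (C := R) hpos h0 (mR := plusH 𝒜) rfl (shR 𝒜 0) n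
  have e : kPc 𝒜 (shR 𝒜 0) n = 𝒜 n := SetLike.ext fun x => by
    rw [mem_kPc, mem_shR, add_zero]
  exact e ▸ h

omit [LocCoh.IsCohenMacaulayRing R] in
include hpos h0 in
theorem finite_piece [Nontrivial R] (n : ℤ) : Module.Finite k (𝒜 n) :=
  haveI := Algebra.FiniteType.isNoetherianRing k R
  finite_pieceN hpos h0 n

include hpos h0 hr in
/-- a regular homogeneous element in every suitably divisible degree -/
theorem exists_param : ∃ D₀ : ℕ, 0 < D₀ ∧ ∀ D : ℕ, 0 < D → D₀ ∣ D →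
    ∃ x ∈ 𝒜 (D : ℤ), (∀ a : R, x * a = 0 → a = 0) ∧ Module.Finite k (R ⧸ Ideal.span {x}) := by
  haveI := Algebra.FiniteType.isNoetherianRing k R
  haveI := nontrivial_of_dim hr
  obtain ⟨D₀, hD₀, hx⟩ := Seg.exists_normalization hpos h0 (⊥ : Ideal R) (Ideal.IsHomogeneous.bot _) 1
    ((ringKrullDim_eq_of_ringEquiv (RingEquiv.quotientBot R)).trans hr)
  refine ⟨D₀, hD₀, fun D hD hdvd => ?_⟩
  obtain ⟨x, hxm, hfin, -⟩ := hx D hD hdvd
  have hann : Module.annihilator R R ⊔ Ideal.span (Set.range x) = Ideal.span {x 0} := by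
    rw [Module.annihilator_eq_bot.2 inferInstance, bot_sup_eq, Set.range_unique]
    rfl
  have hb : (⊥ : Ideal R) ⊔ Ideal.span (Set.range x) = Ideal.span {x 0} := by
    rw [bot_sup_eq, Set.range_unique]
    rfl
  refine ⟨x 0, hxm 0, fun a ha => ?_, hb ▸ hfin⟩
  by_contra hne
  refine MvPolynomial.X_ne_zero (R := k) (0 : Fin 1) (torsionfree_normalization 𝒜 hpos h0
    ((Module.supportDim_self_eq_ringKrullDim R).trans hr) (cmAll_self_iff.1 inferInstance) x hD hxm
    (hann.symm ▸ hb ▸ hfin) hne _ ?_)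
  rwa [MvPolynomial.aeval_X, smul_eq_mul]

omit [Algebra.FiniteType k R] [LocCoh.IsCohenMacaulayRing R] in
/-- high degrees lie in a principal ideal with finite dimensional quotient -/
theorem exists_bound {D : ℕ} {x : R} (hx : x ∈ 𝒜 (D : ℤ)) (hfin : Module.Finite k (R ⧸ Ideal.span {x})) :
    ∃ n₀ : ℤ, ∀ n, n₀ < n → ∀ a ∈ 𝒜 n, ∃ b ∈ 𝒜 (n - D), x * b = a := by
  classical
  obtain ⟨s, hs⟩ := hfin.fg_top
  choose f hf using fun q : R ⧸ Ideal.span {x} => Ideal.Quotient.mk_surjective q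
  have hbdd : ((s.image f : Finset R) : Set R).Finite := Finset.finite_toSet _
  obtain ⟨n₀, hn₀⟩ := (hbdd.biUnion fun b _ => GrMod19.finite_cmp_ne_zero 𝒜 b).bddAbove
  have hvan : ∀ n, n₀ < n → ∀ q ∈ s, GrMod19.cmp 𝒜 n (f q) = 0 := fun n hn q hq => by
    by_contra hne
    exact absurd (hn₀ (Set.mem_biUnion (Finset.mem_coe.2 (Finset.mem_image_of_mem f hq)) hne)) hn.not_ge
  refine ⟨n₀, fun n hn a ha => ?_⟩
  have key : ∀ q ∈ Submodule.span k (s : Set (R ⧸ Ideal.span {x})), ∃ r : R, Ideal.Quotient.mk _ r = q ∧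
      GrMod19.cmp 𝒜 n r = 0 := fun q hq => by
    induction hq using Submodule.span_induction with
    | mem q hq => exact ⟨f q, hf q, hvan n hn q hq⟩
    | zero => exact ⟨0, map_zero _, map_zero _⟩
    | add p q _ _ hp hq =>
      obtain ⟨r, hr, hr0⟩ := hp
      obtain ⟨r', hr', hr0'⟩ := hq
      exact ⟨r + r', by rw [map_add, hr, hr'], by rw [map_add, hr0, hr0', add_zero]⟩
    | smul c p _ hp =>
      obtain ⟨r, hr, hr0⟩ := hp
      refine ⟨c • r, by rw [← hr]; exact map_smul (Ideal.Quotient.mkₐ k _) c r, ?_⟩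
      rw [Algebra.smul_def]
      exact (GrMod19.cmp_smul_homog_left 𝒜 𝒜 n (SetLike.algebraMap_mem_graded 𝒜 c) r).trans (by
        rw [sub_zero, hr0, smul_zero])
  obtain ⟨r, hr, hr0⟩ := key (Ideal.Quotient.mk _ a) (hs ▸ trivial)
  obtain ⟨b, hb⟩ := Ideal.mem_span_singleton'.1 (Ideal.Quotient.eq.1 hr.symm)
  refine ⟨GrMod19.cmp 𝒜 (n - D) b, GrMod19.cmp_mem 𝒜 _ b, ?_⟩
  have h1 := congrArg (GrMod19.cmp 𝒜 n) hb
  rw [map_sub, hr0, sub_zero, GrMod19.cmp_of_mem 𝒜 ha, mul_comm] at h1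
  rw [← h1]
  exact (GrMod19.cmp_smul_homog_left 𝒜 𝒜 n hx b).symm

omit [Algebra.FiniteType k R] [LocCoh.IsCohenMacaulayRing R] in
/-- multiplication by a homogeneous element on a piece -/
theorem exists_mulPiece {D : ℤ} {x : R} (hx : x ∈ 𝒜 D) (n : ℤ) :
    ∃ μ : 𝒜 (n - D) →ₗ[k] 𝒜 n, ∀ b, (μ b : R) = x * b :=
  ⟨((LinearMap.mulLeft k x) ∘ₗ (𝒜 (n - D)).subtype).codRestrict (𝒜 n) fun b => by
    have h := SetLike.GradedMul.mul_mem hx b.2
    rwa [add_sub_cancel] at h, fun _ => rfl⟩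

variable {D : ℕ} {x : R} (hx : x ∈ 𝒜 (D : ℤ)) (hreg : ∀ a : R, x * a = 0 → a = 0)

omit [LocCoh.IsCohenMacaulayRing R] in
include hpos h0 hx hreg in
theorem finrank_sub_le [Nontrivial R] (n : ℤ) :
    Module.finrank k (𝒜 (n - D)) ≤ Module.finrank k (𝒜 n) := by
  haveI := finite_piece hpos h0 n
  obtain ⟨μ, hμ⟩ := exists_mulPiece hx n
  refine LinearMap.finrank_le_finrank_of_injective (f := μ) ((injective_iff_map_eq_zero _).2 fun b hb => ?_)
  exact Subtype.ext (hreg _ (by rw [← hμ, hb]; rfl))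

omit [LocCoh.IsCohenMacaulayRing R] in
include hpos h0 hx hreg in
/-- the last degree where the Hilbert function grows -/
theorem exists_lastJump [Nontrivial R] (hD : 0 < D) (hfin : Module.Finite k (R ⧸ Ideal.span {x})) :
    ∃ N : ℤ, 0 ≤ N ∧ Module.finrank k (𝒜 (N - D)) < Module.finrank k (𝒜 N) ∧
      ∀ n, N < n → Module.finrank k (𝒜 (n - D)) = Module.finrank k (𝒜 n) := by
  obtain ⟨n₀, hn₀⟩ := exists_bound hx hfin
  have heq : ∀ n, n₀ < n → Module.finrank k (𝒜 (n - D)) = Module.finrank k (𝒜 n) := fun n hn => by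
    haveI := finite_piece hpos h0 (n - D)
    obtain ⟨μ, hμ⟩ := exists_mulPiece hx n
    refine le_antisymm (finrank_sub_le hpos h0 hx hreg n) (LinearMap.finrank_le_finrank_of_surjective
      (f := μ) fun a => ?_)
    obtain ⟨b, hb, hba⟩ := hn₀ n hn a.1 a.2
    exact ⟨⟨b, hb⟩, Subtype.ext ((hμ _).trans hba)⟩
  have hzero : Module.finrank k (𝒜 (0 - D)) < Module.finrank k (𝒜 0) := by
    rw [hpos (0 - D) (by omega), finrank_bot, h0, finrank_span_singleton one_ne_zero]
    exact one_pos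
  obtain ⟨N, hN, hmax⟩ := Int.exists_greatest_of_bdd
    (P := fun n => Module.finrank k (𝒜 (n - D)) < Module.finrank k (𝒜 n))
    ⟨n₀, fun n hn => by
      by_contra hlt
      exact hn.ne (heq n (by omega))⟩ ⟨0, hzero⟩
  exact ⟨N, hmax 0 hzero, hN, fun n hn => le_antisymm (finrank_sub_le hpos h0 hx hreg n)
    (not_lt.1 fun h => absurd (hmax n h) (by omega))⟩

omit [Algebra.FiniteType k R] [LocCoh.IsCohenMacaulayRing R] in
include h0 hstd in
/-- standard graded: `R_{i+j}` is spanned by products -/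
theorem piece_le_mul (i j : ℕ) : 𝒜 ((i + j : ℕ) : ℤ) ≤ 𝒜 (i : ℤ) * 𝒜 (j : ℤ) := by
  induction i with
  | zero =>
    intro a ha
    rw [Nat.zero_add] at ha
    rw [← one_mul a]
    exact Submodule.mul_mem_mul (by rw [Nat.cast_zero, h0]; exact Submodule.mem_span_singleton_self 1) ha
  | succ i ih =>
    intro a ha
    have h1 := Seg.std_mem hstd (n := ((i + j : ℕ) : ℤ)) (Int.natCast_nonneg _) (x := a)
      (by rwa [Nat.succ_add, Nat.cast_succ] at ha)
    have h2 : a ∈ 𝒜 1 * 𝒜 (i : ℤ) * 𝒜 (j : ℤ) := by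
      rw [mul_assoc]; exact mul_le_mul' le_rfl ih h1
    refine mul_le_mul' (Submodule.mul_le.2 fun p hp q hq => ?_) le_rfl h2
    rw [Nat.cast_succ, add_comm]
    exact SetLike.GradedMul.mul_mem hp hq

omit [Algebra.FiniteType k R] [LocCoh.IsCohenMacaulayRing R] in
include hstd h0 hpos hx hreg in
/-- a one-dimensional positive piece makes the ring a polynomial ring -/
theorem exists_line_generator [Nontrivial R] (hD : 0 < D) {N : ℕ} (hN : 0 < N)
    (hf : Module.finrank k (𝒜 (N : ℤ)) = 1) :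
    ∃ l ∈ 𝒜 1, (∀ a : R, l * a = 0 → a = 0) ∧ ∀ n : ℕ, 𝒜 (n : ℤ) = Submodule.span k {l ^ n} := by
  obtain ⟨M, rfl⟩ : ∃ M, N = M + 1 := ⟨N - 1, by omega⟩
  obtain ⟨⟨w, hw⟩, hw0, hwline⟩ := finrank_eq_one_iff'.1 hf
  have hline : 𝒜 ((M + 1 : ℕ) : ℤ) ≤ Submodule.span k {w} := fun a ha => by
    obtain ⟨c, hc⟩ := hwline ⟨a, ha⟩
    exact Submodule.mem_span_singleton.2 ⟨c, congrArg Subtype.val hc⟩
  have hpow : ∀ j : ℕ, 𝒜 (((M + 1) * j : ℕ) : ℤ) ≤ Submodule.span k {w ^ j} := by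
    intro j
    induction j with
    | zero => rw [Nat.mul_zero, Nat.cast_zero, h0, pow_zero]
    | succ j ih =>
      intro a ha
      rw [Nat.mul_succ, Nat.add_comm] at ha
      have h1 := piece_le_mul h0 hstd (M + 1) ((M + 1) * j) ha
      rw [pow_succ', ← Set.singleton_mul_singleton, ← Submodule.span_mul_span]
      exact mul_le_mul' hline ih h1
  have hwreg : ∀ a : R, w * a = 0 → a = 0 := fun a ha => by
    obtain ⟨c, hc⟩ := Submodule.mem_span_singleton.1 (hpow D (x := x ^ (M + 1)) (by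
      have := SetLike.pow_mem_graded (M + 1) hx
      rwa [nsmul_eq_mul, ← Nat.cast_mul] at this))
    have hxa : x ^ (M + 1) * a = 0 := by
      rw [← hc, smul_mul_assoc, ← Nat.succ_pred_eq_of_pos hD, pow_succ, mul_assoc, ha, mul_zero, smul_zero]
    generalize M + 1 = m at hxa
    induction m with
    | zero => rwa [pow_zero, one_mul] at hxa
    | succ m ih => exact ih (hreg _ (by rwa [← mul_assoc, ← pow_succ']))
  obtain ⟨l, hl, v, hv, hne⟩ : ∃ l ∈ 𝒜 1, ∃ v ∈ 𝒜 (M : ℤ), l * v ≠ 0 := by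
    by_contra h
    push Not at h
    have h1 := Seg.std_mem hstd (n := (M : ℤ)) (Int.natCast_nonneg M) (x := w) (by rwa [← Nat.cast_succ])
    have hle : 𝒜 1 * 𝒜 (M : ℤ) ≤ ⊥ := Submodule.mul_le.2 fun p hp q hq => (Submodule.mem_bot k).2 (h p hp q hq)
    exact hw0 (Subtype.ext ((Submodule.mem_bot k).1 (hle h1)))
  have hlv : l * v ∈ 𝒜 ((M + 1 : ℕ) : ℤ) := by
    rw [Nat.cast_succ, add_comm]; exact SetLike.GradedMul.mul_mem hl hv
  obtain ⟨c, hc⟩ := Submodule.mem_span_singleton.1 (hline hlv)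
  have hc0 : c ≠ 0 := fun e => hne (by rw [← hc, e, zero_smul])
  have hlvreg : ∀ a : R, l * v * a = 0 → a = 0 := fun a ha => hwreg a (by
    rw [← hc, smul_mul_assoc] at ha
    exact (smul_eq_zero.1 ha).resolve_left hc0)
  have hlreg : ∀ a : R, l * a = 0 → a = 0 := fun a ha => hlvreg a (by rw [mul_right_comm, ha, zero_mul])
  have hvreg : ∀ a : R, v * a = 0 → a = 0 := fun a ha => hlvreg a (by rw [mul_assoc, ha, mul_zero])
  have hone : 𝒜 1 ≤ Submodule.span k {l} := fun a ha => by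
    have h1 : a * v ∈ 𝒜 ((M + 1 : ℕ) : ℤ) := by
      rw [Nat.cast_succ, add_comm]; exact SetLike.GradedMul.mul_mem ha hv
    obtain ⟨e, he⟩ := Submodule.mem_span_singleton.1 (hline h1)
    refine Submodule.mem_span_singleton.2 ⟨e * c⁻¹, sub_eq_zero.1 (hvreg _ ?_)⟩
    rw [mul_sub, mul_smul_comm, mul_comm v l, ← hc, smul_smul, inv_mul_cancel_right₀ hc0, he, mul_comm,
      sub_self]
  refine ⟨l, hl, hlreg, fun n => le_antisymm ?_ ((Submodule.span_singleton_le_iff_mem _ _).2 ?_)⟩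
  · induction n with
    | zero => rw [Nat.cast_zero, h0, pow_zero]
    | succ n ih =>
      intro a ha
      have h1 := Seg.std_mem hstd (n := (n : ℤ)) (Int.natCast_nonneg n) (x := a) (by rwa [← Nat.cast_succ])
      rw [pow_succ', ← Set.singleton_mul_singleton, ← Submodule.span_mul_span]
      exact mul_le_mul' hone ih h1
  · have := SetLike.pow_mem_graded n hl
    rwa [nsmul_eq_mul, mul_one] at this

omit [Algebra.FiniteType k R] [LocCoh.IsCohenMacaulayRing R] in
include hpos in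
/-- a ring with regular generator of all pieces is a polynomial ring -/
theorem exists_polyEquiv [Nontrivial R] {l : R} (hl : l ∈ 𝒜 1) (hlreg : ∀ a : R, l * a = 0 → a = 0)
    (hspan : ∀ n : ℕ, 𝒜 (n : ℤ) = Submodule.span k {l ^ n}) :
    ∃ φ : R ≃ₐ[k] Polynomial k, ∀ n : ℕ, φ (l ^ n) = Polynomial.X ^ n := by
  let f : Polynomial k →ₐ[k] R := Polynomial.aeval l
  have hne : ∀ n : ℕ, l ^ n ≠ 0 := fun n => by
    induction n with
    | zero => simp
    | succ n ih => rw [pow_succ']; exact fun h => ih (hlreg _ h)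
  have hmem : ∀ n : ℕ, l ^ n ∈ 𝒜 (n : ℤ) := fun n => by rw [hspan]; exact Submodule.mem_span_singleton_self _
  have hcmp : ∀ (p : Polynomial k) (n : ℕ), GrMod19.cmp 𝒜 (n : ℤ) (f p) = p.coeff n • l ^ n := fun p n => by
    induction p using Polynomial.induction_on' with
    | add p q hp hq => rw [map_add, map_add, hp, hq, Polynomial.coeff_add, add_smul]
    | monomial m c =>
      have hm : f (Polynomial.monomial m c) = c • l ^ m := by
        rw [Polynomial.aeval_monomial, Algebra.smul_def]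
      rw [hm, Polynomial.coeff_monomial]
      rcases eq_or_ne m n with rfl | hmn
      · rw [if_pos rfl, GrMod19.cmp_of_mem 𝒜 (Submodule.smul_mem _ c (hmem m))]
      · rw [if_neg hmn, zero_smul, GrMod19.cmp_of_ne 𝒜 (Submodule.smul_mem _ c (hmem m)) (by omega)]
  have hinj : Function.Injective f := (injective_iff_map_eq_zero _).2 fun p hp => Polynomial.ext fun n => by
    have h := hcmp p n
    rw [hp, map_zero, eq_comm, smul_eq_zero] at h
    rw [Polynomial.coeff_zero]
    exact h.resolve_right (hne n)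
  have hsurj : Function.Surjective f := fun a => by
    suffices h : a ∈ f.range from h
    induction a using GrMod19.piece_induction 𝒜 with
    | h0 => exact zero_mem _
    | hadd a b ha hb => exact add_mem ha hb
    | hp i a ha =>
      rcases lt_or_ge i 0 with hi | hi
      · rw [hpos i hi, Submodule.mem_bot] at ha
        exact ha ▸ zero_mem _
      · obtain ⟨n, rfl⟩ := Int.eq_ofNat_of_zero_le hi
        rw [hspan, Submodule.mem_span_singleton] at ha
        obtain ⟨c, rfl⟩ := ha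
        exact f.range.smul_mem ⟨Polynomial.X ^ n, by simp [f]⟩ c
  refine ⟨(AlgEquiv.ofBijective f ⟨hinj, hsurj⟩).symm, fun n => ?_⟩
  rw [AlgEquiv.symm_apply_eq]
  simp [f]

end One

section Socle

variable {T : Type u} [CommRing T] [Algebra k T] [IsNoetherianRing T]
  {𝒯 : ℤ → Submodule k T} [GradedAlgebra 𝒯]
  (hpos : ∀ n : ℤ, n < 0 → 𝒯 n = ⊥) (h0 : 𝒯 0 = Submodule.span k {(1 : T)})

omit [IsNoetherianRing T] in
include hpos h0 in
/-- an element of the top cohomology killed by the irrelevant ideal is detected by one -/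
theorem eq_zero_of_socle {mT : HomogeneousIdeal 𝒯} {a : ℤ} {I : StarInjRes 𝒯 𝒯} {i : ℕ}
    {β : I.H mT i →ₗ[k] T →ₗ[k] k} (hβ : KPair (𝒜 := 𝒯) (shR 𝒯 a) (I.Hgr mT i) β) {h : I.H mT i}
    (hkill : ∀ e : ℤ, 0 < e → ∀ t ∈ 𝒯 e, t • h = 0) (h1 : β h 1 = 0) : h = 0 := by
  let : Decomposition (I.Hgr mT i) := (GrMod19.isInternal_Hgr I mT i).chooseDecomposition
  have : SetLike.GradedSMul 𝒯 (I.Hgr mT i) := ⟨fun {i' j} c x hc hx => by
    rw [vadd_eq_add, add_comm]; exact GrMod19.smul_mem_Hcomp I mT i hc hx⟩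
  have hone : (1 : T) ∈ shR 𝒯 a (-a) := by
    rw [mem_shR, neg_add_cancel]; exact SetLike.one_mem_graded 𝒯
  refine GrMod19.eq_zero_of_cmp (I.Hgr mT i) fun d => hβ.unique d _ (GrMod19.cmp_mem _ d h) fun c hc => ?_
  rw [mem_shR, neg_add_eq_sub] at hc
  rcases lt_trichotomy (a - d) 0 with hd | hd | hd
  · rw [hpos _ hd, Submodule.mem_bot] at hc
    rw [hc, map_zero]
  · obtain rfl : d = a := by omega
    have hsum : ∀ m : I.H mT i, β m 1 = β (GrMod19.cmp (I.Hgr mT i) d m) 1 := fun m => by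
      induction m using GrMod19.piece_induction (I.Hgr mT i) with
      | h0 => rw [map_zero (GrMod19.cmp (I.Hgr mT i) d)]
      | hadd p q hp hq => rw [map_add (GrMod19.cmp (I.Hgr mT i) d), map_add, map_add, LinearMap.add_apply,
          LinearMap.add_apply, hp, hq]
      | hp j p hp =>
        rcases eq_or_ne j d with rfl | hj
        · rw [GrMod19.cmp_of_mem _ hp]
        · rw [GrMod19.cmp_of_ne _ hp hj, hβ.orth j (-d) p hp 1 hone (by omega), map_zero, LinearMap.zero_apply]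
    rw [sub_self, h0] at hc
    obtain ⟨s, rfl⟩ := Submodule.mem_span_singleton.1 hc
    rw [map_smul, ← hsum, h1, smul_zero]
  · have h2 : c • GrMod19.cmp (I.Hgr mT i) d h = 0 := by
      have h3 := GrMod19.cmp_smul_homog_left 𝒯 (I.Hgr mT i) (a - d + d) hc h
      rwa [hkill _ hd c hc, map_zero, add_sub_cancel_left, eq_comm] at h3
    rw [show c = c • (1 : T) by rw [smul_eq_mul, mul_one], ← hβ.balanced, h2, map_zero, LinearMap.zero_apply]

include hpos h0 in
/-- one-dimensional Gorenstein: the last piece modulo a parameter is at most a line -/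
theorem finrank_le_succ [LocCoh.IsGorensteinRing T] (hdim : ringKrullDim T = (1 : ℕ)) {D : ℕ} (hD : 0 < D)
    {z : T} (hz : z ∈ 𝒯 (D : ℤ)) (hreg : ∀ a : T, z * a = 0 → a = 0) {N : ℤ}
    (hmax : ∀ n, N < n → ∀ t ∈ 𝒯 n, ∃ b, z * b = t) :
    Module.finrank k (𝒯 N) ≤ Module.finrank k (𝒯 (N - D)) + 1 := by
  haveI := nontrivial_of_dim hdim
  obtain ⟨I⟩ := GrInj18.nonempty_starInjRes 𝒯 𝒯
  let mT := plusH 𝒯
  have hmT : GrMod19.IsPlus mT := rfl
  obtain ⟨a, β, hβ, -⟩ := exists_kPair_gor hpos h0 hmT hdim I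
  obtain ⟨e⟩ := GrMod19.nonempty_H_equiv I mT 1
  have hplus : ∀ b : T, b ∈ mT.toIdeal ↔ GrMod19.cmp 𝒯 0 b = 0 :=
    fun b => GrMod19.mem_plus_iff (nonnegGr_of_bot hpos) hmT b
  have hzm : z ∈ mT.toIdeal := (hplus z).2 (GrMod19.cmp_of_ne 𝒯 hz (by omega))
  have hf : Function.Injective (LinearMap.mulLeft T z) := (injective_iff_map_eq_zero _).2 hreg
  let g : T →ₗ[T] T ⧸ Ideal.span {z} := Submodule.mkQ _
  have hfg : Function.Exact (LinearMap.mulLeft T z) g := fun t => by
    refine ⟨fun h => ?_, ?_⟩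
    · obtain ⟨b, hb⟩ := Ideal.mem_span_singleton'.1 ((Submodule.Quotient.mk_eq_zero _).1 h)
      exact ⟨b, (mul_comm z b).trans hb⟩
    · rintro ⟨b, rfl⟩
      exact (Submodule.Quotient.mk_eq_zero _).2 (Ideal.mem_span_singleton'.2 ⟨b, mul_comm b z⟩)
  have hg : Function.Surjective g := Submodule.mkQ_surjective _
  haveI hT0 : Subsingleton (LocCoh.H mT.toIdeal 0 T) := by
    rw [LC15.subsingleton_H0_iff, eq_bot_iff]
    rintro m ⟨n, hn⟩
    have h := hn _ (Ideal.pow_mem_pow hzm n)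
    rw [smul_eq_mul] at h
    clear hn
    induction n with
    | zero => rwa [pow_zero, one_mul] at h
    | succ n ih => exact ih (hreg _ (by rwa [← mul_assoc, ← pow_succ']))
  let δ := LC15.Hδ mT.toIdeal 0 hf hfg hg
  have hδ : Function.Injective δ := (injective_iff_map_eq_zero _).2 fun y hy => by
    obtain ⟨w, rfl⟩ := (LC15.H_exact₃ mT.toIdeal 0 hf hfg hg y).1 hy
    rw [Subsingleton.elim w 0, map_zero]
  let Λ : LC15.gamma mT.toIdeal (T ⧸ Ideal.span {z}) →ₗ[T] I.H mT 1 :=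
    e.symm.toLinearMap ∘ₗ δ ∘ₗ (LC15.H0equiv _ _).symm.toLinearMap
  have hΛ : Function.Injective Λ := e.symm.injective.comp (hδ.comp (LC15.H0equiv _ _).symm.injective)
  have hkill : ∀ t ∈ 𝒯 N, ∀ b ∈ mT.toIdeal, b • g t = 0 := fun t ht b hb => by
    rw [hplus] at hb
    have hmem : ∀ (d : ℤ), ∀ p ∈ 𝒯 d, 0 < d → p • g t = 0 := fun d p hp hd => by
      obtain ⟨q, hq⟩ := hmax (d + N) (by omega) (p * t) (SetLike.GradedMul.mul_mem hp ht)
      rw [← map_smul, smul_eq_mul, ← hq]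
      exact (hfg _).2 ⟨q, rfl⟩
    rw [← sub_zero b, ← hb]
    clear hb
    induction b using GrMod19.piece_induction 𝒯 with
    | h0 => rw [map_zero, sub_zero, zero_smul]
    | hadd p q hp hq => rw [map_add, add_sub_add_comm, add_smul, hp, hq, add_zero]
    | hp d p hp =>
      rcases lt_trichotomy d 0 with hd | hd | hd
      · rw [hpos d hd, Submodule.mem_bot] at hp
        rw [hp, map_zero, sub_zero, zero_smul]
      · rw [hd] at hp
        rw [GrMod19.cmp_of_mem 𝒯 hp, sub_self, zero_smul]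
      · rw [GrMod19.cmp_of_ne 𝒯 hp (by omega), sub_zero, hmem d p hp hd]
  let γ : 𝒯 N → LC15.gamma mT.toIdeal (T ⧸ Ideal.span {z}) := fun t =>
    ⟨g t.1, 1, fun b hb => hkill t.1 t.2 b (by rwa [pow_one] at hb)⟩
  let F : 𝒯 N →ₗ[k] k :=
    { toFun := fun t => β (Λ (γ t)) 1
      map_add' := fun s t => by
        rw [show γ (s + t) = γ s + γ t from Subtype.ext (map_add g s.1 t.1), map_add, map_add,
          LinearMap.add_apply]
      map_smul' := fun c t => by
        have h : γ (c • t) = algebraMap k T c • γ t := Subtype.ext (by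
          show g (c • t.1) = algebraMap k T c • g t.1
          rw [← algebraMap_smul T c t.1, map_smul])
        rw [h, map_smul, algebraMap_smul, map_smul, LinearMap.smul_apply]
        rfl }
  haveI := finite_pieceN (R := T) hpos h0 N
  haveI := finite_pieceN (R := T) hpos h0 (N - D)
  obtain ⟨μ, hμ⟩ := exists_mulPiece hz N
  have hker : LinearMap.ker F ≤ LinearMap.range μ := fun t ht => by
    have hg0 : g t.1 = 0 := by
      have h : Λ (γ t) = 0 := eq_zero_of_socle hpos h0 hβ (fun d hd b hb => by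
        rw [← map_smul, show b • γ t = 0 from Subtype.ext (hkill t.1 t.2 b
          ((hplus b).2 (GrMod19.cmp_of_ne 𝒯 hb (by omega)))), map_zero]) ht
      exact congrArg Subtype.val (hΛ (h.trans (map_zero Λ).symm))
    obtain ⟨b, hb⟩ := Ideal.mem_span_singleton'.1 ((Submodule.Quotient.mk_eq_zero _).1 hg0)
    refine ⟨⟨GrMod19.cmp 𝒯 (N - D) b, GrMod19.cmp_mem 𝒯 _ b⟩, Subtype.ext ?_⟩
    rw [hμ]
    refine (GrMod19.cmp_smul_homog_left 𝒯 𝒯 N hz b).symm.trans ?_
    rw [smul_eq_mul, mul_comm, hb, GrMod19.cmp_of_mem 𝒯 t.2]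
  have h1 := LinearMap.finrank_range_add_finrank_ker F
  have h2 := (Submodule.finrank_mono hker).trans (LinearMap.finrank_range_le μ)
  have h3 := (LinearMap.range F).finrank_le
  rw [Module.finrank_self] at h3
  omega

end Socle

end Groth.Agent.GrSeg54
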