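import Groth.Agent.GrSeg54.DimOne

/-!
Gorenstein Segre products in dimension one: one factor is a polynomial ring and the other is Gorenstein.
-/

set_option autoImplicit false
set_option maxHeartbeats 400000

universe u

open scoped TensorProduct
open DirectSum GrLC

namespace Groth.Agent.GrSeg54

open Groth.Agent.CAlg6

variable {k : Type u} [Field k] {R S T : Type u} [CommRing R] [CommRing S] [CommRing T]
  [Algebra k R] [Algebra k S] [Algebra k T]
  {𝒜 : ℤ → Submodule k R} [GradedAlgebra 𝒜] {ℬ : ℤ → Submodule k S} [GradedAlgebra ℬ]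
  {𝒯 : ℤ → Submodule k T} [GradedAlgebra 𝒯] {ψ : T →ₐ[k] R ⊗[k] S}

/-- a Segre product with a polynomial ring in one variable is the other factor -/
theorem exists_equiv_factor (hT : GrSeg.IsSegreRing 𝒜 ℬ 𝒯 ψ) (hposR : ∀ n : ℤ, n < 0 → 𝒜 n = ⊥)
    (φ : S ≃ₐ[k] Polynomial k) {l : S} (hφ : ∀ n : ℕ, φ (l ^ n) = Polynomial.X ^ n)
    (hspan : ∀ n : ℕ, ℬ (n : ℤ) = Submodule.span k {l ^ n}) : Nonempty (T ≃ₐ[k] R) := by
  let ε : S →ₐ[k] k := (Polynomial.aeval (1 : k)).comp φ.toAlgHom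
  have hε : ∀ n : ℕ, ε (l ^ n) = 1 := fun n => by
    show Polynomial.aeval (1 : k) (φ (l ^ n)) = 1
    rw [hφ, map_pow, Polynomial.aeval_X, one_pow]
  let χ : T →ₐ[k] R :=
    (Algebra.TensorProduct.rid k k R).toAlgHom.comp ((Algebra.TensorProduct.map (AlgHom.id k R) ε).comp ψ)
  have himg : ∀ n : ℕ, ∀ t ∈ 𝒯 (n : ℤ), χ t ∈ 𝒜 (n : ℤ) ∧ ψ t = χ t ⊗ₜ[k] (l ^ n) := fun n t ht => by
    have h := Seg.psi_mem_piece hT ht
    suffices h' : ∃ a ∈ 𝒜 (n : ℤ), ψ t = a ⊗ₜ[k] (l ^ n) by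
      obtain ⟨a, ha, hat⟩ := h'
      have hχ : χ t = a := by
        show Algebra.TensorProduct.rid k k R (Algebra.TensorProduct.map (AlgHom.id k R) ε (ψ t)) = a
        rw [hat, Algebra.TensorProduct.map_tmul, hε, Algebra.TensorProduct.rid_tmul, one_smul, AlgHom.id_apply]
      exact ⟨hχ ▸ ha, hχ ▸ hat⟩
    generalize ψ t = z at h ⊢
    induction h using Submodule.span_induction with
    | zero => exact ⟨0, zero_mem _, (TensorProduct.zero_tmul _ _).symm⟩
    | add u v _ _ hu hv =>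
      obtain ⟨a, ha, rfl⟩ := hu
      obtain ⟨b, hb, rfl⟩ := hv
      exact ⟨a + b, add_mem ha hb, (TensorProduct.add_tmul _ _ _).symm⟩
    | smul c u _ hu =>
      obtain ⟨a, ha, rfl⟩ := hu
      exact ⟨c • a, Submodule.smul_mem _ c ha, TensorProduct.smul_tmul' c a (l ^ n)⟩
    | mem u hu =>
      obtain ⟨a, ha, b, hb, rfl⟩ := hu
      rw [hspan, Submodule.mem_span_singleton] at hb
      obtain ⟨c, rfl⟩ := hb
      exact ⟨c • a, Submodule.smul_mem _ c ha, by rw [TensorProduct.tmul_smul, TensorProduct.smul_tmul']⟩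
  have hposT := segre_nonneg hT hposR
  have hcmp : ∀ (n : ℤ) (t : T), χ (GrMod19.cmp 𝒯 n t) = GrMod19.cmp 𝒜 n (χ t) := fun n t => by
    induction t using GrMod19.piece_induction 𝒯 with
    | h0 => simp
    | hadd p q hp hq => simp only [map_add, hp, hq]
    | hp d p hp =>
      rcases lt_or_ge d 0 with hd | hd
      · rw [hposT d hd, Submodule.mem_bot] at hp
        simp [hp]
      · obtain ⟨m, rfl⟩ := Int.eq_ofNat_of_zero_le hd
        rcases eq_or_ne (m : ℤ) n with rfl | hne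
        · rw [GrMod19.cmp_of_mem 𝒯 hp, GrMod19.cmp_of_mem 𝒜 (himg m p hp).1]
        · rw [GrMod19.cmp_of_ne 𝒯 hp hne, map_zero, GrMod19.cmp_of_ne 𝒜 (himg m p hp).1 hne]
  have hinj : Function.Injective χ := (injective_iff_map_eq_zero _).2 fun t ht =>
    GrMod19.eq_zero_of_cmp 𝒯 fun n => by
      have h := hcmp n t
      rw [ht, map_zero] at h
      rcases lt_or_ge n 0 with hn | hn
      · exact (Submodule.eq_bot_iff _).1 (hposT n hn) _ (GrMod19.cmp_mem 𝒯 n t)
      · obtain ⟨m, rfl⟩ := Int.eq_ofNat_of_zero_le hn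
        refine hT.1 ?_
        rw [(himg m _ (GrMod19.cmp_mem 𝒯 _ t)).2, h, TensorProduct.zero_tmul, map_zero]
  have hsurj : Function.Surjective χ := fun a => by
    suffices h : a ∈ χ.range from h
    induction a using GrMod19.piece_induction 𝒜 with
    | h0 => exact zero_mem _
    | hadd a b ha hb => exact add_mem ha hb
    | hp i a ha =>
      rcases lt_or_ge i 0 with hi | hi
      · rw [hposR i hi, Submodule.mem_bot] at ha
        exact ha ▸ zero_mem _
      · obtain ⟨n, rfl⟩ := Int.eq_ofNat_of_zero_le hi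
        obtain ⟨t, ht, hta⟩ : a ⊗ₜ[k] (l ^ n) ∈ (𝒯 (n : ℤ)).map ψ.toLinearMap := by
          rw [hT.2]
          exact Submodule.subset_span ⟨a, ha, l ^ n, hspan n ▸ Submodule.mem_span_singleton_self _, rfl⟩
        refine ⟨t, ?_⟩
        show Algebra.TensorProduct.rid k k R (Algebra.TensorProduct.map (AlgHom.id k R) ε (ψ t)) = a
        rw [show ψ t = a ⊗ₜ[k] (l ^ n) from hta, Algebra.TensorProduct.map_tmul, hε,
          Algebra.TensorProduct.rid_tmul, one_smul, AlgHom.id_apply]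
  exact ⟨AlgEquiv.ofBijective χ ⟨hinj, hsurj⟩⟩

/-- the main theorem in dimension one -/
theorem polynomial_and_gorenstein [Algebra.FiniteType k R] [Algebra.FiniteType k S]
    (hT : GrSeg.IsSegreRing 𝒜 ℬ 𝒯 ψ)
    (hposR : ∀ n : ℤ, n < 0 → 𝒜 n = ⊥) (h0R : 𝒜 0 = Submodule.span k {(1 : R)})
    (hposS : ∀ n : ℤ, n < 0 → ℬ n = ⊥) (h0S : ℬ 0 = Submodule.span k {(1 : S)})
    [LocCoh.IsCohenMacaulayRing R] [LocCoh.IsCohenMacaulayRing S]
    (hstdR : Ideal.span (⋃ n ∈ Set.Ioi (0 : ℤ), (𝒜 n : Set R)) = Ideal.span ((𝒜 1 : Submodule k R) : Set R))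
    (hstdS : Ideal.span (⋃ n ∈ Set.Ioi (0 : ℤ), (ℬ n : Set S)) = Ideal.span ((ℬ 1 : Submodule k S) : Set S))
    (hr : ringKrullDim R = (1 : ℕ)) (hs : ringKrullDim S = (1 : ℕ)) (hR : IsEmpty (R ≃ₐ[k] Polynomial k))
    [LocCoh.IsGorensteinRing T] : Nonempty (S ≃ₐ[k] Polynomial k) ∧ LocCoh.IsGorensteinRing R := by
  haveI := nontrivial_of_dim hr
  haveI := nontrivial_of_dim hs
  haveI := isNoetherianRing_segre hT
  obtain ⟨DR, hDR, hpR⟩ := exists_param hposR h0R hr
  obtain ⟨DS, hDS, hpS⟩ := exists_param hposS h0S hs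
  have hD : 0 < DR * DS := Nat.mul_pos hDR hDS
  obtain ⟨x, hx, hxreg, hxfin⟩ := hpR (DR * DS) hD (dvd_mul_right _ _)
  obtain ⟨y, hy, hyreg, hyfin⟩ := hpS (DR * DS) hD (dvd_mul_left _ _)
  generalize DR * DS = D at hx hy hD
  obtain ⟨NR, hNR0, hNRjump, hNRmax⟩ := exists_lastJump hposR h0R hx hxreg hD hxfin
  obtain ⟨NS, hNS0, hNSjump, hNSmax⟩ := exists_lastJump hposS h0S hy hyreg hD hyfin
  have noline : ∀ n : ℕ, 0 < n → Module.finrank k (𝒜 (n : ℤ)) ≠ 1 := fun n hn h => by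
    obtain ⟨l, hl, hlreg, hspan⟩ := exists_line_generator hposR h0R hstdR hx hxreg hD hn h
    obtain ⟨φ, -⟩ := exists_polyEquiv hposR hl hlreg hspan
    exact hR.false φ
  let f := fun n => Module.finrank k (𝒜 n)
  let g := fun n => Module.finrank k (ℬ n)
  obtain ⟨M, hM0, hMR, hMS, hjump⟩ : ∃ M : ℤ, 0 ≤ M ∧ NR ≤ M ∧ NS ≤ M ∧ (f (M - D) < f M ∨ g (M - D) < g M) := by
    rcases le_total NR NS with h | h
    · exact ⟨NS, hNS0, h, le_rfl, Or.inr hNSjump⟩
    · exact ⟨NR, hNR0, le_rfl, h, Or.inl hNRjump⟩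
  have hMpos : 0 < M := by
    by_contra hM
    obtain rfl : M = 0 := by omega
    refine noline D hD ?_
    rw [← hNRmax D (by omega), sub_self, h0R, finrank_span_singleton one_ne_zero]
  obtain ⟨N, rfl⟩ := Int.eq_ofNat_of_zero_le hM0
  obtain ⟨z, hz, hψz⟩ : x ⊗ₜ[k] y ∈ (𝒯 (D : ℤ)).map ψ.toLinearMap := by
    rw [hT.2]
    exact Submodule.subset_span ⟨x, hx, y, hy, rfl⟩
  have hzreg : ∀ t : T, z * t = 0 → t = 0 := fun t ht => by
    have h := congrArg ψ ht
    rw [map_mul, show ψ z = x ⊗ₜ[k] y from hψz, map_zero] at h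
    have hinj := TensorProduct.map_injective_of_flat_flat (LinearMap.mulLeft k x) (LinearMap.mulLeft k y)
      ((injective_iff_map_eq_zero _).2 hxreg) ((injective_iff_map_eq_zero _).2 hyreg)
    have he : ∀ w, TensorProduct.map (LinearMap.mulLeft k x) (LinearMap.mulLeft k y) w = (x ⊗ₜ[k] y) * w :=
      fun w => by
        induction w using TensorProduct.induction_on with
        | zero => simp
        | tmul a b => simp
        | add a b ha hb => rw [map_add, ha, hb, mul_add]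
    exact hT.1 ((hinj ((he _).trans (h.trans (map_zero _).symm))).trans (map_zero _).symm)
  have hfinT : ∀ n, Module.Finite k (𝒯 n) := fun n => by
    haveI := nontrivial_segre ψ
    haveI : Nontrivial T := RingHom.domain_nontrivial ψ.toRingHom
    exact finite_pieceN (segre_nonneg hT hposR) (segre_zero hT h0R h0S) n
  have hkey := finrank_le_succ (segre_nonneg hT hposR) (segre_zero hT h0R h0S)
    (ringKrullDim_segre hT hposR h0R hposS h0S hr hs le_rfl le_rfl) hD hz hzreg (N := (N : ℤ)) fun n hn t ht => by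
    obtain ⟨μ, hμ⟩ := exists_mulPiece hz n
    haveI := hfinT n
    haveI := hfinT (n - D)
    have hinj : Function.Injective μ := (injective_iff_map_eq_zero _).2 fun b hb =>
      Subtype.ext (hzreg _ (by rw [← hμ, hb]; rfl))
    have heq : Module.finrank k (𝒯 (n - D)) = Module.finrank k (𝒯 n) := by
      rw [finrank_piece_segre hT, finrank_piece_segre hT, hNRmax n (by omega), hNSmax n (by omega)]
    obtain ⟨b, hb⟩ := (LinearMap.injective_iff_surjective_of_finrank_eq_finrank heq).1 hinj ⟨t, ht⟩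
    exact ⟨b, (hμ b).symm.trans (congrArg Subtype.val hb)⟩
  rw [finrank_piece_segre hT, finrank_piece_segre hT] at hkey
  change f (N : ℤ) * g (N : ℤ) ≤ f ((N : ℤ) - D) * g ((N : ℤ) - D) + 1 at hkey
  have hfle : f ((N : ℤ) - D) ≤ f N := finrank_sub_le hposR h0R hx hxreg N
  have hgle : g ((N : ℤ) - D) ≤ g N := finrank_sub_le hposS h0S hy hyreg N
  have hf1 : f (N : ℤ) ≠ 1 := noline N (by omega)
  have hfpos : 0 < f (N : ℤ) := by
    haveI := finite_piece hposR h0R (N : ℤ)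
    exact Nat.pos_of_ne_zero fun h => piece_ne_bot hposR h0R hstdR hr le_rfl (by omega)
      (Submodule.finrank_eq_zero.1 h)
  have hgpos : 0 < g (N : ℤ) := by
    haveI := finite_piece hposS h0S (N : ℤ)
    exact Nat.pos_of_ne_zero fun h => piece_ne_bot hposS h0S hstdS hs le_rfl (by omega)
      (Submodule.finrank_eq_zero.1 h)
  have hg1 : g (N : ℤ) = 1 := by
    have hf2 : 2 ≤ f (N : ℤ) := by omega
    generalize f (N : ℤ) = u, g (N : ℤ) = v, f ((N : ℤ) - D) = u', g ((N : ℤ) - D) = v' at *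
    rcases hjump with h | h
    · have h1 : u' + 1 ≤ u := h
      have h2 : (u' + 1) * v ≤ u' * v + 1 :=
        (Nat.mul_le_mul_right v h1).trans (hkey.trans (Nat.add_le_add_right (Nat.mul_le_mul_left u' hgle) 1))
      rw [Nat.succ_mul] at h2
      omega
    · have h1 : v' + 1 ≤ v := h
      have h2 : u * (v' + 1) ≤ u * v' + 1 :=
        (Nat.mul_le_mul_left u h1).trans (hkey.trans (Nat.add_le_add_right (Nat.mul_le_mul_right v' hfle) 1))
      rw [Nat.mul_succ] at h2
      omega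
  obtain ⟨l, hl, hlreg, hspan⟩ := exists_line_generator hposS h0S hstdS hy hyreg hD (N := N) (by omega) hg1
  obtain ⟨φ, hφ⟩ := exists_polyEquiv hposS hl hlreg hspan
  obtain ⟨χ⟩ := exists_equiv_factor hT hposR φ hφ hspan
  exact ⟨⟨φ⟩, Gor18.gorRing_of_ringEquiv χ.toRingEquiv⟩

end Groth.Agent.GrSeg54
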