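import Groth.Agent.GrSeg54.Transport

/-!
The dimension formula for the local cohomology of a Segre product of modules of depth at least two.
-/

set_option autoImplicit false

universe u

open scoped TensorProduct
open DirectSum GrLC

namespace Groth.Agent.GrSeg54

open Groth.Agent.CAlg6

variable {k : Type u} [Field k] {R S T : Type u} [CommRing R] [CommRing S] [CommRing T]
  [Algebra k R] [Algebra k S] [Algebra k T] [Algebra.FiniteType k R] [Algebra.FiniteType k S]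
  {𝒜 : ℤ → Submodule k R} [GradedAlgebra 𝒜] {ℬ : ℤ → Submodule k S} [GradedAlgebra ℬ]
  {𝒯 : ℤ → Submodule k T} [GradedAlgebra 𝒯] {ψ : T →ₐ[k] R ⊗[k] S}
  {M N P : Type u} [AddCommGroup M] [Module R M] [Module k M] [IsScalarTower k R M] [Module.Finite R M]
  [AddCommGroup N] [Module S N] [Module k N] [IsScalarTower k S N] [Module.Finite S N]
  [AddCommGroup P] [Module T P] [Module k P] [IsScalarTower k T P]
  {σM σN σQ : Type u} [SetLike σM M] [AddSubgroupClass σM M] [SetLike σN N] [AddSubgroupClass σN N]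
  [SetLike σQ P] [AddSubgroupClass σQ P]
  {ℳ : ℤ → σM} [Decomposition ℳ] [SetLike.GradedSMul 𝒜 ℳ]
  {𝒩 : ℤ → σN} [Decomposition 𝒩] [SetLike.GradedSMul ℬ 𝒩]
  {𝒬 : ℤ → σQ} [Decomposition 𝒬] [SetLike.GradedSMul 𝒯 𝒬] {φ : P →ₗ[k] M ⊗[k] N}
  {mR : HomogeneousIdeal 𝒜} {mS : HomogeneousIdeal ℬ} {mT : HomogeneousIdeal 𝒯}

/-- the arithmetic of the Künneth sum -/
theorem sum_kunneth (a b A B : ℕ → ℕ) (ha1 : a 1 = 0) (ha0 : a 0 = 0) (hb1 : b 1 = 0) (hb0 : b 0 = 0)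
    (hA : ∀ i, A (i + 1) = a (i + 2)) (hB : ∀ i, B (i + 1) = b (i + 2)) (n : ℕ) :
    ∑ p ∈ Finset.HasAntidiagonal.antidiagonal (n + 1), A p.1 * B p.2 =
      A 0 * b (n + 2) + a (n + 2) * B 0 + ∑ i ∈ Finset.range (n + 2 + 2), a i * b (n + 2 + 1 - i) := by
  rw [Finset.Nat.sum_antidiagonal_eq_sum_range_succ (fun i j => A i * B j), Finset.sum_range_succ,
    Finset.sum_range_succ', Nat.sub_self, Nat.sub_zero, hA n, hB n,
    Finset.sum_range_succ (fun i => a i * b (n + 2 + 1 - i)) (n + 3), show n + 2 + 1 - (n + 3) = 0 by omega, hb0,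
    mul_zero, add_zero, Finset.sum_range_succ' _ (n + 2), ha0, zero_mul, add_zero,
    Finset.sum_range_succ _ (n + 1), show n + 2 + 1 - (n + 1 + 1) = 1 by omega, hb1, mul_zero, add_zero,
    Finset.sum_range_succ' _ n, show (0 + 1 : ℕ) = 1 from rfl, ha1, zero_mul, add_zero]
  rw [Finset.sum_congr rfl fun i hi => ?_]
  · ring
  · have := Finset.mem_range.1 hi
    rw [hA, show n + 1 - (i + 1) = (n - i - 1) + 1 by omega, hB,
      show n - i - 1 + 2 = n + 2 + 1 - (i + 1 + 1) by omega]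

theorem segre_finrank_formula [Nontrivial R] [Nontrivial S] (hT : GrSeg.IsSegreRing 𝒜 ℬ 𝒯 ψ)
    (hP : GrSeg.IsSegreMod ψ ℳ 𝒩 𝒬 φ) (hposR : ∀ n : ℤ, n < 0 → 𝒜 n = ⊥) (hposS : ∀ n : ℤ, n < 0 → ℬ n = ⊥)
    (h0R : 𝒜 0 = Submodule.span k {(1 : R)}) (h0S : ℬ 0 = Submodule.span k {(1 : S)})
    (hmR : GrMod19.IsPlus mR) (hmS : GrMod19.IsPlus mS) (hmT : GrMod19.IsPlus mT)
    (EM : StarInjRes 𝒜 ℳ) (EN : StarInjRes ℬ 𝒩) (EP : StarInjRes 𝒯 𝒬)
    (hM : ∀ (q : ℕ) (d : ℤ), q ≤ 1 → EM.Hcomp mR q d = ⊥) (hN : ∀ (q : ℕ) (d : ℤ), q ≤ 1 → EN.Hcomp mS q d = ⊥)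
    (q : ℕ) (d : ℤ) :
    Module.finrank (deg0 𝒯) (EP.Hcomp mT q d) =
      Module.finrank (deg0 𝒜) (comp 𝒜 ℳ d) * Module.finrank (deg0 ℬ) (EN.Hcomp mS q d) +
        Module.finrank (deg0 𝒜) (EM.Hcomp mR q d) * Module.finrank (deg0 ℬ) (comp ℬ 𝒩 d) +
        (Finset.range (q + 2)).sum (fun i => Module.finrank (deg0 𝒜) (EM.Hcomp mR i d) *
          Module.finrank (deg0 ℬ) (EN.Hcomp mS (q + 1 - i) d)) := by
  haveI := Algebra.FiniteType.isNoetherianRing k R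
  haveI := Algebra.FiniteType.isNoetherianRing k S
  haveI := isNoetherianRing_segre hT
  haveI := nontrivial_segre ψ
  let a : ℕ → ℕ := fun i => Module.finrank (deg0 𝒜) (EM.Hcomp mR i d)
  let b : ℕ → ℕ := fun i => Module.finrank (deg0 ℬ) (EN.Hcomp mS i d)
  have za : ∀ i, i ≤ 1 → a i = 0 := fun i hi => by
    show Module.finrank _ _ = 0
    rw [hM i d hi, finrank_bot]
  have zb : ∀ i, i ≤ 1 → b i = 0 := fun i hi => by
    show Module.finrank _ _ = 0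
    rw [hN i d hi, finrank_bot]
  show _ = Module.finrank (deg0 𝒜) (comp 𝒜 ℳ d) * b q + a q * Module.finrank (deg0 ℬ) (comp ℬ 𝒩 d) +
    ∑ i ∈ Finset.range (q + 2), a i * b (q + 1 - i)
  rcases q with _ | _ | n
  · rw [(GrMod19.vanH_iff mT EP).1 (segVan0 hT hP hposR hposS hmR hmS hmT
      ((GrMod19.vanH_iff mR EM).2 (hM 0 d zero_le_one)) ((GrMod19.vanH_iff mS EN).2 (hN 0 d zero_le_one))),
      finrank_bot, za 0 zero_le_one, zb 0 zero_le_one]
    simp [Finset.sum_range_succ, za, zb]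
  · rw [(GrMod19.vanH_iff mT EP).1 ((segVan1 hT hP hposR hposS hmR hmS hmT
      ((GrMod19.vanH_iff mS EN).2 (hN 0 d zero_le_one)) ((GrMod19.vanH_iff mS EN).2 (hN 1 d le_rfl))).2
      (Or.inl ((GrMod19.vanH_iff mR EM).2 (hM 1 d le_rfl)))), finrank_bot, za 1 le_rfl, zb 1 le_rfl]
    simp [Finset.sum_range_succ, za, zb]
  · rw [segFinrank hT hP hposR hposS h0R h0S hmR hmS hmT EM EN EP (fun q hq => hM q d hq)
      (fun q hq => hN q d hq) n]
    exact sum_kunneth a b (DmV ℳ EM mR d) (DmV 𝒩 EN mS d) (za 1 le_rfl) (za 0 zero_le_one) (zb 1 le_rfl)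
      (zb 0 zero_le_one) (fun _ => rfl) (fun _ => rfl) n

end Groth.Agent.GrSeg54
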