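import Groth.Agent.GrSeg54.Punct

/-!
Module isomorphisms, compatible with the gradings, between whole graded local cohomology modules.
-/

set_option autoImplicit false

universe u

open DirectSum GrLC

namespace Groth.Agent.GrSeg54

variable {R : Type u} [CommRing R] {σ : Type u} [SetLike σ R] [AddSubgroupClass σ R]
  {𝒜 : ℤ → σ} [GradedRing 𝒜]

/-- a linear bijection matching the pieces of the two sides -/
structure GrBij {X Y : Type u} [AddCommGroup X] [Module R X] [AddCommGroup Y] [Module R Y]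
    {σ₁ σ₂ : Type u} [SetLike σ₁ X] [AddSubgroupClass σ₁ X] [SetLike σ₂ Y] [AddSubgroupClass σ₂ Y]
    (𝒳 : ℤ → σ₁) (𝒴 : ℤ → σ₂) (f : X →ₗ[R] Y) : Prop where
  bij : Function.Bijective f
  map_mem : ∀ n, ∀ x ∈ 𝒳 n, f x ∈ 𝒴 n
  exists_mem : ∀ n, ∀ y ∈ 𝒴 n, ∃ x ∈ 𝒳 n, f x = y

namespace GrBij

variable {X Y Z : Type u} [AddCommGroup X] [Module R X] [AddCommGroup Y] [Module R Y] [AddCommGroup Z]
  [Module R Z] {σ₁ σ₂ σ₃ : Type u} [SetLike σ₁ X] [AddSubgroupClass σ₁ X] [SetLike σ₂ Y] [AddSubgroupClass σ₂ Y]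
  [SetLike σ₃ Z] [AddSubgroupClass σ₃ Z] {𝒳 : ℤ → σ₁} {𝒴 : ℤ → σ₂} {𝒵 : ℤ → σ₃}

theorem comp {f : X →ₗ[R] Y} {g : Y →ₗ[R] Z} (hf : GrBij 𝒳 𝒴 f) (hg : GrBij 𝒴 𝒵 g) :
    GrBij 𝒳 𝒵 (g ∘ₗ f) where
  bij := hg.bij.comp hf.bij
  map_mem n x hx := hg.map_mem n _ (hf.map_mem n x hx)
  exists_mem n z hz := by
    obtain ⟨y, hy, rfl⟩ := hg.exists_mem n z hz
    obtain ⟨x, hx, rfl⟩ := hf.exists_mem n y hy
    exact ⟨x, hx, rfl⟩

theorem symm {f : X →ₗ[R] Y} (hf : GrBij 𝒳 𝒴 f) : ∃ g : Y →ₗ[R] X, GrBij 𝒴 𝒳 g := by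
  let e := LinearEquiv.ofBijective f hf.bij
  refine ⟨e.symm.toLinearMap, e.symm.bijective, fun n y hy => ?_, fun n x hx =>
    ⟨f x, hf.map_mem n x hx, e.symm_apply_apply x⟩⟩
  obtain ⟨x, hx, rfl⟩ := hf.exists_mem n y hy
  show e.symm (e x) ∈ _
  rwa [e.symm_apply_apply]

end GrBij

variable [IsNoetherianRing R] {a : HomogeneousIdeal 𝒜}
  {M : Type u} [AddCommGroup M] [Module R M] {τ : Type u} [SetLike τ M] [AddSubgroupClass τ M]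
  {ℳ : ℤ → τ} [Decomposition ℳ] [SetLike.GradedSMul 𝒜 ℳ]
  {N : Type u} [AddCommGroup N] [Module R N] {τ' : Type u} [SetLike τ' N] [AddSubgroupClass τ' N]
  {𝒩 : ℤ → τ'} [Decomposition 𝒩] [SetLike.GradedSMul 𝒜 𝒩]
  {L : Type u} [AddCommGroup L] [Module R L] {τ'' : Type u} [SetLike τ'' L] [AddSubgroupClass τ'' L]
  {ℒ : ℤ → τ''} [Decomposition ℒ] [SetLike.GradedSMul 𝒜 ℒ]

theorem subsingleton_EH (E : StarInjRes 𝒜 ℳ) {i : ℕ} (h : ∀ n, GrMod19.VanH a ℳ i n) : Subsingleton (E.H a i) := by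
  let := (GrMod19.isInternal_Hgr E a i).chooseDecomposition
  refine subsingleton_of_forall_eq 0 fun y => GrMod19.eq_of_cmp (E.Hgr a i) fun n => ?_
  rw [map_zero]
  have h1 : GrMod19.cmp (E.Hgr a i) n y ∈ E.Hgr a i n := GrMod19.cmp_mem (E.Hgr a i) n y
  rw [GrMod19.Hcomp_eq_bot_iff E a |>.1 (h n E), AddSubgroup.mem_bot] at h1
  exact h1

variable (E : StarInjRes 𝒜 ℳ) (F : StarInjRes 𝒜 𝒩) (G : StarInjRes 𝒜 ℒ) {f : M →ₗ[R] N} {g : N →ₗ[R] L}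

theorem exists_connBij (S : GrMod19.Ses ℳ 𝒩 ℒ f g 0) {i : ℕ} (h1 : ∀ n, GrMod19.VanH a 𝒩 i n)
    (h2 : ∀ n, GrMod19.VanH a 𝒩 (i + 1) n) :
    ∃ φ : G.H a i →ₗ[R] E.H a (i + 1), GrBij (G.Hgr a i) (E.Hgr a (i + 1)) φ := by
  obtain ⟨F⟩ := GrInj18.nonempty_starInjRes 𝒜 𝒩
  obtain ⟨δ, hδ, -, hex2, hex3, -⟩ := GrMod19.exists_les E F G S a
  have := subsingleton_EH F h1
  have := subsingleton_EH F h2
  refine ⟨δ i, ⟨(injective_iff_map_eq_zero _).2 fun y hy => ?_, fun y => ?_⟩, fun n x hx => ?_, fun n y hy => ?_⟩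
  · obtain ⟨x, rfl⟩ := (hex2 i y).1 hy
    rw [Subsingleton.elim x 0, map_zero]
  · exact (hex3 i y).1 (Subsingleton.elim _ _)
  · have := hδ i n x hx
    rwa [neg_zero, add_zero] at this
  · exact GrMod19.exists_Hcomp_preimage G a E (g := n) (hδ i) (by rwa [neg_zero, add_zero])
      ((hex3 i y).1 (Subsingleton.elim _ _))

theorem exists_leftBij (S : GrMod19.Ses ℳ 𝒩 ℒ f g 0) {i : ℕ} (h1 : ∀ n, GrMod19.VanH a ℒ i n)
    (h2 : ∀ n, GrMod19.VanH a ℒ (i + 1) n) :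
    ∃ φ : E.H a (i + 1) →ₗ[R] F.H a (i + 1), GrBij (E.Hgr a (i + 1)) (F.Hgr a (i + 1)) φ := by
  obtain ⟨G⟩ := GrInj18.nonempty_starInjRes 𝒜 ℒ
  obtain ⟨δ, hδ, hex1, -, hex3, -⟩ := GrMod19.exists_les E F G S a
  have := subsingleton_EH G h1
  have := subsingleton_EH G h2
  refine ⟨GrMod19.hMap E F a f S.hf (i + 1), ⟨(injective_iff_map_eq_zero _).2 fun y hy => ?_, fun y => ?_⟩,
    fun n x hx => GrMod19.hMap_mem_Hcomp₀ a E F S.hf hx, fun n y hy => ?_⟩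
  · obtain ⟨x, rfl⟩ := (hex3 i y).1 hy
    rw [Subsingleton.elim x 0, map_zero]
  · exact (hex1 (i + 1) y).1 (Subsingleton.elim _ _)
  · exact GrMod19.exists_Hcomp_preimage E a F (g := n) (GrMod19.hMap_deg (E := E) (F := F) a S.hf (i + 1))
      (by rwa [add_zero]) ((hex1 (i + 1) y).1 (Subsingleton.elim _ _))

theorem exists_rightBij (S : GrMod19.Ses ℳ 𝒩 ℒ f g 0) {i : ℕ} (h1 : ∀ n, GrMod19.VanH a ℳ i n)
    (h2 : ∀ n, GrMod19.VanH a ℳ (i + 1) n) :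
    ∃ φ : F.H a i →ₗ[R] G.H a i, GrBij (F.Hgr a i) (G.Hgr a i) φ := by
  obtain ⟨E⟩ := GrInj18.nonempty_starInjRes 𝒜 ℳ
  obtain ⟨δ, hδ, hex1, hex2, -, -⟩ := GrMod19.exists_les E F G S a
  have := subsingleton_EH E h1
  have := subsingleton_EH E h2
  have hg := GrMod19.isGrHomDeg_zero_iff.2 S.hg
  refine ⟨GrMod19.hMap F G a g hg i, ⟨(injective_iff_map_eq_zero _).2 fun y hy => ?_, fun y => ?_⟩,
    fun n x hx => GrMod19.hMap_mem_Hcomp₀ a F G hg hx, fun n y hy => ?_⟩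
  · obtain ⟨x, rfl⟩ := (hex1 i y).1 hy
    rw [Subsingleton.elim x 0, map_zero]
  · exact (hex2 i y).1 (Subsingleton.elim _ _)
  · exact GrMod19.exists_Hcomp_preimage F a G (g := n) (GrMod19.hMap_deg (E := F) (F := G) a hg i)
      (by rwa [add_zero]) ((hex2 i y).1 (Subsingleton.elim _ _))

theorem exists_zeroBij (htor : LocCoh.IsPowerTorsion a.toIdeal M) :
    ∃ φ : M →ₗ[R] E.H a 0, GrBij ℳ (E.Hgr a 0) φ := by
  have hg : ∀ m : M, m ∈ gam a.toIdeal M := fun m => htor m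
  let incl : M →ₗ[R] gam a.toIdeal M := LinearMap.id.codRestrict _ hg
  refine ⟨GrMod19.zeroMap E a ∘ₗ incl, ⟨fun x y h => congrArg Subtype.val (GrMod19.zeroMap_injective E a h), fun y => ?_⟩,
    fun n x hx => GrMod19.zeroMap_mem E a hx, fun n y hy => ?_⟩
  · let := (GrMod19.isInternal_Hgr E a 0).chooseDecomposition
    obtain ⟨t, ht⟩ := GrMod19.exists_sum_cmp (E.Hgr a 0) y
    have h : ∀ d, ∃ m : gam a.toIdeal M, GrMod19.zeroMap E a m = GrMod19.cmp (E.Hgr a 0) d y := fun d => by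
      obtain ⟨m, -, hm⟩ := GrMod19.exists_zeroMap_of_mem E a (g := d) (GrMod19.cmp_mem (E.Hgr a 0) d y)
      exact ⟨m, hm⟩
    choose m hm using h
    exact ⟨(∑ d ∈ t, m d : gam a.toIdeal M).1,
      (map_sum (GrMod19.zeroMap E a) m t).trans (by rw [Finset.sum_congr rfl fun d _ => hm d, ht])⟩
  · obtain ⟨m, hm, rfl⟩ := GrMod19.exists_zeroMap_of_mem E a (g := n) hy
    exact ⟨m.1, hm, rfl⟩

namespace Punct

variable {a : HomogeneousIdeal 𝒜} {P : GMod.{u} 𝒜} (D : Punct a P)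

theorem exists_imBij : ∀ (m j l : ℕ) (_ : j + m = l) (E : StarInjRes 𝒜 (D.Im j).gr),
    ∃ φ : (D.Qm l).carrier →ₗ[R] E.H a (m + 1), GrBij (D.Qm l).gr (E.Hgr a (m + 1)) φ
  | 0, j, _, rfl, E => by
    obtain ⟨G⟩ := GrInj18.nonempty_starInjRes 𝒜 (D.Qm j).gr
    obtain ⟨z, hz⟩ := exists_zeroBij G (a := a) (D.isPowerTorsion_Qm j)
    obtain ⟨c, hc⟩ := exists_connBij E G (a := a) (D.ses_coh j) (D.vanH_W_zero (j + 1)) (D.vanH_W_one (j + 1))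
    exact ⟨c ∘ₗ z, hz.comp hc⟩
  | m + 1, j, l, hl, E => by
    obtain ⟨F⟩ := GrInj18.nonempty_starInjRes 𝒜 (D.Wm (j + 1)).gr
    obtain ⟨G⟩ := GrInj18.nonempty_starInjRes 𝒜 (D.Im (j + 1)).gr
    obtain ⟨e, he⟩ := exists_imBij m (j + 1) l (by omega) G
    obtain ⟨c, hc⟩ := exists_connBij F G (a := a) (D.ses_cycles (j + 1)) (i := m + 1)
      (fun n => vanH_of_allVan (D.allVan _) _ n) (fun n => vanH_of_allVan (D.allVan _) _ n)
    obtain ⟨l₁, hl₁⟩ := exists_leftBij E F (a := a) (D.ses_coh j) (i := m + 1)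
      (fun n => GrMod19.vanH_of_torsion a (D.isPowerTorsion_Qm j) (Nat.succ_pos _) n)
      (fun n => GrMod19.vanH_of_torsion a (D.isPowerTorsion_Qm j) (Nat.succ_pos _) n)
    obtain ⟨l₂, hl₂⟩ := hl₁.symm
    exact ⟨l₂ ∘ₗ c ∘ₗ e, (he.comp hc).comp hl₂⟩

/-- cohomological degree at least two, as graded modules -/
theorem exists_highBij (E : StarInjRes 𝒜 P.gr) (n : ℕ) :
    ∃ φ : E.H a (n + 2) →ₗ[R] (D.Qm n).carrier, GrBij (E.Hgr a (n + 2)) (D.Qm n).gr φ := by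
  obtain ⟨G⟩ := GrInj18.nonempty_starInjRes 𝒜 D.Rm.gr
  obtain ⟨F⟩ := GrInj18.nonempty_starInjRes 𝒜 (D.Wm 0).gr
  obtain ⟨J⟩ := GrInj18.nonempty_starInjRes 𝒜 (D.Im 0).gr
  obtain ⟨r, hr⟩ := exists_rightBij E G (a := a) D.ses_ker (i := n + 2)
    (fun d => GrMod19.vanH_of_torsion a D.isPowerTorsion_ker_α (Nat.succ_pos _) d)
    (fun d => GrMod19.vanH_of_torsion a D.isPowerTorsion_ker_α (Nat.succ_pos _) d)
  obtain ⟨l, hl⟩ := exists_leftBij G F (a := a) D.ses_coker (i := n + 1)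
    (fun d => GrMod19.vanH_of_torsion a D.isPowerTorsion_Cm (Nat.succ_pos _) d)
    (fun d => GrMod19.vanH_of_torsion a D.isPowerTorsion_Cm (Nat.succ_pos _) d)
  obtain ⟨c, hc⟩ := exists_connBij F J (a := a) (D.ses_cycles 0) (i := n + 1)
    (fun d => vanH_of_allVan (D.allVan _) _ d) (fun d => vanH_of_allVan (D.allVan _) _ d)
  obtain ⟨e, he⟩ := D.exists_imBij n 0 n (Nat.zero_add n) J
  obtain ⟨c', hc'⟩ := (he.comp hc).symm
  exact ⟨c' ∘ₗ l ∘ₗ r, (hr.comp hl).comp hc'⟩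

end Punct

end Groth.Agent.GrSeg54
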