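import Groth.Agent.GrSeg54.CanonSegre
import Groth.Agent.GrMod19.Gor.GorPair
import Groth.Agent.GrMod19.Ver.Gor
import Groth.Agent.GrSeg54.Criteria
import Groth.Agent.S18638

/-!
Gorenstein graded algebras over a field and their shifts.
-/

set_option autoImplicit false
set_option maxHeartbeats 400000

universe u

open scoped TensorProduct
open DirectSum GrLC

namespace Groth.Agent.GrSeg54

open Groth.Agent.CAlg6

variable {k : Type u} [Field k]

section Shift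

variable {R : Type u} [CommRing R] [Algebra k R] (𝒜 : ℤ → Submodule k R) [GradedAlgebra 𝒜]

/-- the ring shifted by `a` -/
def shR (a n : ℤ) : AddSubgroup R := GrMod19.selfN 𝒜 (n + a)

noncomputable instance shR_dec (a : ℤ) : Decomposition (shR 𝒜 a) := (GrMod19.shift (gN 𝒜 𝒜) a).dec

instance shR_gsmul (a : ℤ) : SetLike.GradedSMul 𝒜 (shR 𝒜 a) :=
  ⟨fun {i j} c m hc hm => (GrMod19.shift (gN 𝒜 𝒜) a).gsmul.smul_mem hc hm⟩

variable {𝒜}

theorem mem_shR {a n : ℤ} {x : R} : x ∈ shR 𝒜 a n ↔ x ∈ 𝒜 (n + a) := Iff.rfl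

end Shift

section Segre

variable {R S T : Type u} [CommRing R] [CommRing S] [CommRing T]
  [Algebra k R] [Algebra k S] [Algebra k T]
  {𝒜 : ℤ → Submodule k R} [GradedAlgebra 𝒜] {ℬ : ℤ → Submodule k S} [GradedAlgebra ℬ]
  {𝒯 : ℤ → Submodule k T} [GradedAlgebra 𝒯] {ψ : T →ₐ[k] R ⊗[k] S}

theorem isSegreMod_shR (hT : GrSeg.IsSegreRing 𝒜 ℬ 𝒯 ψ) (a : ℤ) :
    GrSeg.IsSegreMod ψ (shR 𝒜 a) (shR ℬ a) (shR 𝒯 a) ψ.toLinearMap where
  injective := hT.1
  image_piece n := by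
    show ψ.toLinearMap '' (𝒯 (n + a) : Set T) = _
    rw [← Submodule.map_coe, hT.2 (n + a)]
    rfl
  map_smul t x := by
    show ψ (t * x) = _
    rw [map_mul, ← Seg.act_self]
    rfl

end Segre

section Ring

variable {R : Type u} [CommRing R] [Algebra k R] [IsNoetherianRing R]
  {𝒜 : ℤ → Submodule k R} [GradedAlgebra 𝒜] (hpos : ∀ n : ℤ, n < 0 → 𝒜 n = ⊥)
  (h0 : 𝒜 0 = Submodule.span k {(1 : R)}) {mR : HomogeneousIdeal 𝒜} (hmR : GrMod19.IsPlus mR)

include hpos h0 hmR in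
/-- the top cohomology of a Gorenstein algebra is dual to a shift of it -/
theorem exists_kPair_gor [LocCoh.IsGorensteinRing R] {r : ℕ} (hr : ringKrullDim R = r) (I : StarInjRes 𝒜 𝒜) :
    ∃ (a : ℤ) (β : I.H mR r →ₗ[k] R →ₗ[k] k), KPair (𝒜 := 𝒜) (shR 𝒜 a) (I.Hgr mR r) β ∧
      endDeg (I.Hgr mR r) = ((a : WithTop ℤ) : WithBot (WithTop ℤ)) := by
  haveI := nontrivial_of_dim hr
  obtain ⟨a, β₀, hβ, ha⟩ := GrMod19.Gor.exists_perfect_gor (reg_neg hpos) (isField_deg0R h0)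
    (GrMod19.isStarLocal_regIdeal (isStarLocal_of_plus hpos h0 hmR))
    (show (GrMod19.regIdeal mR).toIdeal = _ from hmR) hr (GrMod19.regRes I)
  obtain ⟨β, h⟩ := kPair_of_perfect (C := R) (𝒞 := shR 𝒜 a) h0 I r (β₀ := β₀)
    { balanced := hβ.balanced, linear := hβ.linear, orth := hβ.orth, unique := hβ.unique, onto := hβ.onto }
  exact ⟨a, β, h, ha⟩

include hpos h0 hmR in
/-- a Cohen–Macaulay algebra dual to a shift of its top cohomology is Gorenstein -/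
theorem gorenstein_of_kPair [LocCoh.IsCohenMacaulayRing R] {r : ℕ} (hr : ringKrullDim R = r)
    (I : StarInjRes 𝒜 𝒜) {a : ℤ} {β : I.H mR r →ₗ[k] R →ₗ[k] k}
    (hβ : KPair (𝒜 := 𝒜) (shR 𝒜 a) (I.Hgr mR r) β) : LocCoh.IsGorensteinRing R := by
  haveI := nontrivial_of_dim hr
  obtain ⟨X, e, he⟩ := GrInj18.exists_isStarInjHull 𝒜 (quotGr 𝒜 mR)
  have hC := canonical_of_kPair hpos h0 hmR he I r hβ
  refine (S18638.result R (GrMod19.reg 𝒜) (reg_neg hpos) (isField_deg0R h0) (GrMod19.regIdeal mR)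
    (GrMod19.isStarLocal_regIdeal (isStarLocal_of_plus hpos h0 hmR)) hmR r hr (GrMod19.regRes I)
    X.carrier X.gr e (GrMod19.isStarInjHull_reg he) R (shR 𝒜 a) (GrMod19.isStarCanonical_reg hC)).2
    ⟨-a, LinearMap.id, Function.bijective_id, fun n x hx => ?_⟩
  show x ∈ 𝒜 (n + -a + a)
  rw [neg_add_cancel_right]
  exact hx

end Ring

section SegreRing

variable {R S T : Type u} [CommRing R] [CommRing S] [CommRing T]
  [Algebra k R] [Algebra k S] [Algebra k T] [Algebra.FiniteType k R] [Algebra.FiniteType k S]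
  {𝒜 : ℤ → Submodule k R} [GradedAlgebra 𝒜] {ℬ : ℤ → Submodule k S} [GradedAlgebra ℬ]
  {𝒯 : ℤ → Submodule k T} [GradedAlgebra 𝒯] {ψ : T →ₐ[k] R ⊗[k] S}
  (hT : GrSeg.IsSegreRing 𝒜 ℬ 𝒯 ψ)
  (hposR : ∀ n : ℤ, n < 0 → 𝒜 n = ⊥) (h0R : 𝒜 0 = Submodule.span k {(1 : R)})
  (hposS : ∀ n : ℤ, n < 0 → ℬ n = ⊥) (h0S : ℬ 0 = Submodule.span k {(1 : S)})

include hT hposR h0R hposS h0S in
theorem ringKrullDim_segre [LocCoh.IsCohenMacaulayRing R] [LocCoh.IsCohenMacaulayRing S] {r s : ℕ}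
    (hr : ringKrullDim R = r) (hs : ringKrullDim S = s) (h1r : 1 ≤ r) (h1s : 1 ≤ s) :
    ringKrullDim T = ((r + s - 1 : ℕ) : WithBot ℕ∞) := by
  haveI := Algebra.FiniteType.isNoetherianRing k R
  haveI := Algebra.FiniteType.isNoetherianRing k S
  haveI := nontrivial_of_dim hr
  haveI := nontrivial_of_dim hs
  haveI := nontrivial_segre ψ
  rw [← Module.supportDim_self_eq_ringKrullDim]
  exact supportDim_segre_cm hposR h0R hposS h0S hT (Seg.isSegreMod_self hT) h1r h1s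
    ((Module.supportDim_self_eq_ringKrullDim R).trans hr) ((Module.supportDim_self_eq_ringKrullDim S).trans hs)
    (cmAll_self_iff.1 inferInstance) (cmAll_self_iff.1 inferInstance)

include hT hposR h0R hposS h0S in
/-- Segre products of Gorenstein algebras with equal a-invariants -/
theorem gorenstein_segre [LocCoh.IsGorensteinRing R] [LocCoh.IsGorensteinRing S] [LocCoh.IsCohenMacaulayRing T]
    {mR : HomogeneousIdeal 𝒜} {mS : HomogeneousIdeal ℬ} (hmR : GrMod19.IsPlus mR) (hmS : GrMod19.IsPlus mS)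
    {r s : ℕ} (hr : ringKrullDim R = r) (hs : ringKrullDim S = s) (h2r : 2 ≤ r) (h2s : 2 ≤ s)
    (I : StarInjRes 𝒜 𝒜) (J : StarInjRes ℬ ℬ) (haeq : endDeg (I.Hgr mR r) = endDeg (J.Hgr mS s)) :
    LocCoh.IsGorensteinRing T := by
  haveI := Algebra.FiniteType.isNoetherianRing k R
  haveI := Algebra.FiniteType.isNoetherianRing k S
  haveI := GrMod19.cm_of_gorenstein R
  haveI := GrMod19.cm_of_gorenstein S
  haveI := isNoetherianRing_segre hT
  obtain ⟨a, βR, hR, ha⟩ := exists_kPair_gor hposR h0R hmR hr I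
  obtain ⟨b, βS, hS, hb⟩ := exists_kPair_gor hposS h0S hmS hs J
  rw [ha, hb, WithBot.coe_inj, WithTop.coe_inj] at haeq
  subst haeq
  obtain ⟨IT⟩ := GrInj18.nonempty_starInjRes 𝒯 𝒯
  have hmT : GrMod19.IsPlus (plusH 𝒯) := rfl
  obtain ⟨β, hβ⟩ := exists_kPair_ring hT hposR h0R hposS h0S hmR hmS hmT hr hs h2r h2s I J IT hR hS
    (isSegreMod_shR hT a)
  exact gorenstein_of_kPair (segre_nonneg hT hposR) (segre_zero hT h0R h0S) hmT
    (ringKrullDim_segre hT hposR h0R hposS h0S hr hs (by omega) (by omega)) IT hβ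

end SegreRing

end Groth.Agent.GrSeg54
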