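import Groth.Agent.GrSeg54.RingCase
import Groth.Agent.CAlg6.SegStd
import Groth.Agent.S17771
import Groth.Agent.S18644
import Mathlib.Algebra.MvPolynomial.Equiv

/-!
Standard graded algebras: a-invariants, nonvanishing pieces, polynomial rings in one variable.
-/

set_option autoImplicit false

universe u

open scoped TensorProduct
open DirectSum GrLC

namespace Groth.Agent.GrSeg54

open Groth.Agent.CAlg6

variable {k : Type u} [Field k] {R : Type u} [CommRing R] [Algebra k R]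
  {𝒜 : ℤ → Submodule k R} [GradedAlgebra 𝒜]

theorem endDeg_neg_iff {H : Type u} [AddCommGroup H] (ℋ : ℤ → AddSubgroup H) :
    endDeg ℋ < 0 ↔ ∀ n : ℤ, 0 ≤ n → ℋ n = ⊥ := by
  have hz : (0 : WithBot (WithTop ℤ)) = (((0 : ℤ) : WithTop ℤ) : WithBot (WithTop ℤ)) := rfl
  refine ⟨fun h n hn => ?_, fun h => lt_of_le_of_lt ((GrMod19.endDeg_le_iff ℋ (-1)).2 fun n hn => h n (by omega)) ?_⟩
  · by_contra hne
    refine h.not_ge (le_trans ?_ (le_iSup₂ (f := fun (m : ℤ) (_ : ℋ m ≠ ⊥) =>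
      ((m : WithTop ℤ) : WithBot (WithTop ℤ))) n hne))
    rw [hz]
    exact WithBot.coe_le_coe.2 (WithTop.coe_le_coe.2 hn)
  · rw [hz]
    exact WithBot.coe_lt_coe.2 (WithTop.coe_lt_coe.2 (by norm_num))

theorem bot_of_bot_succ (hstd : Ideal.span (⋃ n ∈ Set.Ioi (0 : ℤ), (𝒜 n : Set R)) = Ideal.span ((𝒜 1 : Submodule k R) : Set R))
    {n : ℤ} (hn : 0 ≤ n) (h : 𝒜 n = ⊥) (j : ℕ) : 𝒜 (n + j) = ⊥ := by
  induction j with
  | zero => simpa using h
  | succ j ih =>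
    refine (Submodule.eq_bot_iff _).2 fun x hx => ?_
    have h1 := Seg.std_mem hstd (n := n + j) (by omega) (x := x) (by rwa [add_assoc, ← Nat.cast_succ])
    rwa [ih, Submodule.mul_bot, Submodule.mem_bot] at h1

theorem piece_ne_bot [Algebra.FiniteType k R] (hpos : ∀ n : ℤ, n < 0 → 𝒜 n = ⊥)
    (h0 : 𝒜 0 = Submodule.span k {(1 : R)})
    (hstd : Ideal.span (⋃ n ∈ Set.Ioi (0 : ℤ), (𝒜 n : Set R)) = Ideal.span ((𝒜 1 : Submodule k R) : Set R))
    {r : ℕ} (hr : ringKrullDim R = r) (h1 : 1 ≤ r) {n : ℤ} (hn : 0 ≤ n) : 𝒜 n ≠ ⊥ := fun hbot => by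
  haveI := Algebra.FiniteType.isNoetherianRing k R
  obtain ⟨D, hD, hx⟩ := Seg.exists_normalization hpos h0 (⊥ : Ideal R) (Ideal.IsHomogeneous.bot _) r
    ((ringKrullDim_eq_of_ringEquiv (RingEquiv.quotientBot R)).trans hr)
  obtain ⟨x, hx, -, hind⟩ := hx D hD dvd_rfl
  let i : Fin r := ⟨0, by omega⟩
  have hmem : x i ^ n.toNat ∈ 𝒜 (n + ((D - 1) * n.toNat : ℕ)) := by
    have h := SetLike.pow_mem_graded n.toNat (hx i)
    convert h using 2
    rw [Nat.cast_mul, Nat.cast_sub (by omega : 1 ≤ D), Int.toNat_of_nonneg hn, nsmul_eq_mul,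
      Int.toNat_of_nonneg hn]
    push_cast
    ring
  rw [bot_of_bot_succ hstd hn hbot, Submodule.mem_bot] at hmem
  exact pow_ne_zero _ (MvPolynomial.X_ne_zero i) (hind (MvPolynomial.X i ^ n.toNat) (by simp [hmem]))

/-- the cohomological condition against a standard graded factor -/
theorem forall_or_bot_iff [Algebra.FiniteType k R] (hpos : ∀ n : ℤ, n < 0 → 𝒜 n = ⊥)
    (h0 : 𝒜 0 = Submodule.span k {(1 : R)})
    (hstd : Ideal.span (⋃ n ∈ Set.Ioi (0 : ℤ), (𝒜 n : Set R)) = Ideal.span ((𝒜 1 : Submodule k R) : Set R))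
    {r : ℕ} (hr : ringKrullDim R = r) (h1 : 1 ≤ r) {H : Type u} [AddCommGroup H] (ℋ : ℤ → AddSubgroup H)
    (V : ℤ → Prop) (hV : ∀ n, V n ↔ ℋ n = ⊥) :
    (∀ n, 𝒜 n = ⊥ ∨ V n) ↔ endDeg ℋ < 0 := by
  rw [endDeg_neg_iff]
  refine ⟨fun h n hn => (hV n).1 ((h n).resolve_left (piece_ne_bot hpos h0 hstd hr h1 hn)), fun h n => ?_⟩
  rcases lt_or_ge n 0 with hn | hn
  exacts [Or.inl (hpos n hn), Or.inr ((hV n).2 (h n hn))]

variable (hpos : ∀ n : ℤ, n < 0 → 𝒜 n = ⊥) (h0 : 𝒜 0 = Submodule.span k {(1 : R)})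

omit h0 in
theorem posN (hpos : ∀ n : ℤ, n < 0 → 𝒜 n = ⊥) : ∀ n : ℤ, n < 0 → GrMod19.selfN 𝒜 n = ⊥ := fun n hn =>
  (AddSubgroup.eq_bot_iff_forall _).2 fun x hx => (Submodule.eq_bot_iff _).1 (hpos n hn) x hx

variable (𝒜) in
/-- the irrelevant ideal for the grading by additive subgroups -/
noncomputable def plusN : letI := gradedRingN (𝒜 := 𝒜); HomogeneousIdeal (GrMod19.selfN 𝒜) :=
  letI := gradedRingN (𝒜 := 𝒜)
  ⟨Seg.plus 𝒜, (isHomogeneous_selfN_iff _).2 (Seg.plus_homogeneous 𝒜)⟩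

include hpos h0 in
theorem isStarLocal_plusN [Nontrivial R] :
    letI := gradedRingN (𝒜 := 𝒜)
    IsStarLocal (GrMod19.selfN 𝒜) (plusN 𝒜) := by
  letI := gradedRingN (𝒜 := 𝒜)
  have hle : ∀ J : HomogeneousIdeal (GrMod19.selfN 𝒜), J ≠ ⊤ → J ≤ plusN 𝒜 := fun J hJ =>
    Seg.le_plus hpos h0 ((isHomogeneous_selfN_iff _).1 J.isHomogeneous) fun (h : J.toIdeal = ⊤) =>
      hJ (HomogeneousIdeal.ext (h.trans HomogeneousIdeal.toIdeal_top.symm))
  have hne : plusN 𝒜 ≠ ⊤ := fun h =>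
    Seg.plus_ne_top hpos ((congrArg HomogeneousIdeal.toIdeal h).trans HomogeneousIdeal.toIdeal_top)
  refine ⟨⟨hne, fun J hJ => ?_⟩, fun J hJ => ?_⟩
  · by_contra hJt
    exact hJ.not_ge (hle J hJt)
  · rcases (hle J hJ.1).eq_or_lt with h | h
    exacts [h, absurd (hJ.2 _ h) hne]

include h0 in
theorem isField_deg0N [Nontrivial R] : letI := gradedRingN (𝒜 := 𝒜); IsField (deg0 (GrMod19.selfN 𝒜)) := by
  letI := gradedRingN (𝒜 := 𝒜)
  let f : k →+* deg0 (GrMod19.selfN 𝒜) :=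
    (algebraMap k R).codRestrict (deg0 (GrMod19.selfN 𝒜)) fun c => SetLike.algebraMap_mem_graded 𝒜 c
  have hf : Function.Bijective f := ⟨f.injective, fun x => by
    obtain ⟨c, hc⟩ := exists_algebraMap_eq h0 x.2
    exact ⟨c, Subtype.ext hc⟩⟩
  exact (RingEquiv.ofBijective f hf).toMulEquiv.symm.isField (Field.toIsField k)

include h0 in
theorem exists_deg0N_equiv [Nontrivial R] :
    letI := gradedRingN (𝒜 := 𝒜)
    ∃ e : k ≃+* deg0 (GrMod19.selfN 𝒜), ∀ c, (e c : R) = algebraMap k R c := by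
  letI := gradedRingN (𝒜 := 𝒜)
  let f : k →+* deg0 (GrMod19.selfN 𝒜) :=
    (algebraMap k R).codRestrict (deg0 (GrMod19.selfN 𝒜)) fun c => SetLike.algebraMap_mem_graded 𝒜 c
  exact ⟨RingEquiv.ofBijective f ⟨f.injective, fun x => by
    obtain ⟨c, hc⟩ := exists_algebraMap_eq h0 x.2
    exact ⟨c, Subtype.ext hc⟩⟩, fun _ => rfl⟩

/-- a bundled module over the grading by additive subgroups -/
noncomputable def gmodN (X : GMod.{u} 𝒜) : letI := gradedRingN (𝒜 := 𝒜); GMod.{u} (GrMod19.selfN 𝒜) :=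
  letI := gradedRingN (𝒜 := 𝒜)
  { carrier := X.carrier
    gr := X.gr
    gsmul := ⟨fun {i j} c m hc hm => SetLike.GradedSMul.smul_mem (A := 𝒜) (B := X.gr) hc hm⟩ }

/-- and back -/
noncomputable def gmodK (X : letI := gradedRingN (𝒜 := 𝒜); GMod.{u} (GrMod19.selfN 𝒜)) : GMod.{u} 𝒜 :=
  letI := gradedRingN (𝒜 := 𝒜)
  { carrier := X.carrier
    gr := X.gr
    gsmul := ⟨fun {i j} c m hc hm => SetLike.GradedSMul.smul_mem (A := GrMod19.selfN 𝒜) (B := X.gr) hc hm⟩ }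

theorem exists_resN (I : StarInjRes 𝒜 𝒜) :
    letI := gradedRingN (𝒜 := 𝒜)
    ∃ I' : StarInjRes (GrMod19.selfN 𝒜) (GrMod19.selfN 𝒜), ∀ (mR : HomogeneousIdeal 𝒜),
      mR.toIdeal = Seg.plus 𝒜 → ∀ (i : ℕ) (n : ℤ), I.Hcomp mR i n = ⊥ ↔ I'.Hgr (plusN 𝒜) i n = ⊥ := by
  letI := gradedRingN (𝒜 := 𝒜)
  let I' : StarInjRes (GrMod19.selfN 𝒜) (GrMod19.selfN 𝒜) :=
    { X := fun n => gmodN (I.X n)
      d := I.d
      ε := I.ε
      d_grHom := I.d_grHom
      ε_grHom := I.ε_grHom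
      ε_injective := I.ε_injective
      exact_zero := I.exact_zero
      exact_succ := I.exact_succ
      starInj := fun n A B f hf hfi g hg => I.starInj n (gmodK A) (gmodK B) f hf hfi g hg }
  refine ⟨I', fun mR hmR i n => ?_⟩
  obtain rfl : mR = ⟨Seg.plus 𝒜, Seg.plus_homogeneous 𝒜⟩ := HomogeneousIdeal.ext hmR
  rw [Submodule.eq_bot_iff, AddSubgroup.eq_bot_iff_forall]
  exact Iff.rfl

include hpos h0 in
/-- Cohen–Macaulay standard graded algebras of dimension one with negative a-invariant are polynomial rings -/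
theorem endDeg_neg_iff_polynomial [Nontrivial R] [LocCoh.IsCohenMacaulayRing R]
    (hstd : Ideal.span (⋃ n ∈ Set.Ioi (0 : ℤ), (𝒜 n : Set R)) = Ideal.span ((𝒜 1 : Submodule k R) : Set R))
    (hr : ringKrullDim R = (1 : ℕ))
    (I' : letI := gradedRingN (𝒜 := 𝒜); StarInjRes (GrMod19.selfN 𝒜) (GrMod19.selfN 𝒜)) :
    letI := gradedRingN (𝒜 := 𝒜)
    endDeg (I'.Hgr (plusN 𝒜) 1) < 0 ↔ Nonempty (R ≃ₐ[k] Polynomial k) := by
  letI := gradedRingN (𝒜 := 𝒜)
  have hm := isStarLocal_plusN hpos h0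
  have hF := isField_deg0N h0
  haveI : IsArtinianRing (deg0 (GrMod19.selfN 𝒜)) := by
    letI := hF.toField
    infer_instance
  have hstd' : Ideal.span (⋃ n ∈ Set.Ioi (0 : ℤ), (GrMod19.selfN 𝒜 n : Set R)) =
      Ideal.span ((GrMod19.selfN 𝒜 1 : AddSubgroup R) : Set R) := hstd
  have hlow := S17771.result R (GrMod19.selfN 𝒜) (posN hpos) hstd' (plusN 𝒜) hm 1 hr I'
  have hmain := S18644.result R (GrMod19.selfN 𝒜) (posN hpos) hF (plusN 𝒜) hm rfl hstd' 1 hr I'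
  have hiff : endDeg (I'.Hgr (plusN 𝒜) 1) < 0 ↔
      endDeg (I'.Hgr (plusN 𝒜) 1) = (((-((1 : ℕ) : ℤ) : ℤ) : WithTop ℤ) : WithBot (WithTop ℤ)) := by
    refine ⟨fun h => le_antisymm ((GrMod19.endDeg_le_iff _ _).2 fun n hn =>
      (endDeg_neg_iff _).1 h n (by push_cast at hn; omega)) hlow, fun h => ?_⟩
    rw [h]
    exact WithBot.coe_lt_coe.2 (WithTop.coe_lt_coe.2 (by norm_num))
  rw [hiff, hmain]
  obtain ⟨e, he⟩ := exists_deg0N_equiv (𝒜 := 𝒜) h0
  constructor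
  · rintro ⟨θ⟩
    let θ' : R ≃+* Polynomial k := θ.trans
      ((MvPolynomial.mapEquiv (Fin 1) e.symm).trans (MvPolynomial.uniqueAlgEquiv k (Fin 1)).toRingEquiv)
    have hC : ∀ a : k, ∃ b : k, θ'.symm (Polynomial.C a) = algebraMap k R b := fun a => by
      let p := θ'.symm (Polynomial.C a)
      obtain ⟨b, hb⟩ := exists_algebraMap_eq h0 (GrMod19.cmp_mem 𝒜 0 p)
      refine ⟨b, ?_⟩
      by_contra hne
      have hq : p - algebraMap k R b ∈ Seg.plus 𝒜 :=
        (GrMod19.mem_plus_iff (nonnegGr_of_bot hpos) (a := ⟨Seg.plus 𝒜, Seg.plus_homogeneous 𝒜⟩) rfl _).2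
          (by rw [hb, map_sub, GrMod19.cmp_of_mem 𝒜 (GrMod19.cmp_mem 𝒜 0 p), sub_self])
      obtain ⟨c, hc⟩ : ∃ c, θ' (algebraMap k R b) = Polynomial.C c := by
        rcases eq_or_ne b 0 with rfl | hb0
        · exact ⟨0, by rw [map_zero, map_zero, map_zero]⟩
        · have hu : IsUnit (θ' (algebraMap k R b)) := ((isUnit_iff_ne_zero.2 hb0).map (algebraMap k R)).map θ'
          obtain ⟨c, -, hc⟩ := Polynomial.isUnit_iff.1 hu
          exact ⟨c, hc.symm⟩
      have hq' : θ' (p - algebraMap k R b) = Polynomial.C (a - c) := by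
        rw [map_sub, hc, θ'.apply_symm_apply, map_sub]
      rcases eq_or_ne (a - c) 0 with h | h
      · exact hne (sub_eq_zero.1 (θ'.injective (by rw [hq', h, map_zero, map_zero])))
      · refine Seg.plus_ne_top hpos (Ideal.eq_top_of_isUnit_mem _ hq ?_)
        rw [← θ'.symm_apply_apply (p - algebraMap k R b), hq']
        exact ((isUnit_iff_ne_zero.2 h).map Polynomial.C).map θ'.symm
    choose σ hσ using hC
    have hσ' : ∀ c, ∃ a, θ' (algebraMap k R c) = Polynomial.C a := fun c => by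
      rcases eq_or_ne c 0 with rfl | hc0
      · exact ⟨0, by rw [map_zero, map_zero, map_zero]⟩
      · have hu : IsUnit (θ' (algebraMap k R c)) := ((isUnit_iff_ne_zero.2 hc0).map (algebraMap k R)).map θ'
        obtain ⟨a, -, ha⟩ := Polynomial.isUnit_iff.1 hu
        exact ⟨a, ha.symm⟩
    choose τ hτ using hσ'
    let τh : k →+* k :=
      { toFun := τ
        map_one' := Polynomial.C_injective (by rw [← hτ, map_one, map_one, map_one])
        map_mul' := fun a b => Polynomial.C_injective (by rw [← hτ, map_mul, map_mul, hτ, hτ, map_mul])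
        map_zero' := Polynomial.C_injective (by rw [← hτ, map_zero, map_zero, map_zero])
        map_add' := fun a b => Polynomial.C_injective (by rw [← hτ, map_add, map_add, hτ, hτ, map_add]) }
    let τe : k ≃+* k := RingEquiv.ofBijective τh ⟨τh.injective, fun a => ⟨σ a, Polynomial.C_injective (by
      rw [show τh (σ a) = τ (σ a) from rfl, ← hτ, ← hσ, θ'.apply_symm_apply])⟩⟩
    exact ⟨AlgEquiv.ofRingEquiv (f := θ'.trans (Polynomial.mapEquiv τe.symm)) fun c => by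
      rw [RingEquiv.trans_apply, hτ]
      show Polynomial.map τe.symm.toRingHom (Polynomial.C (τ c)) = Polynomial.C c
      rw [Polynomial.map_C]
      exact congrArg Polynomial.C (τe.symm_apply_apply c)⟩
  · rintro ⟨θ⟩
    exact ⟨θ.toRingEquiv.trans ((MvPolynomial.uniqueAlgEquiv k (Fin 1)).toRingEquiv.symm.trans
      (MvPolynomial.mapEquiv (Fin 1) e))⟩

end Groth.Agent.GrSeg54
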