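import Groth.Agent.GrSeg54.Bridge
import Groth.Agent.GrSeg54.RingCase
import Groth.Agent.CAlg6.SegStd
import Mathlib.RingTheory.KrullDimension.Polynomial

/-!
The top local cohomology of a graded algebra is divisible by ideals with small quotient.
-/

set_option autoImplicit false
set_option maxHeartbeats 400000

universe u

open scoped TensorProduct
open DirectSum GrLC

namespace Groth.Agent.GrSeg54

open Groth.Agent.CAlg6

section Ungraded

variable {R : Type u} [CommRing R] [IsNoetherianRing R]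

theorem Hmap_sum {M N : Type u} [AddCommGroup M] [Module R M] [AddCommGroup N] [Module R N] (I : Ideal R) (r : ℕ)
    {ι : Type} (s : Finset ι) (g : ι → (M →ₗ[R] N)) :
    LC15.Hmap I r (∑ i ∈ s, g i) = ∑ i ∈ s, LC15.Hmap I r (g i) :=
  map_sum (AddMonoidHom.mk' (LC15.Hmap I r) (LC15.Hmap_add I r)) g s

/-- right exactness of the top local cohomology -/
theorem mem_smul_top {I J : Ideal R} {r : ℕ} (hR : ringKrullDim R = r) {d : ℕ}
    (hJ : ringKrullDim (R ⧸ J) ≤ d) (hd : d < r) (y : LocCoh.H I r R) :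
    y ∈ J • (⊤ : Submodule R (LocCoh.H I r R)) := by
  classical
  obtain ⟨m, f, hf⟩ := Submodule.fg_iff_exists_fin_generating_family.1 (IsNoetherian.noetherian J)
  have hmem : ∀ i, f i ∈ J := fun i => hf ▸ Submodule.subset_span ⟨i, rfl⟩
  let Φ : (Fin m → R) →ₗ[R] R := Fintype.linearCombination R f
  have hΦ : LinearMap.range Φ = J := by
    rw [Fintype.range_linearCombination]
    exact hf
  let K := LinearMap.ker Φ.rangeRestrict
  have hK : Subsingleton (LocCoh.H I (r + 1) K) :=
    CMCrit.subsingleton_H_above I ((Module.supportDim_le_ringKrullDim R K).trans hR.le) (Nat.lt_succ_self r)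
  have hQ : Subsingleton (LocCoh.H I r (R ⧸ LinearMap.range Φ)) :=
    CMCrit.subsingleton_H_above I (by rw [hΦ, Module.supportDim_quotient_eq_ringKrullDim]; exact hJ) hd
  obtain ⟨z₁, hz₁⟩ := (LC15.H_exact₂ I r (Submodule.injective_subtype (LinearMap.range Φ))
    (LinearMap.exact_iff.2 ((Submodule.ker_mkQ _).trans (Submodule.range_subtype _).symm))
    (Submodule.mkQ_surjective _) y).1 (Subsingleton.elim _ _)
  obtain ⟨z, hz⟩ := (LC15.H_exact₃ I r (Submodule.injective_subtype K)
    (LinearMap.exact_iff.2 (Submodule.range_subtype _).symm)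
    (LinearMap.surjective_rangeRestrict Φ) z₁).1 (Subsingleton.elim _ _)
  have hy : LC15.Hmap I r Φ z = y := by
    rw [← hz₁, ← hz, ← LinearMap.comp_apply, ← LC15.Hmap_comp, LinearMap.subtype_comp_codRestrict]
  have hid : (LinearMap.id : (Fin m → R) →ₗ[R] (Fin m → R)) =
      ∑ i, LinearMap.single R (fun _ : Fin m => R) i ∘ₗ LinearMap.proj i :=
    LinearMap.ext fun v => funext fun j => by simp [Pi.single_apply]
  rw [← hy, ← LinearMap.comp_id Φ, hid]
  rw [show Φ ∘ₗ ∑ i, LinearMap.single R (fun _ : Fin m => R) i ∘ₗ LinearMap.proj i =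
    ∑ i, Φ ∘ₗ (LinearMap.single R (fun _ : Fin m => R) i ∘ₗ LinearMap.proj i) from
    LinearMap.ext fun v => by simp only [LinearMap.comp_apply, LinearMap.sum_apply, map_sum]]
  rw [Hmap_sum, LinearMap.sum_apply]
  refine Submodule.sum_mem _ fun i _ => ?_
  have h1 : Φ ∘ₗ (LinearMap.single R (fun _ : Fin m => R) i ∘ₗ (LinearMap.proj i : (Fin m → R) →ₗ[R] R)) =
      LinearMap.lsmul R R (f i) ∘ₗ (LinearMap.proj i : (Fin m → R) →ₗ[R] R) := LinearMap.ext fun v => by
    simp [Φ, Fintype.linearCombination_apply, Pi.single_apply, mul_comm]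
  rw [h1, LC15.Hmap_comp, LinearMap.comp_apply, LC15.Hmap_lsmul]
  exact Submodule.smul_mem_smul (hmem i) trivial

end Ungraded

variable {k : Type u} [Field k] {R : Type u} [CommRing R] [Algebra k R] [IsNoetherianRing R]
  {𝒜 : ℤ → Submodule k R} [GradedAlgebra 𝒜] {mR : HomogeneousIdeal 𝒜}

/-- the degree `d + 1` part of the top cohomology is reached from degree `d` by degree-one generators -/
theorem exists_smul_mem {r : ℕ} (hr : ringKrullDim R = r) (I : StarInjRes 𝒜 𝒜) (L : Submodule k R)
    (hL : L ≤ 𝒜 1) {d₀ : ℕ} (hLd : ringKrullDim (R ⧸ Ideal.span (L : Set R)) ≤ d₀) (hd₀ : d₀ < r) {d : ℤ}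
    {y : I.H mR r} (hy : y ∈ I.Hgr mR r (d + 1)) :
    y ∈ AddSubgroup.closure {z | ∃ l ∈ L, ∃ x ∈ I.Hgr mR r d, z = l • x} := by
  obtain ⟨e⟩ := GrMod19.nonempty_H_equiv I mR r
  have h := mem_smul_top (I := mR.toIdeal) hr hLd hd₀ (e y)
  let : Decomposition (I.Hgr mR r) := (GrMod19.isInternal_Hgr I mR r).chooseDecomposition
  have : SetLike.GradedSMul 𝒜 (I.Hgr mR r) := ⟨fun {i j} a x ha hx => by
    rw [vadd_eq_add, add_comm]; exact GrMod19.smul_mem_Hcomp I mR r ha hx⟩
  have h' : y ∈ Ideal.span (L : Set R) • (⊤ : Submodule R (I.H mR r)) := by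
    have h2 := Submodule.mem_map_of_mem (f := e.symm.toLinearMap) h
    rwa [Submodule.map_smul'', LinearEquiv.coe_toLinearMap, e.symm_apply_apply, Submodule.map_top,
      LinearEquiv.range] at h2
  rw [← GrMod19.cmp_of_mem (I.Hgr mR r) hy]
  clear h hy
  refine Submodule.smul_induction_on h' (fun a ha x _ => ?_) fun a b ha hb => by
    rw [map_add]; exact add_mem ha hb
  induction ha using Submodule.span_induction generalizing x with
  | mem l hl =>
    rw [GrMod19.cmp_smul_homog_left 𝒜 (I.Hgr mR r) (d + 1) (show l ∈ 𝒜 1 from hL hl), add_sub_cancel_right]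
    exact AddSubgroup.subset_closure ⟨l, hl, _, GrMod19.cmp_mem (I.Hgr mR r) d x, rfl⟩
  | zero => rw [zero_smul, map_zero]; exact zero_mem _
  | add a b _ _ ha hb => rw [add_smul, map_add]; exact add_mem (ha x trivial) (hb x trivial)
  | smul c a _ ha => rw [smul_eq_mul, mul_comm, mul_smul]; exact ha _ trivial

omit [IsNoetherianRing R] in
/-- a hyperplane of the degree-one piece cuts down to dimension at most one -/
theorem ringKrullDim_quot_le_one (hpos : ∀ n : ℤ, n < 0 → 𝒜 n = ⊥) (h0 : 𝒜 0 = Submodule.span k {(1 : R)})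
    (hstd : Ideal.span (⋃ n ∈ Set.Ioi (0 : ℤ), (𝒜 n : Set R)) = Ideal.span ((𝒜 1 : Submodule k R) : Set R))
    (L : Submodule k R) (t : R) (hLt : 𝒜 1 ≤ L ⊔ Submodule.span k {t}) :
    ringKrullDim (R ⧸ Ideal.span (L : Set R)) ≤ (1 : ℕ) := by
  let J := Ideal.span (L : Set R)
  let f : Polynomial k →ₐ[k] R ⧸ J := Polynomial.aeval (Ideal.Quotient.mk J t)
  have hn : ∀ (n : ℕ) (x : R), x ∈ 𝒜 (n : ℤ) → Ideal.Quotient.mk J x ∈ f.range := by
    intro n
    induction n with
    | zero =>
      intro x hx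
      obtain ⟨c, rfl⟩ := exists_algebraMap_eq h0 (x := x) hx
      exact f.range.algebraMap_mem c
    | succ n ih =>
      intro x hx
      have h1 := Seg.std_mem hstd (n := (n : ℤ)) (Int.natCast_nonneg n) (x := x) (by rwa [← Nat.cast_succ])
      clear hx
      induction h1 using Submodule.mul_induction_on' with
      | add p _ q _ hp hq =>
        rw [map_add]; exact add_mem hp hq
      | mem_mul_mem p hp q hq =>
        obtain ⟨l, hl, s, hs, rfl⟩ := Submodule.mem_sup.1 (hLt hp)
        obtain ⟨c, rfl⟩ := Submodule.mem_span_singleton.1 hs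
        rw [map_mul, map_add, (Ideal.Quotient.eq_zero_iff_mem (I := J)).2 (Ideal.subset_span hl), zero_add]
        refine mul_mem ?_ (ih q hq)
        have : Ideal.Quotient.mk J (c • t) = c • Ideal.Quotient.mk J t := map_smul (Ideal.Quotient.mkₐ k J) c t
        rw [this]
        exact f.range.smul_mem ⟨Polynomial.X, Polynomial.aeval_X _⟩ c
  have hsurj : Function.Surjective f := fun y => by
    obtain ⟨x, rfl⟩ := Ideal.Quotient.mk_surjective y
    suffices h : Ideal.Quotient.mk J x ∈ f.range from h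
    induction x using GrMod19.piece_induction 𝒜 with
    | h0 => rw [map_zero]; exact zero_mem _
    | hadd a b ha hb => rw [map_add]; exact add_mem ha hb
    | hp i a ha =>
      rcases lt_or_ge i 0 with hi | hi
      · rw [hpos i hi] at ha
        rw [(Submodule.mem_bot k).1 ha, map_zero]
        exact zero_mem _
      · obtain ⟨n, rfl⟩ := Int.eq_ofNat_of_zero_le hi
        exact hn n a ha
  refine (ringKrullDim_le_of_surjective f.toRingHom hsurj).trans ?_
  rw [Polynomial.ringKrullDim_of_isNoetherianRing, ringKrullDim_eq_zero_of_field]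
  simp

end Groth.Agent.GrSeg54
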