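import Groth.Agent.GrSeg54.Gor
import Groth.Agent.GrSeg54.TopMul
import Groth.Agent.GrSeg54.Std

/-!
Gorensteinness descends from a Segre product to standard graded factors of dimension at least two.
-/

set_option autoImplicit false
set_option maxHeartbeats 400000

universe u

open scoped TensorProduct
open DirectSum GrLC

namespace Groth.Agent.GrSeg54

open Groth.Agent.CAlg6

variable {k : Type u} [Field k]

section One

variable {R : Type u} [CommRing R] [Algebra k R] [IsNoetherianRing R]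
  {𝒜 : ℤ → Submodule k R} [GradedAlgebra 𝒜] {mR : HomogeneousIdeal 𝒜}
  (hpos : ∀ n : ℤ, n < 0 → 𝒜 n = ⊥) (h0 : 𝒜 0 = Submodule.span k {(1 : R)})
  (hstd : Ideal.span (⋃ n ∈ Set.Ioi (0 : ℤ), (𝒜 n : Set R)) = Ideal.span ((𝒜 1 : Submodule k R) : Set R))
  {r : ℕ} (hr : ringKrullDim R = r) (h2r : 2 ≤ r) (I : StarInjRes 𝒜 𝒜)

include hpos h0 hstd hr h2r in
theorem hgr_succ_bot {d : ℤ} (h : ∀ x ∈ I.Hgr mR r d, x = 0) : ∀ x ∈ I.Hgr mR r (d + 1), x = 0 := by
  intro y hy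
  have := exists_smul_mem hr I (𝒜 1) le_rfl
    (ringKrullDim_quot_le_one hpos h0 hstd (𝒜 1) 0 le_sup_left) (by omega : 1 < r) hy
  have hle : AddSubgroup.closure {z | ∃ l ∈ 𝒜 1, ∃ x ∈ I.Hgr mR r d, z = l • x} ≤ ⊥ := by
    rw [AddSubgroup.closure_le]
    rintro _ ⟨l, -, x, hx, rfl⟩
    simp [h x hx]
  exact AddSubgroup.mem_bot.1 (hle this)

include hpos h0 hstd hr h2r in
theorem hgr_bot_of_le {d : ℤ} (h : ∀ x ∈ I.Hgr mR r d, x = 0) {e : ℤ} (he : d ≤ e) :
    ∀ x ∈ I.Hgr mR r e, x = 0 := by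
  obtain ⟨j, rfl⟩ : ∃ j : ℕ, e = d + j := ⟨(e - d).toNat, by omega⟩
  clear he
  induction j with
  | zero => simpa using h
  | succ j ih =>
    rw [Nat.cast_succ, ← add_assoc]
    exact hgr_succ_bot hpos h0 hstd hr h2r I ih

include hpos h0 hstd hr h2r in
theorem hgr_above_line {a : ℤ} {h : I.H mR r}
    (hline : ∀ x ∈ I.Hgr mR r a, ∃ c : k, c • h = x) : ∀ x ∈ I.Hgr mR r (a + 1), x = 0 := by
  intro y hy
  by_contra hne
  obtain ⟨ℓ, hℓ⟩ : ∃ ℓ : I.H mR r →ₗ[k] k, ℓ y ≠ 0 := by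
    obtain ⟨g, hg⟩ := (LinearMap.toSpanSingleton k (I.H mR r) y).exists_leftInverse_of_injective
      (LinearMap.ker_toSpanSingleton k hne)
    exact ⟨g, fun h0' => one_ne_zero (α := k) (by simpa [h0'] using (LinearMap.congr_fun hg 1).symm)⟩
  let g : R →ₗ[k] k := ℓ ∘ₗ
    { toFun := fun x => x • h
      map_add' := fun a b => add_smul a b h
      map_smul' := fun c x => smul_assoc c x h }
  let L : Submodule k R := 𝒜 1 ⊓ LinearMap.ker g
  obtain ⟨t, ht⟩ : ∃ t : R, 𝒜 1 ≤ L ⊔ Submodule.span k {t} := by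
    by_cases hg : ∃ t ∈ 𝒜 1, g t ≠ 0
    · obtain ⟨t, ht1, htg⟩ := hg
      refine ⟨t, fun x hx => Submodule.mem_sup.2 ⟨x - (g x / g t) • t, ⟨?_, ?_⟩, (g x / g t) • t,
        Submodule.mem_span_singleton.2 ⟨_, rfl⟩, sub_add_cancel _ _⟩⟩
      · exact sub_mem hx (Submodule.smul_mem _ _ ht1)
      · show g (x - (g x / g t) • t) = 0
        rw [map_sub, map_smul, smul_eq_mul, div_mul_cancel₀ _ htg, sub_self]
    · push Not at hg
      exact ⟨0, fun x hx => Submodule.mem_sup_left ⟨hx, hg x hx⟩⟩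
  have hcl := exists_smul_mem hr I L inf_le_left (ringKrullDim_quot_le_one hpos h0 hstd L t ht)
    (by omega : 1 < r) hy
  have hle : AddSubgroup.closure {z | ∃ l ∈ L, ∃ x ∈ I.Hgr mR r a, z = l • x} ≤ ℓ.toAddMonoidHom.ker := by
    rw [AddSubgroup.closure_le]
    rintro _ ⟨l, hl, x, hx, rfl⟩
    obtain ⟨c, rfl⟩ := hline x hx
    show ℓ (l • (c • h)) = 0
    rw [smul_comm, map_smul, show ℓ (l • h) = 0 from hl.2, smul_zero]
  exact hℓ (hle hcl)

end One

section Descend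

variable {R S T : Type u} [CommRing R] [CommRing S] [CommRing T]
  [Algebra k R] [Algebra k S] [Algebra k T] [IsNoetherianRing R]
  {𝒜 : ℤ → Submodule k R} [GradedAlgebra 𝒜] {ℬ : ℤ → Submodule k S} [GradedAlgebra ℬ]
  {𝒯 : ℤ → Submodule k T} [GradedAlgebra 𝒯] {ψ : T →ₐ[k] R ⊗[k] S} {mR : HomogeneousIdeal 𝒜}
  {HS HT : Type u} [AddCommGroup HS] [Module S HS] [Module k HS] [IsScalarTower k S HS]
  [AddCommGroup HT] [Module T HT] [Module k HT]

set_option maxHeartbeats 1600000 in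
/-- the pairing of the top cohomology of a factor with a shift of it -/
theorem exists_kPair_factor (hT : GrSeg.IsSegreRing 𝒜 ℬ 𝒯 ψ) {r : ℕ} (I : StarInjRes 𝒜 𝒜) (a : ℤ)
    {h : I.H mR r} (hha : h ∈ I.Hgr mR r a) (hne : h ≠ 0) (hline : ∀ x ∈ I.Hgr mR r a, ∃ c : k, c • h = x)
    (habove : ∀ d, a < d → ∀ x ∈ I.Hgr mR r d, x = 0)
    {ℋS : ℤ → AddSubgroup HS} (hS : ∀ d, d ≤ a → ∃ g ∈ ℋS d, g ≠ 0)
    {ℋT : ℤ → AddSubgroup HT} {βT : HT →ₗ[k] T →ₗ[k] k} (hβT : KPair (𝒜 := 𝒯) (shR 𝒯 a) ℋT βT)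
    (Θ : HT →+ I.H mR r ⊗[k] HS) (hΘp : ∀ d, Θ '' (ℋT d : Set HT) =
      (GrSeg.segrePiece k (I.Hgr mR r) ℋS d : Set _)) (hΘi : Function.Injective Θ)
    (hΘs : ∀ (t : T) y, Θ (t • y) = GrSeg.act k R S (I.H mR r) HS (ψ t) (Θ y))
    : ∃ β : I.H mR r →ₗ[k] R →ₗ[k] k, (∀ (b : R) (x : I.H mR r) (c : R), β (b • x) c = β x (b • c)) ∧
      (∀ (d e : ℤ), ∀ x ∈ I.Hgr mR r d, ∀ c ∈ shR 𝒜 a e, d + e ≠ 0 → β x c = 0) ∧
      ∀ d, ∀ x ∈ I.Hgr mR r d, (∀ c ∈ shR 𝒜 a (-d), β x c = 0) → x = 0 := by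
  let : Decomposition (I.Hgr mR r) := (GrMod19.isInternal_Hgr I mR r).chooseDecomposition
  have : SetLike.GradedSMul 𝒜 (I.Hgr mR r) := ⟨fun {i j} a x ha hx => by
    rw [vadd_eq_add, add_comm]; exact GrMod19.smul_mem_Hcomp I mR r ha hx⟩
  obtain ⟨ℓ, hℓ⟩ := (LinearMap.toSpanSingleton k (I.H mR r) h).exists_leftInverse_of_injective
    (LinearMap.ker_toSpanSingleton k hne)
  have hℓ1 : ℓ h = 1 := by simpa using LinearMap.congr_fun hℓ 1
  let lam : I.H mR r →ₗ[k] k := ℓ ∘ₗ Seg.prj 𝒜 (I.Hgr mR r) a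
  let β : I.H mR r →ₗ[k] R →ₗ[k] k := LinearMap.mk₂ k (fun x c => lam (c • x))
    (fun x x' c => by rw [smul_add, map_add]) (fun s x c => by rw [smul_comm, map_smul])
    (fun x c c' => by rw [add_smul, map_add]) (fun s x c => by rw [smul_assoc, map_smul])
  have hmem : ∀ d e : ℤ, ∀ x ∈ I.Hgr mR r d, ∀ c ∈ shR 𝒜 a e, c • x ∈ I.Hgr mR r (e + a + d) :=
    fun d e x hx c hc => GrMod19.smul_mem_add 𝒜 (I.Hgr mR r) (show c ∈ 𝒜 (e + a) from hc) hx
  have huniq : ∀ (d : ℤ), ∀ x ∈ I.Hgr mR r d, (∀ c ∈ shR 𝒜 a (-d), β x c = 0) → x = 0 := by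
    intro d x hx hz
    rcases lt_or_ge a d with hd | hd
    · exact habove d hd x hx
    obtain ⟨g, hg, hg0⟩ := hS d hd
    have hkill : ∀ c ∈ 𝒜 (a - d), c • x = 0 := fun c hc => by
      have hc' : c ∈ shR 𝒜 a (-d) := show c ∈ 𝒜 (-d + a) by rwa [neg_add_eq_sub]
      have h1 : c • x ∈ I.Hgr mR r a := by
        have h2 := hmem d (-d) x hx c hc'
        rwa [show -d + a + d = a by ring] at h2
      obtain ⟨s, hs⟩ := hline _ h1
      have h3 : lam (c • x) = s := by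
        show ℓ (Seg.prj 𝒜 (I.Hgr mR r) a (c • x)) = s
        rw [Seg.prj_of_mem 𝒜 (I.Hgr mR r) h1, ← hs, map_smul, hℓ1, smul_eq_mul, mul_one]
      have h4 : lam (c • x) = 0 := hz c hc'
      rw [← hs, ← h3, h4, zero_smul]
    obtain ⟨y, hy, hyx⟩ : x ⊗ₜ[k] g ∈ Θ '' (ℋT d : Set HT) := by
      rw [hΘp]; exact Submodule.subset_span ⟨x, hx, g, hg, rfl⟩
    have hty : ∀ t ∈ 𝒯 (a - d), t • y = 0 := fun t ht => hΘi (by
      rw [hΘs, hyx, map_zero]
      have h1 := Seg.psi_mem_piece hT ht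
      generalize ψ t = z at h1 ⊢
      induction h1 using Submodule.span_induction with
      | zero => simp
      | add u v _ _ hu hv => rw [map_add, LinearMap.add_apply, hu, hv, add_zero]
      | smul s u _ hu => rw [map_smul, LinearMap.smul_apply, hu, smul_zero]
      | mem u hu =>
        obtain ⟨b, hb, b', -, rfl⟩ := hu
        rw [GrSeg.act_tmul, hkill b hb, TensorProduct.zero_tmul])
    have hy0 : y = 0 := hβT.unique d y hy fun t ht => by
      have ht' : t ∈ 𝒯 (a - d) := by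
        rw [← neg_add_eq_sub]; exact ht
      rw [show t = t • (1 : T) by rw [smul_eq_mul, mul_one], ← hβT.balanced, hty t ht', map_zero,
        LinearMap.zero_apply]
    rw [hy0, map_zero] at hyx
    by_contra hx0
    obtain ⟨f, hf⟩ := (LinearMap.toSpanSingleton k (I.H mR r) x).exists_leftInverse_of_injective
      (LinearMap.ker_toSpanSingleton k hx0)
    have hf1 : f x = 1 := by simpa using LinearMap.congr_fun hf 1
    have h5 := congrArg (fun u => TensorProduct.lid k HS (TensorProduct.map f LinearMap.id u)) hyx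
    exact hg0 (by simpa [hf1] using h5.symm)
  have hbal : ∀ (b : R) (x : I.H mR r) (c : R), β (b • x) c = β x (b • c) := fun b x c =>
    congrArg lam (show c • b • x = (b * c) • x by rw [smul_smul, mul_comm])
  refine ⟨β, hbal, fun d e x hx c hc hne' => ?_, huniq⟩
  show ℓ (Seg.prj 𝒜 (I.Hgr mR r) a (c • x)) = 0
  rw [Seg.prj_of_ne 𝒜 (I.Hgr mR r) (hmem d e x hx c hc) (by omega), map_zero]

omit [IsNoetherianRing R] in
/-- the evaluation of one piece -/
theorem exists_evalPiece {r : ℕ} (I : StarInjRes 𝒜 𝒜) (a : ℤ) (β : I.H mR r →ₗ[k] R →ₗ[k] k)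
    (huniq : ∀ d, ∀ x ∈ I.Hgr mR r d, (∀ c ∈ shR 𝒜 a (-d), β x c = 0) → x = 0) (d : ℤ) :
    ∃ D : (I.Hcomp mR r d).restrictScalars k →ₗ[k] Module.Dual k (kPc 𝒜 (shR 𝒜 a) (-d)),
      Function.Injective D ∧ ∀ x c, D x c = β x.1 c.1 :=
  ⟨(LinearMap.lcomp k k (kPc 𝒜 (shR 𝒜 a) (-d)).subtype) ∘ₗ β ∘ₗ ((I.Hcomp mR r d).restrictScalars k).subtype,
    (injective_iff_map_eq_zero _).2 fun x hx => Subtype.ext
      (huniq d x.1 x.2 fun c hc => LinearMap.congr_fun hx ⟨c, hc⟩), fun _ _ => rfl⟩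

omit [IsNoetherianRing R] in
theorem kPair_of_finrank {r : ℕ} (I : StarInjRes 𝒜 𝒜) (a : ℤ) (β : I.H mR r →ₗ[k] R →ₗ[k] k)
    (hbal : ∀ (b : R) (x : I.H mR r) (c : R), β (b • x) c = β x (b • c))
    (horth : ∀ (d e : ℤ), ∀ x ∈ I.Hgr mR r d, ∀ c ∈ shR 𝒜 a e, d + e ≠ 0 → β x c = 0)
    (huniq : ∀ d, ∀ x ∈ I.Hgr mR r d, (∀ c ∈ shR 𝒜 a (-d), β x c = 0) → x = 0)
    (hfin : ∀ d, Module.Finite k (kPc 𝒜 (shR 𝒜 a) d))
    (hdim : ∀ d, Module.finrank k ((I.Hcomp mR r d).restrictScalars k) =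
      Module.finrank k (kPc 𝒜 (shR 𝒜 a) (-d))) :
    KPair (𝒜 := 𝒜) (shR 𝒜 a) (I.Hgr mR r) β := by
  refine ⟨hbal, horth, huniq, fun d F => ?_⟩
  obtain ⟨D, hD, hDe⟩ := exists_evalPiece I a β huniq d
  haveI := hfin (-d)
  haveI := Module.Finite.of_injective D hD
  obtain ⟨x, hx⟩ := ((LinearMap.injective_iff_surjective_of_finrank_eq_finrank
    ((hdim d).trans Subspace.dual_finrank_eq.symm)).1 hD) F
  exact ⟨x.1, x.2, fun c => (hDe x c).symm.trans (LinearMap.congr_fun hx c)⟩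

end Descend


section Swap

variable {R S T : Type u} [CommRing R] [CommRing S] [CommRing T] [Algebra k R] [Algebra k S] [Algebra k T]

theorem segrePiece_comm {M N : Type u} [AddCommGroup M] [Module k M] [AddCommGroup N] [Module k N]
    {τ τ' : Type u} [SetLike τ M] [SetLike τ' N] (ℳ : ℤ → τ) (𝒩 : ℤ → τ') (n : ℤ) :
    TensorProduct.comm k M N '' (GrSeg.segrePiece k ℳ 𝒩 n : Set _) = (GrSeg.segrePiece k 𝒩 ℳ n : Set _) := by
  show (TensorProduct.comm k M N).toLinearMap '' _ = _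
  rw [← Submodule.map_coe, GrSeg.segrePiece, Submodule.map_span]
  congr 2
  refine Set.ext fun u => ⟨?_, ?_⟩
  · rintro ⟨_, ⟨a, ha, b, hb, rfl⟩, rfl⟩
    exact ⟨b, hb, a, ha, rfl⟩
  · rintro ⟨b, hb, a, ha, rfl⟩
    exact ⟨a ⊗ₜ b, ⟨a, ha, b, hb, rfl⟩, rfl⟩

theorem isSegreRing_swap {𝒜 : ℤ → Submodule k R} [GradedAlgebra 𝒜] {ℬ : ℤ → Submodule k S} [GradedAlgebra ℬ]
    {𝒯 : ℤ → Submodule k T} [GradedAlgebra 𝒯] {ψ : T →ₐ[k] R ⊗[k] S} (hT : GrSeg.IsSegreRing 𝒜 ℬ 𝒯 ψ) :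
    GrSeg.IsSegreRing ℬ 𝒜 𝒯 ((Algebra.TensorProduct.comm k R S).toAlgHom.comp ψ) := by
  refine ⟨(Algebra.TensorProduct.comm k R S).injective.comp hT.1, fun n => SetLike.coe_injective ?_⟩
  rw [← segrePiece_comm 𝒜 ℬ n, ← hT.2 n, Submodule.map_coe, Submodule.map_coe, Set.image_image]
  rfl

theorem act_comm {M N : Type u} [AddCommGroup M] [Module R M] [Module k M] [IsScalarTower k R M]
    [AddCommGroup N] [Module S N] [Module k N] [IsScalarTower k S N] (z : R ⊗[k] S) (w : M ⊗[k] N) :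
    TensorProduct.comm k M N (GrSeg.act k R S M N z w) =
      GrSeg.act k S R N M (Algebra.TensorProduct.comm k R S z) (TensorProduct.comm k M N w) := by
  induction z using TensorProduct.induction_on with
  | zero => simp
  | add a b ha hb => simp [map_add, LinearMap.add_apply, ha, hb]
  | tmul a b =>
    induction w using TensorProduct.induction_on with
    | zero => simp
    | add u v hu hv => simp only [map_add, hu, hv]
    | tmul u v => simp [GrSeg.act_tmul]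

end Swap

theorem endDeg_eq_of {H : Type u} [AddCommGroup H] {ℋ : ℤ → AddSubgroup H} {a : ℤ} {x : H} (hx : x ∈ ℋ a)
    (hx0 : x ≠ 0) (h : ∀ d, a < d → ∀ y ∈ ℋ d, y = 0) :
    endDeg ℋ = ((a : WithTop ℤ) : WithBot (WithTop ℤ)) :=
  le_antisymm ((GrMod19.endDeg_le_iff ℋ a).2 fun n hn => (AddSubgroup.eq_bot_iff_forall _).2 (h n hn))
    (le_iSup₂ (f := fun (n : ℤ) (_ : ℋ n ≠ ⊥) => ((n : WithTop ℤ) : WithBot (WithTop ℤ))) a
      fun hb => hx0 ((AddSubgroup.eq_bot_iff_forall _).1 hb x hx))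

section Main

variable {R S T : Type u} [CommRing R] [CommRing S] [CommRing T]
  [Algebra k R] [Algebra k S] [Algebra k T] [Algebra.FiniteType k R] [Algebra.FiniteType k S]
  {𝒜 : ℤ → Submodule k R} [GradedAlgebra 𝒜] {ℬ : ℤ → Submodule k S} [GradedAlgebra ℬ]
  {𝒯 : ℤ → Submodule k T} [GradedAlgebra 𝒯] {ψ : T →ₐ[k] R ⊗[k] S}

omit [Algebra.FiniteType k R] in
theorem finrank_kPc_shR (a d : ℤ) : Module.finrank k (kPc 𝒜 (shR 𝒜 a) (-d)) = Module.finrank k (𝒜 (a - d)) := by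
  rw [show a - d = -d + a by ring]
  exact rfl

omit [Algebra.FiniteType k R] [Algebra.FiniteType k S] in
theorem finrank_piece_segre (hT : GrSeg.IsSegreRing 𝒜 ℬ 𝒯 ψ) (n : ℤ) :
    Module.finrank k (𝒯 n) = Module.finrank k (𝒜 n) * Module.finrank k (ℬ n) := by
  rw [(Submodule.equivMapOfInjective ψ.toLinearMap hT.1 (𝒯 n)).finrank_eq, hT.2 n,
    segrePiece_eq_range (𝒜 n) (ℬ n) (fun _ => Iff.rfl) (fun _ => Iff.rfl),
    LinearMap.finrank_range_of_inj (TensorProduct.map_injective_of_flat_flat _ _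
      (Submodule.injective_subtype _) (Submodule.injective_subtype _)), Module.finrank_tensorProduct]

set_option maxHeartbeats 3000000 in
/-- Gorensteinness descends to standard graded factors -/
theorem gorenstein_descend (hT : GrSeg.IsSegreRing 𝒜 ℬ 𝒯 ψ)
    (hposR : ∀ n : ℤ, n < 0 → 𝒜 n = ⊥) (h0R : 𝒜 0 = Submodule.span k {(1 : R)})
    (hposS : ∀ n : ℤ, n < 0 → ℬ n = ⊥) (h0S : ℬ 0 = Submodule.span k {(1 : S)})
    [LocCoh.IsCohenMacaulayRing R] [LocCoh.IsCohenMacaulayRing S] [LocCoh.IsGorensteinRing T]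
    {mR : HomogeneousIdeal 𝒜} {mS : HomogeneousIdeal ℬ} (hmR : GrMod19.IsPlus mR) (hmS : GrMod19.IsPlus mS)
    (hstdR : Ideal.span (⋃ n ∈ Set.Ioi (0 : ℤ), (𝒜 n : Set R)) = Ideal.span ((𝒜 1 : Submodule k R) : Set R))
    (hstdS : Ideal.span (⋃ n ∈ Set.Ioi (0 : ℤ), (ℬ n : Set S)) = Ideal.span ((ℬ 1 : Submodule k S) : Set S))
    {r s : ℕ} (hr : ringKrullDim R = r) (hs : ringKrullDim S = s) (h2r : 2 ≤ r) (h2s : 2 ≤ s)
    (I : StarInjRes 𝒜 𝒜) (J : StarInjRes ℬ ℬ) :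
    LocCoh.IsGorensteinRing R ∧ LocCoh.IsGorensteinRing S ∧
      endDeg (I.Hgr mR r) = endDeg (J.Hgr mS s) := by
  haveI := Algebra.FiniteType.isNoetherianRing k R
  haveI := Algebra.FiniteType.isNoetherianRing k S
  haveI := isNoetherianRing_segre hT
  haveI := nontrivial_of_dim hr
  haveI := nontrivial_of_dim hs
  haveI := nontrivial_segre ψ
  haveI := GrMod19.cm_of_gorenstein T
  obtain ⟨IT⟩ := GrInj18.nonempty_starInjRes 𝒯 𝒯
  have hmT : GrMod19.IsPlus (plusH 𝒯) := rfl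
  obtain ⟨a, βT, hβT, -⟩ := exists_kPair_gor (segre_nonneg hT hposR) (segre_zero hT h0R h0S) hmT
    (ringKrullDim_segre hT hposR h0R hposS h0S hr hs (by omega) (by omega)) IT
  obtain ⟨Θ, hΘi, hΘp, hΘs⟩ := exists_topRing hT hposR hposS hmR hmS hmT hr hs h2r h2s I J IT
  let WR := fun d => (I.Hcomp mR r d).restrictScalars k
  let WS := fun d => (J.Hcomp mS s d).restrictScalars k
  let Θk : IT.H (plusH 𝒯) (r + s - 1) →ₗ[k] I.H mR r ⊗[k] J.H mS s :=
    { toFun := Θ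
      map_add' := map_add Θ
      map_smul' := fun c y => by
        rw [← algebraMap_smul T c y, hΘs, AlgHom.commutes, Algebra.algebraMap_eq_smul_one, map_smul,
          LinearMap.smul_apply, Seg.act_one]
        rfl }
  have hprod : ∀ d, Module.finrank k (WR d) * Module.finrank k (WS d) =
      Module.finrank k (𝒜 (a - d)) * Module.finrank k (ℬ (a - d)) := fun d => by
    have himg : ((IT.Hcomp (plusH 𝒯) (r + s - 1) d).restrictScalars k).map Θk =
        LinearMap.range (TensorProduct.map (WR d).subtype (WS d).subtype) := by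
      rw [← segrePiece_eq_range (𝒳 := I.Hgr mR r) (𝒴 := J.Hgr mS s) (WR d) (WS d) (fun _ => Iff.rfl)
        fun _ => Iff.rfl]
      exact SetLike.coe_injective (hΘp d)
    have h1 : Module.finrank k ((IT.Hcomp (plusH 𝒯) (r + s - 1) d).restrictScalars k) =
        Module.finrank k (kPc 𝒯 (shR 𝒯 a) (-d)) := finrank_dual hβT fun _ => Iff.rfl
    rw [← Module.finrank_tensorProduct, ← LinearMap.finrank_range_of_inj (TensorProduct.map_injective_of_flat_flat _ _
      (WR d).injective_subtype (WS d).injective_subtype), ← himg,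
      ← (Submodule.equivMapOfInjective Θk hΘi _).finrank_eq, h1, finrank_kPc_shR, finrank_piece_segre hT]
  have h00 : Module.finrank k (𝒜 0) = 1 ∧ Module.finrank k (ℬ 0) = 1 := by
    rw [h0R, h0S]
    exact ⟨finrank_span_singleton one_ne_zero, finrank_span_singleton one_ne_zero⟩
  have hone := hprod a
  rw [sub_self, h00.1, h00.2, mul_one, mul_eq_one] at hone
  obtain ⟨⟨h, hha⟩, hh0, hhline⟩ := finrank_eq_one_iff'.1 hone.1
  obtain ⟨⟨g, hga⟩, hg0, hgline⟩ := finrank_eq_one_iff'.1 hone.2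
  have hh : h ≠ 0 := fun e => hh0 (Subtype.ext e)
  have hg : g ≠ 0 := fun e => hg0 (Subtype.ext e)
  have hlR : ∀ x ∈ I.Hgr mR r a, ∃ c : k, c • h = x := fun x hx =>
    let ⟨c, hc⟩ := hhline ⟨x, hx⟩; ⟨c, congrArg Subtype.val hc⟩
  have hlS : ∀ x ∈ J.Hgr mS s a, ∃ c : k, c • g = x := fun x hx =>
    let ⟨c, hc⟩ := hgline ⟨x, hx⟩; ⟨c, congrArg Subtype.val hc⟩
  have habR : ∀ d, a < d → ∀ x ∈ I.Hgr mR r d, x = 0 := fun d hd =>
    hgr_bot_of_le hposR h0R hstdR hr h2r I (hgr_above_line hposR h0R hstdR hr h2r I hlR) hd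
  have habS : ∀ d, a < d → ∀ x ∈ J.Hgr mS s d, x = 0 := fun d hd =>
    hgr_bot_of_le hposS h0S hstdS hs h2s J (hgr_above_line hposS h0S hstdS hs h2s J hlS) hd
  have hexR : ∀ d, d ≤ a → ∃ x ∈ I.Hgr mR r d, x ≠ 0 := fun d hd => by
    by_contra hc
    push Not at hc
    exact hh (hgr_bot_of_le hposR h0R hstdR hr h2r I hc hd h hha)
  have hexS : ∀ d, d ≤ a → ∃ x ∈ J.Hgr mS s d, x ≠ 0 := fun d hd => by
    by_contra hc
    push Not at hc
    exact hg (hgr_bot_of_le hposS h0S hstdS hs h2s J hc hd g hga)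
  obtain ⟨βR, b1, b2, b3⟩ := exists_kPair_factor hT I a hha hh hlR habR hexS hβT Θ hΘp hΘi hΘs
  let σ := Algebra.TensorProduct.comm k R S
  have hT' : GrSeg.IsSegreRing ℬ 𝒜 𝒯 (σ.toAlgHom.comp ψ) := isSegreRing_swap hT
  let τ := TensorProduct.comm k (I.H mR r) (J.H mS s)
  obtain ⟨βS, c1, c2, c3⟩ := exists_kPair_factor hT' J a hga hg hlS habS hexR hβT
    (τ.toLinearMap.toAddMonoidHom.comp Θ) (fun d => by
      show (fun y => τ (Θ y)) '' _ = _
      rw [← Set.image_image τ Θ, hΘp]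
      exact segrePiece_comm (I.Hgr mR r) (J.Hgr mS s) d)
    (τ.injective.comp hΘi) (fun t y => by
      show τ (Θ (t • y)) = _
      rw [hΘs]
      exact act_comm (ψ t) (Θ y))
  haveI : ∀ d, Module.Finite k (kPc 𝒜 (shR 𝒜 a) d) := finite_kPc (C := R) hposR h0R hmR (shR 𝒜 a)
  haveI : ∀ d, Module.Finite k (kPc ℬ (shR ℬ a) d) := finite_kPc (C := S) hposS h0S hmS (shR ℬ a)
  have hleR : ∀ d, Module.finrank k (WR d) ≤ Module.finrank k (𝒜 (a - d)) := fun d => by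
    obtain ⟨D, hD, -⟩ := exists_evalPiece I a βR b3 d
    rw [← finrank_kPc_shR]
    exact (LinearMap.finrank_le_finrank_of_injective hD).trans Subspace.dual_finrank_eq.le
  have hleS : ∀ d, Module.finrank k (WS d) ≤ Module.finrank k (ℬ (a - d)) := fun d => by
    obtain ⟨D, hD, -⟩ := exists_evalPiece J a βS c3 d
    rw [← finrank_kPc_shR]
    exact (LinearMap.finrank_le_finrank_of_injective hD).trans Subspace.dual_finrank_eq.le
  have heq : ∀ d, Module.finrank k (WR d) = Module.finrank k (𝒜 (a - d)) ∧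
      Module.finrank k (WS d) = Module.finrank k (ℬ (a - d)) := fun d => by
    have h1 := hleR d
    have h2 := hleS d
    rcases lt_or_ge a d with hd | hd
    · rw [hposR (a - d) (by omega), finrank_bot] at h1 ⊢
      rw [hposS (a - d) (by omega), finrank_bot] at h2 ⊢
      exact ⟨Nat.le_zero.1 h1, Nat.le_zero.1 h2⟩
    have hR : 0 < Module.finrank k (𝒜 (a - d)) := by
      haveI : Module.Finite k (𝒜 (a - d)) := by
        rw [show a - d = -d + a by ring]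
        exact (inferInstance : Module.Finite k (kPc 𝒜 (shR 𝒜 a) (-d)))
      exact Nat.pos_of_ne_zero fun h0 => piece_ne_bot hposR h0R hstdR hr (by omega) (by omega)
        (Submodule.finrank_eq_zero.1 h0)
    have hS : 0 < Module.finrank k (ℬ (a - d)) := by
      haveI : Module.Finite k (ℬ (a - d)) := by
        rw [show a - d = -d + a by ring]
        exact (inferInstance : Module.Finite k (kPc ℬ (shR ℬ a) (-d)))
      exact Nat.pos_of_ne_zero fun h0 => piece_ne_bot hposS h0S hstdS hs (by omega) (by omega)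
        (Submodule.finrank_eq_zero.1 h0)
    exact ⟨by nlinarith [hprod d], by nlinarith [hprod d]⟩
  refine ⟨gorenstein_of_kPair hposR h0R hmR hr I (kPair_of_finrank I a βR b1 b2 b3 inferInstance
      fun d => (heq d).1.trans (finrank_kPc_shR a d).symm),
    gorenstein_of_kPair hposS h0S hmS hs J (kPair_of_finrank J a βS c1 c2 c3 inferInstance
      fun d => (heq d).2.trans (finrank_kPc_shR a d).symm), ?_⟩
  rw [endDeg_eq_of hha hh habR, endDeg_eq_of hga hg habS]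

end Main

end Groth.Agent.GrSeg54
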