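import Groth.Agent.GrSeg54.Tot
import Mathlib.LinearAlgebra.Dimension.Constructions

/-!
The Künneth description of the cycles and cohomology of the punctured-spectrum data of a Segre product.
-/

set_option autoImplicit false
set_option maxHeartbeats 400000

universe u

open scoped TensorProduct
open DirectSum GrLC

namespace Groth.Agent.GrSeg54

open Groth.Agent.CAlg6

variable {k : Type u} [Field k]

theorem subsingleton_tmul_iff {V W : Type u} [AddCommGroup V] [Module k V] [AddCommGroup W] [Module k W] :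
    Subsingleton (V ⊗[k] W) ↔ Subsingleton V ∨ Subsingleton W := by
  refine ⟨fun h => ?_, tmul_subsingleton⟩
  by_contra hc
  rw [not_or, not_subsingleton_iff_nontrivial, not_subsingleton_iff_nontrivial] at hc
  obtain ⟨hV, hW⟩ := hc
  obtain ⟨v, hv⟩ := exists_ne (0 : V)
  obtain ⟨w, hw⟩ := exists_ne (0 : W)
  obtain ⟨f, hf⟩ := (LinearMap.toSpanSingleton k V v).exists_leftInverse_of_injective
    (LinearMap.ker_toSpanSingleton k hv)
  obtain ⟨g, hg⟩ := (LinearMap.toSpanSingleton k W w).exists_leftInverse_of_injective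
    (LinearMap.ker_toSpanSingleton k hw)
  have hf1 : f v = 1 := by simpa using LinearMap.congr_fun hf 1
  have hg1 : g w = 1 := by simpa using LinearMap.congr_fun hg 1
  have h1 : (TensorProduct.lid k k) (TensorProduct.map f g (v ⊗ₜ[k] w)) = 1 := by simp [hf1, hg1]
  rw [Subsingleton.elim (v ⊗ₜ[k] w) 0, map_zero, map_zero] at h1
  exact zero_ne_one h1

theorem nonempty_quot_equiv {A : Type u} [CommRing A] [Algebra k A] {V W : Type u} [AddCommGroup V] [Module A V]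
    [Module k V] [IsScalarTower k A V] [AddCommGroup W] [Module k W] (P : Submodule A V) (f : V →ₗ[k] W)
    (hf : Function.Surjective f) (hk : ∀ v, f v = 0 ↔ v ∈ P) : Nonempty ((V ⧸ P) ≃ₗ[k] W) := by
  have h : LinearMap.ker (P.mkQ.restrictScalars k) = LinearMap.ker f := by
    ext v
    rw [LinearMap.mem_ker, LinearMap.mem_ker, hk]
    exact Submodule.Quotient.mk_eq_zero P
  exact ⟨((LinearMap.quotKerEquivOfSurjective (P.mkQ.restrictScalars k) (Submodule.mkQ_surjective _)).symm.trans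
    (Submodule.quotEquivOfEq _ _ h)).trans (LinearMap.quotKerEquivOfSurjective f hf)⟩

theorem nonempty_subquot_equiv {A : Type u} [CommRing A] [Algebra k A] {X W : Type u} [AddCommGroup X]
    [Module A X] [Module k X] [IsScalarTower k A X] [AddCommGroup W] [Module k W] (Z : Submodule A X)
    (P : Submodule A Z) (f : X →ₗ[k] W) (hs : ∀ w, ∃ x ∈ Z, f x = w)
    (hk : ∀ z : Z, f z = 0 ↔ z ∈ P) : Nonempty ((Z ⧸ P) ≃ₗ[k] W) :=
  nonempty_quot_equiv P (f ∘ₗ Z.subtype.restrictScalars k)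
    (fun w => let ⟨x, hx, h⟩ := hs w; ⟨⟨x, hx⟩, h⟩) hk

section One

variable {R : Type u} [CommRing R] [Algebra k R] {𝒜 : ℤ → Submodule k R} [GradedAlgebra 𝒜]
  {a : HomogeneousIdeal 𝒜} {P : GMod.{u} 𝒜} (D : Punct a P)

/-- the cohomology of the quotient complex in degree `d` -/
abbrev CohB (d : ℤ) (i : ℕ) : Type u := Coh (fun i => pmap (D.dB i) (D.dB_gr i) d) i

/-- the augmentation of degree `d`, over `k` -/
noncomputable def αK (d : ℤ) : pieceK P d →ₗ[k] D.Zc 0 d where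
  toFun x := D.αd d ⟨x.1, x.2⟩
  map_add' _ _ := Subtype.ext (map_add (D.π 0 ∘ₗ D.ε) _ _)
  map_smul' c x := Subtype.ext ((D.π 0 ∘ₗ D.ε).map_smul_of_tower c x.1)

theorem αK_injective_iff (d : ℤ) : Function.Injective (αK D d) ↔ Function.Injective (D.αd d) :=
  ⟨fun h x y hxy => Subtype.ext (congrArg Subtype.val (h (a₁ := ⟨x.1, x.2⟩) (a₂ := ⟨y.1, y.2⟩) hxy) :),
    fun h x y hxy => Subtype.ext (congrArg Subtype.val (h (a₁ := ⟨x.1, x.2⟩) (a₂ := ⟨y.1, y.2⟩) hxy) :)⟩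

theorem αK_surjective_iff (d : ℤ) : Function.Surjective (αK D d) ↔ Function.Surjective (D.αd d) :=
  ⟨fun h z => let ⟨x, hx⟩ := h z; ⟨⟨x.1, x.2⟩, hx⟩, fun h z => let ⟨x, hx⟩ := h z; ⟨⟨x.1, x.2⟩, hx⟩⟩

variable [IsNoetherianRing R] (E : StarInjRes 𝒜 P.gr)

theorem hcomp_zero_bot_iff (d : ℤ) : E.Hcomp a 0 d = ⊥ ↔ Function.Injective (αK D d) := by
  obtain ⟨e⟩ := D.nonempty_equiv_zero E d
  rw [αK_injective_iff, ← LinearMap.ker_eq_bot, ← Submodule.subsingleton_iff_eq_bot,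
    ← Submodule.subsingleton_iff_eq_bot]
  exact e.toEquiv.subsingleton_congr

theorem hcomp_one_bot_iff (d : ℤ) : E.Hcomp a 1 d = ⊥ ↔ Function.Surjective (αK D d) := by
  obtain ⟨e⟩ := D.nonempty_equiv_one E d
  rw [αK_surjective_iff, ← LinearMap.range_eq_top, ← Submodule.subsingleton_iff_eq_bot,
    e.toEquiv.subsingleton_congr, Submodule.Quotient.subsingleton_iff]

theorem hcomp_high_bot_iff (n : ℕ) (d : ℤ) : E.Hcomp a (n + 2) d = ⊥ ↔ Subsingleton (D.HB n d) := by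
  obtain ⟨e⟩ := D.nonempty_equiv_high E n d
  rw [← Submodule.subsingleton_iff_eq_bot, e.toEquiv.subsingleton_congr]

theorem cohB_succ_subsingleton_iff (n : ℕ) (d : ℤ) :
    Subsingleton (CohB D d (n + 1)) ↔ E.Hcomp a (n + 2) d = ⊥ := by
  obtain ⟨e⟩ := nonempty_cohEquiv D d n
  rw [hcomp_high_bot_iff D E, e.toEquiv.subsingleton_congr]

theorem finrank_high [Nontrivial R] (h0 : 𝒜 0 = Submodule.span k {(1 : R)}) (n : ℕ) (d : ℤ) :
    Module.finrank (deg0 𝒜) (E.Hcomp a (n + 2) d) = Module.finrank k (CohB D d (n + 1)) := by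
  obtain ⟨e⟩ := D.nonempty_equiv_high E n d
  obtain ⟨e'⟩ := nonempty_cohEquiv D d n
  rw [e.finrank_eq, finrank_deg0_eq h0, e'.finrank_eq]

theorem nonempty_HB_of_cls {W : Type u} [AddCommGroup W] [Module k W] (n : ℕ) (d : ℤ)
    (cl : (D.B (n + 1)).carrier →ₗ[k] W) (hs : ∀ c, ∃ x ∈ (D.B (n + 1)).gr d, D.dB (n + 1) x = 0 ∧ cl x = c)
    (hb : ∀ y, cl (D.dB n y) = 0)
    (hz : ∀ x ∈ (D.B (n + 1)).gr d, D.dB (n + 1) x = 0 → cl x = 0 → ∃ y ∈ (D.B n).gr d, D.dB n y = x) :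
    Nonempty (D.HB n d ≃ₗ[k] W) := by
  refine nonempty_subquot_equiv (D.Zc (n + 1) d) _ cl (fun c => ?_) fun z => ⟨fun h => ?_, ?_⟩
  · obtain ⟨x, hx, hD, hc⟩ := hs c
    exact ⟨x, ⟨hx, hD⟩, hc⟩
  · obtain ⟨y, hy, hyz⟩ := hz z.1 z.2.1 z.2.2 h
    exact ⟨y, hy, hyz⟩
  · rintro ⟨y, -, hyz⟩
    exact (congrArg cl hyz.symm).trans (hb y)

/-- a class map on cycles of cohomological degree zero -/
noncomputable def zcOf {W : Type u} [AddCommGroup W] [Module k W] (d : ℤ) (cl : (D.B 0).carrier →ₗ[k] W) :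
    D.Zc 0 d →ₗ[k] W := cl ∘ₗ (D.Zc 0 d).subtype.restrictScalars k

theorem zcOf_bijective {W : Type u} [AddCommGroup W] [Module k W] (d : ℤ) (cl : (D.B 0).carrier →ₗ[k] W)
    (hs : ∀ c, ∃ x ∈ (D.B 0).gr d, D.dB 0 x = 0 ∧ cl x = c)
    (hz : ∀ x ∈ (D.B 0).gr d, D.dB 0 x = 0 → cl x = 0 → x = 0) : Function.Bijective (zcOf D d cl) :=
  ⟨(injective_iff_map_eq_zero _).2 fun z h => Subtype.ext (hz z.1 z.2.1 z.2.2 h), fun c =>
    let ⟨x, hx, hD, hc⟩ := hs c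
    ⟨⟨x, hx, hD⟩, hc⟩⟩

theorem zcOf_αK {W : Type u} [AddCommGroup W] [Module k W] (d : ℤ) (cl : (D.B 0).carrier →ₗ[k] W)
    (m : pieceK P d) : zcOf D d cl (αK D d m) = cl (D.π 0 (D.ε m.1)) := rfl

theorem coh0Equiv_cproj_comp (d : ℤ) (hd : ∀ i x, pmap (D.dB (i + 1)) (D.dB_gr (i + 1)) d
      (pmap (D.dB i) (D.dB_gr i) d x) = 0) :
    (coh0Equiv D d).toLinearMap ∘ₗ cproj (fun i => pmap (D.dB i) (D.dB_gr i) d) hd 0 ∘ₗ
      pmap (D.π 0) (D.π_gr 0) d ∘ₗ pmap D.ε D.ε_gr d = αK D d := by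
  refine LinearMap.ext fun m => ?_
  have h : pmap (D.π 0) (D.π_gr 0) d (pmap D.ε D.ε_gr d m) ∈ LinearMap.ker (pmap (D.dB 0) (D.dB_gr 0) d) :=
    LinearMap.mem_ker.2 (Subtype.ext (by
      show D.dB 0 (D.π 0 (D.ε m.1)) = 0
      rw [← D.comm, D.dA_ε, map_zero]))
  exact (congrArg (coh0Equiv D d) (cproj_eq_mk _ hd 0 ⟨_, h⟩)).trans rfl

end One

variable {R S T : Type u} [CommRing R] [CommRing S] [CommRing T]
  [Algebra k R] [Algebra k S] [Algebra k T]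
  [IsNoetherianRing R] [IsNoetherianRing S] [IsNoetherianRing T]
  {𝒜 : ℤ → Submodule k R} [GradedAlgebra 𝒜] {ℬ : ℤ → Submodule k S} [GradedAlgebra ℬ]
  {𝒯 : ℤ → Submodule k T} [GradedAlgebra 𝒯] {ψ : T →ₐ[k] R ⊗[k] S}
  (hT : GrSeg.IsSegreRing 𝒜 ℬ 𝒯 ψ)
  {mR : HomogeneousIdeal 𝒜} {mS : HomogeneousIdeal ℬ} {mT : HomogeneousIdeal 𝒯}
  (hposR : GrMod19.NonnegGr 𝒜) (hposS : GrMod19.NonnegGr ℬ) (hposT : GrMod19.NonnegGr 𝒯)
  (hmR : GrMod19.IsPlus mR) (hmS : GrMod19.IsPlus mS) (hmT : GrMod19.IsPlus mT)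
  {Mg : GMod.{u} 𝒜} {Ng : GMod.{u} ℬ} (EM : StarInjRes 𝒜 Mg.gr) (EN : StarInjRes ℬ Ng.gr)

local notation "D₂" => punct₂ hT hposR hposS hposT hmR hmS hmT EM EN
local notation "DM" => punct₁ hposR hmR EM
local notation "DN" => punct₁ hposS hmS EN

/-- classes of elements of the quotient complex -/
noncomputable def clsB (n : ℕ) (d : ℤ) :
    (BT hT mR mS EM EN n).carrier →ₗ[k] ∀ p : Idx n, CohB DM d p.1.1 ⊗[k] CohB DN d p.1.2 :=
  cls hT (fun i => quotGam (EM.X i) mR) (fun j => quotGam (EN.X j) mS) (fun i => qmap mR (EM.d i))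
    (fun j => qmap mS (EN.d j)) (fun i => qmap_gr mR (EM.d_grHom i)) (fun j => qmap_gr mS (EN.d_grHom j))
    (fun i x => qmap_qmap mR _ _ (fun z => GrMod19.d_comp_d EM i z) x)
    (fun j x => qmap_qmap mS _ _ (fun z => GrMod19.d_comp_d EN j z) x) n d

theorem exists_clsB_eq (n : ℕ) (d : ℤ) (c : ∀ p : Idx n, CohB DM d p.1.1 ⊗[k] CohB DN d p.1.2) :
    ∃ x ∈ (BT hT mR mS EM EN n).gr d, dBT hT mR mS EM EN n x = 0 ∧
      clsB hT hposR hposS hmR hmS EM EN n d x = c :=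
  exists_cls_eq hT (fun i => quotGam (EM.X i) mR) (fun j => quotGam (EN.X j) mS) (fun i => qmap mR (EM.d i))
    (fun j => qmap mS (EN.d j)) (fun i => qmap_gr mR (EM.d_grHom i)) (fun j => qmap_gr mS (EN.d_grHom j)) _ _ n d c

theorem clsB_dBT (n : ℕ) (d : ℤ) (y : (BT hT mR mS EM EN n).carrier) :
    clsB hT hposR hposS hmR hmS EM EN (n + 1) d (dBT hT mR mS EM EN n y) = 0 :=
  cls_totD hT (fun i => quotGam (EM.X i) mR) (fun j => quotGam (EN.X j) mS) (fun i => qmap mR (EM.d i))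
    (fun j => qmap mS (EN.d j)) (fun i => qmap_gr mR (EM.d_grHom i)) (fun j => qmap_gr mS (EN.d_grHom j)) _ _ n d y

theorem exists_bdy_of_clsB {n : ℕ} {d : ℤ} {x : (BT hT mR mS EM EN (n + 1)).carrier}
    (hx : x ∈ (BT hT mR mS EM EN (n + 1)).gr d) (hD : dBT hT mR mS EM EN (n + 1) x = 0)
    (hc : clsB hT hposR hposS hmR hmS EM EN (n + 1) d x = 0) :
    ∃ y ∈ (BT hT mR mS EM EN n).gr d, dBT hT mR mS EM EN n y = x :=
  exists_bdy_of_cls hT (fun i => quotGam (EM.X i) mR) (fun j => quotGam (EN.X j) mS) (fun i => qmap mR (EM.d i))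
    (fun j => qmap mS (EN.d j)) (fun i => qmap_gr mR (EM.d_grHom i)) (fun j => qmap_gr mS (EN.d_grHom j)) _ _ hx hD hc

theorem eq_zero_of_clsB {d : ℤ} {x : (BT hT mR mS EM EN 0).carrier} (hx : x ∈ (BT hT mR mS EM EN 0).gr d)
    (hD : dBT hT mR mS EM EN 0 x = 0) (hc : clsB hT hposR hposS hmR hmS EM EN 0 d x = 0) : x = 0 :=
  eq_zero_of_cls hT (fun i => quotGam (EM.X i) mR) (fun j => quotGam (EN.X j) mS) (fun i => qmap mR (EM.d i))
    (fun j => qmap mS (EN.d j)) (fun i => qmap_gr mR (EM.d_grHom i)) (fun j => qmap_gr mS (EN.d_grHom j)) _ _ hx hD hc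

/-- cohomology of the quotient complex of a Segre product -/
theorem nonempty_HB₂ (n : ℕ) (d : ℤ) :
    Nonempty (Punct.HB D₂ n d ≃ₗ[k] ∀ p : Idx (n + 1), CohB DM d p.1.1 ⊗[k] CohB DN d p.1.2) := by
  have h := nonempty_HB_of_cls D₂ n d (W := ∀ p : Idx (n + 1), CohB DM d p.1.1 ⊗[k] CohB DN d p.1.2) (clsB hT hposR hposS hmR hmS EM EN (n + 1) d)
    (exists_clsB_eq hT hposR hposS hmR hmS EM EN (n + 1) d)
    (clsB_dBT hT hposR hposS hmR hmS EM EN n d)
    (fun _ hx hD hc => exists_bdy_of_clsB hT hposR hposS hmR hmS EM EN hx hD hc)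
  exact h

/-- the index of bidegree `(0, 0)` -/
def idx00 : Idx 0 := ⟨(0, 0), by simp⟩

/-- the class of bidegree `(0, 0)`, as a pair of cycles -/
noncomputable def cls00 (d : ℤ) :
    (BT hT mR mS EM EN 0).carrier →ₗ[k] Punct.Zc DM 0 d ⊗[k] Punct.Zc DN 0 d :=
  TensorProduct.map (coh0Equiv DM d).toLinearMap (coh0Equiv DN d).toLinearMap ∘ₗ
    LinearMap.proj idx00 ∘ₗ clsB hT hposR hposS hmR hmS EM EN 0 d

theorem cls00_apply (d : ℤ) (x : (BT hT mR mS EM EN 0).carrier) :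
    cls00 hT hposR hposS hmR hmS EM EN d x =
      TensorProduct.map ((coh0Equiv DM d).toLinearMap ∘ₗ
          cproj (fun i => pmap (qmap mR (EM.d i)) (qmap_gr mR (EM.d_grHom i)) d)
            (fun i x => Subtype.ext (qmap_qmap mR _ _ (fun z => GrMod19.d_comp_d EM i z) x.1)) 0)
        ((coh0Equiv DN d).toLinearMap ∘ₗ
          cproj (fun j => pmap (qmap mS (EN.d j)) (qmap_gr mS (EN.d_grHom j)) d)
            (fun j x => Subtype.ext (qmap_qmap mS _ _ (fun z => GrMod19.d_comp_d EN j z) x.1)) 0)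
        (locMap hT (quotGam (EM.X 0) mR) (quotGam (EN.X 0) mS) d (fam hT _ _ 0 x 0 0)) :=
  map_map_apply _ _ _ _ _

theorem exists_cls00_eq (d : ℤ) (c : Punct.Zc DM 0 d ⊗[k] Punct.Zc DN 0 d) :
    ∃ x ∈ (BT hT mR mS EM EN 0).gr d, dBT hT mR mS EM EN 0 x = 0 ∧
      cls00 hT hposR hposS hmR hmS EM EN d x = c := by
  classical
  let e := TensorProduct.congr (coh0Equiv DM d) (coh0Equiv DN d)
  obtain ⟨x, hx, hD, hc⟩ := exists_clsB_eq hT hposR hposS hmR hmS EM EN 0 d (Pi.single idx00 (e.symm c))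
  refine ⟨x, hx, hD, ?_⟩
  refine (congrArg e ((congrFun hc idx00).trans (Pi.single_eq_same _ _))).trans ?_
  exact e.apply_symm_apply c

theorem eq_zero_of_cls00 {d : ℤ} {x : (BT hT mR mS EM EN 0).carrier} (hx : x ∈ (BT hT mR mS EM EN 0).gr d)
    (hD : dBT hT mR mS EM EN 0 x = 0) (hc : cls00 hT hposR hposS hmR hmS EM EN d x = 0) : x = 0 := by
  refine eq_zero_of_clsB hT hposR hposS hmR hmS EM EN hx hD (funext fun p => ?_)
  obtain rfl : p = idx00 := idx_zero_eq p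
  exact (TensorProduct.congr (coh0Equiv DM d) (coh0Equiv DN d)).map_eq_zero_iff.1 hc

/-- cycles of cohomological degree zero -/
noncomputable def zcMap (d : ℤ) : Punct.Zc D₂ 0 d →ₗ[k] Punct.Zc DM 0 d ⊗[k] Punct.Zc DN 0 d :=
  zcOf D₂ (W := Punct.Zc DM 0 d ⊗[k] Punct.Zc DN 0 d) d (cls00 hT hposR hposS hmR hmS EM EN d)

theorem zcMap_bijective (d : ℤ) : Function.Bijective (zcMap hT hposR hposS hposT hmR hmS hmT EM EN d) := by
  have h := zcOf_bijective D₂ (W := Punct.Zc DM 0 d ⊗[k] Punct.Zc DN 0 d) d (cls00 hT hposR hposS hmR hmS EM EN d)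
    (exists_cls00_eq hT hposR hposS hmR hmS EM EN d)
    (fun _ hx hD hc => eq_zero_of_cls00 hT hposR hposS hmR hmS EM EN hx hD hc)
  exact h

theorem cls00_totπ (d : ℤ) (v : (segG Mg Ng hT).carrier) :
    cls00 hT hposR hposS hmR hmS EM EN d (totπ hT mR mS EM EN 0 (totε hT EM EN v)) =
      TensorProduct.map (αK DM d) (αK DN d) (locMap hT Mg Ng d v) := by
  rw [cls00_apply, fam_totπ, cellπ, locMap_segMap, locMap_segMap_eps, map_map_apply, map_map_apply]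
  exact LinearMap.congr_fun (congrArg₂ TensorProduct.map
    (coh0Equiv_cproj_comp DM d (fun i x => Subtype.ext (qmap_qmap mR _ _ (fun z => GrMod19.d_comp_d EM i z) x.1)))
    (coh0Equiv_cproj_comp DN d (fun j x => Subtype.ext (qmap_qmap mS _ _ (fun z => GrMod19.d_comp_d EN j z) x.1)))) _

theorem zcMap_αK (d : ℤ) (v : pieceK (segG Mg Ng hT) d) :
    zcMap hT hposR hposS hposT hmR hmS hmT EM EN d (αK D₂ d v) =
      TensorProduct.map (αK DM d) (αK DN d) (locMap hT Mg Ng d v.1) := by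
  have h := zcOf_αK D₂ (W := Punct.Zc DM 0 d ⊗[k] Punct.Zc DN 0 d) d (cls00 hT hposR hposS hmR hmS EM EN d) v
  have h' := cls00_totπ hT hposR hposS hmR hmS EM EN d v.1
  exact h.trans h'

end Groth.Agent.GrSeg54
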