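import Groth.Agent.GrSeg54.Kdeg

/-!
Graded local cohomology of a Segre product, degree by degree.
-/

set_option autoImplicit false
set_option maxHeartbeats 400000

universe u

open scoped TensorProduct
open DirectSum GrLC

namespace Groth.Agent.GrSeg54

open Groth.Agent.CAlg6

variable {k : Type u} [Field k]

section Linear

variable {V V' W W' : Type u} [AddCommGroup V] [AddCommGroup V'] [AddCommGroup W] [AddCommGroup W']
  [Module k V] [Module k V'] [Module k W] [Module k W'] (f : V →ₗ[k] V') (g : W →ₗ[k] W')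

theorem map_injective (hf : Function.Injective f) (hg : Function.Injective g) :
    Function.Injective (TensorProduct.map f g) :=
  TensorProduct.map_injective_of_flat_flat f g hf hg

theorem map_surjective_iff (hg : Function.Bijective g) :
    Function.Surjective (TensorProduct.map f g) ↔ Function.Surjective f ∨ Subsingleton W := by
  refine ⟨fun h => or_iff_not_imp_right.2 fun hW => ?_, ?_⟩
  · rw [← LinearMap.range_eq_top]
    by_contra hf
    rw [not_subsingleton_iff_nontrivial] at hW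
    obtain ⟨w, hw⟩ := exists_ne (0 : W)
    obtain ⟨v, hv⟩ : ∃ v : V', v ∉ LinearMap.range f := by
      by_contra! hall
      exact hf (Submodule.eq_top_iff'.2 hall)
    have hv' : (LinearMap.range f).mkQ v ≠ 0 := fun h0 => hv ((Submodule.Quotient.mk_eq_zero _).1 h0)
    have hgw : g w ≠ 0 := fun h0 => hw (hg.1 (h0.trans (map_zero g).symm))
    have hss : ¬ Subsingleton ((V' ⧸ LinearMap.range f) ⊗[k] W') := by
      rw [subsingleton_tmul_iff, not_or]
      exact ⟨fun hs => hv' (Subsingleton.elim _ _), fun hs => hgw (Subsingleton.elim _ _)⟩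
    refine hss (subsingleton_of_forall_eq 0 fun u => ?_)
    obtain ⟨u', rfl⟩ := TensorProduct.map_surjective (g := (LinearMap.range f).mkQ) (g' := LinearMap.id)
      (Submodule.mkQ_surjective _) Function.surjective_id u
    obtain ⟨z, rfl⟩ := h u'
    rw [← LinearMap.comp_apply, ← TensorProduct.map_comp, LinearMap.range_mkQ_comp,
      TensorProduct.map_zero_left, LinearMap.zero_apply]
  · rintro (hf | hW)
    · exact TensorProduct.map_surjective hf hg.2
    · haveI : Subsingleton W' := hg.2.subsingleton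
      intro x
      refine ⟨0, ?_⟩
      have hx : Subsingleton (V' ⊗[k] W') := subsingleton_tmul_iff.2 (Or.inr ‹Subsingleton W'›)
      exact Subsingleton.elim _ _

end Linear

section One

variable {R : Type u} [CommRing R] [Algebra k R] {𝒜 : ℤ → Submodule k R} [GradedAlgebra 𝒜] [IsNoetherianRing R]
  {a : HomogeneousIdeal 𝒜} {P : GMod.{u} 𝒜} (E : StarInjRes 𝒜 P.gr) (D : Punct a P)

variable (a) in
/-- the vanishing predicate matching the cohomology of the quotient complex -/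
def Sm (d : ℤ) : ℕ → Prop
  | 0 => Subsingleton (pieceK P d)
  | i + 1 => E.Hcomp a (i + 2) d = ⊥

theorem αK_bijective {d : ℤ} (h0 : E.Hcomp a 0 d = ⊥) (h1 : E.Hcomp a 1 d = ⊥) : Function.Bijective (αK D d) :=
  ⟨(hcomp_zero_bot_iff D E d).1 h0, (hcomp_one_bot_iff D E d).1 h1⟩

theorem cohB_subsingleton_iff {d : ℤ} (h : Function.Bijective (αK D d)) (i : ℕ) :
    Subsingleton (CohB D d i) ↔ Sm a E d i := by
  cases i with
  | zero => exact (coh0Equiv D d).toEquiv.subsingleton_congr.trans (Equiv.ofBijective _ h).subsingleton_congr.symm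
  | succ i => exact cohB_succ_subsingleton_iff D E i d

variable (a) in
/-- the dimension matching the cohomology of the quotient complex -/
noncomputable def Dm (d : ℤ) : ℕ → ℕ
  | 0 => Module.finrank (deg0 𝒜) (comp 𝒜 P.gr d)
  | i + 1 => Module.finrank (deg0 𝒜) (E.Hcomp a (i + 2) d)

theorem finrank_pieceK [Nontrivial R] (h0 : 𝒜 0 = Submodule.span k {(1 : R)}) (d : ℤ) :
    Module.finrank k (pieceK P d) = Module.finrank (deg0 𝒜) (comp 𝒜 P.gr d) :=
  (finrank_deg0_eq h0 (comp 𝒜 P.gr d)).symm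

theorem cohB_finite [Nontrivial R] (h0 : 𝒜 0 = Submodule.span k {(1 : R)}) {d : ℤ}
    (h : Function.Bijective (αK D d)) (hP : (comp 𝒜 P.gr d).FG) (hH : ∀ i, (E.Hcomp a i d).FG) (i : ℕ) :
    Module.Finite k (CohB D d i) := by
  haveI : Module.Finite k (deg0 𝒜) := Module.Finite.equiv
    (LinearEquiv.ofBijective (Algebra.linearMap k (deg0 𝒜)) (algebraMap_deg0_bijective h0))
  cases i with
  | zero =>
    haveI : Module.Finite (deg0 𝒜) (comp 𝒜 P.gr d) := Module.Finite.iff_fg.2 hP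
    haveI : Module.Finite k (comp 𝒜 P.gr d) := Module.Finite.trans (deg0 𝒜) _
    haveI : Module.Finite k (pieceK P d) := (inferInstance : Module.Finite k (comp 𝒜 P.gr d))
    haveI : Module.Finite k (D.Zc 0 d) := Module.Finite.equiv (LinearEquiv.ofBijective (αK D d) h)
    exact Module.Finite.equiv (coh0Equiv D d).symm
  | succ i =>
    obtain ⟨e⟩ := D.nonempty_equiv_high E i d
    obtain ⟨e'⟩ := nonempty_cohEquiv D d i
    haveI : Module.Finite (deg0 𝒜) (E.Hcomp a (i + 2) d) := Module.Finite.iff_fg.2 (hH _)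
    haveI : Module.Finite (deg0 𝒜) (D.HB i d) := Module.Finite.equiv e
    haveI : Module.Finite k (D.HB i d) := Module.Finite.trans (deg0 𝒜) _
    exact Module.Finite.equiv e'.symm

theorem cohB_finrank [Nontrivial R] (h0 : 𝒜 0 = Submodule.span k {(1 : R)}) {d : ℤ}
    (h : Function.Bijective (αK D d)) (i : ℕ) : Module.finrank k (CohB D d i) = Dm a E d i := by
  cases i with
  | zero =>
    exact ((coh0Equiv D d).trans (LinearEquiv.ofBijective (αK D d) h).symm).finrank_eq.trans (finrank_pieceK h0 d)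
  | succ i => exact (finrank_high D E h0 i d).symm

end One

variable {R S T : Type u} [CommRing R] [CommRing S] [CommRing T]
  [Algebra k R] [Algebra k S] [Algebra k T]
  [IsNoetherianRing R] [IsNoetherianRing S] [IsNoetherianRing T]
  {𝒜 : ℤ → Submodule k R} [GradedAlgebra 𝒜] {ℬ : ℤ → Submodule k S} [GradedAlgebra ℬ]
  {𝒯 : ℤ → Submodule k T} [GradedAlgebra 𝒯] {ψ : T →ₐ[k] R ⊗[k] S}
  (hT : GrSeg.IsSegreRing 𝒜 ℬ 𝒯 ψ)
  {mR : HomogeneousIdeal 𝒜} {mS : HomogeneousIdeal ℬ} {mT : HomogeneousIdeal 𝒯}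
  (hposR : GrMod19.NonnegGr 𝒜) (hposS : GrMod19.NonnegGr ℬ) (hposT : GrMod19.NonnegGr 𝒯)
  (hmR : GrMod19.IsPlus mR) (hmS : GrMod19.IsPlus mS) (hmT : GrMod19.IsPlus mT)
  {Mg : GMod.{u} 𝒜} {Ng : GMod.{u} ℬ} (EM : StarInjRes 𝒜 Mg.gr) (EN : StarInjRes ℬ Ng.gr)
  (EW : StarInjRes 𝒯 (segG Mg Ng hT).gr)

local notation "D₂" => punct₂ hT hposR hposS hposT hmR hmS hmT EM EN
local notation "DM" => punct₁ hposR hmR EM
local notation "DN" => punct₁ hposS hmS EN

theorem locPiece_bijective (d : ℤ) : Function.Bijective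
    (fun v : pieceK (segG Mg Ng hT) d => locMap hT Mg Ng d v.1) := by
  refine ⟨fun v w h => Subtype.ext (sub_eq_zero.1 (locMap_injOn hT (sub_mem v.2 w.2) ?_)), fun u => ?_⟩
  · rw [map_sub, sub_eq_zero]; exact h
  · obtain ⟨v, hv, hvu⟩ := exists_locMap_eq hT Mg Ng d u
    exact ⟨⟨v, hv⟩, hvu⟩

theorem segZ_iff (d : ℤ) :
    (Function.Injective (αK D₂ d) ↔ Function.Injective (TensorProduct.map (αK DM d) (αK DN d))) ∧
      (Function.Surjective (αK D₂ d) ↔ Function.Surjective (TensorProduct.map (αK DM d) (αK DN d))) := by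
  have hz := zcMap_bijective hT hposR hposS hposT hmR hmS hmT EM EN d
  have hl := locPiece_bijective hT (Mg := Mg) (Ng := Ng) d
  have he : (TensorProduct.map (αK DM d) (αK DN d)) ∘ (fun v : pieceK (segG Mg Ng hT) d => locMap hT Mg Ng d v.1) =
      (zcMap hT hposR hposS hposT hmR hmS hmT EM EN d) ∘ (αK D₂ d) :=
    funext fun v => (zcMap_αK hT hposR hposS hposT hmR hmS hmT EM EN d v).symm
  constructor
  · rw [← Function.Injective.of_comp_iff' (TensorProduct.map (αK DM d) (αK DN d)) hl, he,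
      Function.Injective.of_comp_iff hz.1]
  · rw [← Function.Surjective.of_comp_iff (TensorProduct.map (αK DM d) (αK DN d)) hl.2, he,
      Function.Surjective.of_comp_iff' hz]

include hposR hposS hposT hmR hmS hmT in
theorem segH0 {d : ℤ} (h0M : EM.Hcomp mR 0 d = ⊥) (h0N : EN.Hcomp mS 0 d = ⊥) : EW.Hcomp mT 0 d = ⊥ := by
  have h := (segZ_iff hT hposR hposS hposT hmR hmS hmT EM EN d).1.2
    (map_injective _ _ ((hcomp_zero_bot_iff DM EM d).1 h0M) ((hcomp_zero_bot_iff DN EN d).1 h0N))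
  exact (hcomp_zero_bot_iff D₂ EW d).2 h

include hposR hposS hposT hmR hmS hmT in
theorem segH1 {d : ℤ} (h0N : EN.Hcomp mS 0 d = ⊥) (h1N : EN.Hcomp mS 1 d = ⊥) :
    EW.Hcomp mT 1 d = ⊥ ↔ EM.Hcomp mR 1 d = ⊥ ∨ Subsingleton (pieceK Ng d) := by
  have h := (segZ_iff hT hposR hposS hposT hmR hmS hmT EM EN d).2
  have h' := map_surjective_iff (αK DM d) (αK DN d) (αK_bijective EN DN h0N h1N)
  have h'' := hcomp_one_bot_iff D₂ EW d
  rw [h'', h, h', hcomp_one_bot_iff DM EM d]

include hposR hposS hposT hmR hmS hmT in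
theorem segHigh (n : ℕ) (d : ℤ) : EW.Hcomp mT (n + 2) d = ⊥ ↔
    ∀ p : Idx (n + 1), Subsingleton (CohB DM d p.1.1) ∨ Subsingleton (CohB DN d p.1.2) := by
  have h := hcomp_high_bot_iff D₂ EW n d
  obtain ⟨e⟩ := nonempty_HB₂ hT hposR hposS hposT hmR hmS hmT EM EN n d
  have he := e.toEquiv.subsingleton_congr
  rw [h, he]
  refine ⟨fun hs p => (subsingleton_tmul_iff (k := k) (V := CohB DM d p.1.1) (W := CohB DN d p.1.2)).1 ?_,
    fun hs => ?_⟩
  · refine subsingleton_of_forall_eq 0 fun z => ?_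
    classical
    have := congrFun (Subsingleton.elim (Pi.single p z :
      ∀ p : Idx (n + 1), CohB DM d p.1.1 ⊗[k] CohB DN d p.1.2) 0) p
    rwa [Pi.single_eq_same, Pi.zero_apply] at this
  · haveI : ∀ p : Idx (n + 1), Subsingleton (CohB DM d p.1.1 ⊗[k] CohB DN d p.1.2) := fun p =>
      (subsingleton_tmul_iff (k := k) (V := CohB DM d p.1.1) (W := CohB DN d p.1.2)).2 (hs p)
    infer_instance

include hposR hposS hposT hmR hmS hmT in
/-- no depth two needed on the left factor -/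
theorem segHigh_of_left_one {n : ℕ} {d : ℤ} (hM : ∀ i, EM.Hcomp mR (i + 2) d = ⊥)
    (hN : EN.Hcomp mS (n + 2) d = ⊥) : EW.Hcomp mT (n + 2) d = ⊥ := by
  rw [segHigh hT hposR hposS hposT hmR hmS hmT EM EN EW]
  rintro ⟨⟨i, j⟩, hp⟩
  rcases i with _ | i
  · refine Or.inr ?_
    have hj : j = n + 1 := by simpa using hp
    subst hj
    exact (cohB_succ_subsingleton_iff DN EN n d).2 hN
  · exact Or.inl ((cohB_succ_subsingleton_iff DM EM i d).2 (hM i))

include hposR hposS hposT hmR hmS hmT in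
theorem segHigh_iff {d : ℤ} (h0M : EM.Hcomp mR 0 d = ⊥) (h1M : EM.Hcomp mR 1 d = ⊥)
    (h0N : EN.Hcomp mS 0 d = ⊥) (h1N : EN.Hcomp mS 1 d = ⊥) (n : ℕ) :
    EW.Hcomp mT (n + 2) d = ⊥ ↔ ∀ i j, i + j = n + 1 → Sm mR EM d i ∨ Sm mS EN d j := by
  have bM := αK_bijective EM DM h0M h1M
  have bN := αK_bijective EN DN h0N h1N
  rw [segHigh hT hposR hposS hposT hmR hmS hmT EM EN EW]
  refine ⟨fun h i j hij => ?_, fun h p => ?_⟩
  · have := h ⟨(i, j), Finset.HasAntidiagonal.mem_antidiagonal.2 hij⟩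
    exact this.imp (cohB_subsingleton_iff EM DM bM i).1 (cohB_subsingleton_iff EN DN bN j).1
  · exact (h _ _ (Finset.HasAntidiagonal.mem_antidiagonal.1 p.2)).imp (cohB_subsingleton_iff EM DM bM _).2
      (cohB_subsingleton_iff EN DN bN _).2

include hposR hposS hposT hmR hmS hmT in
theorem seg_finrank [Nontrivial R] [Nontrivial S] [Nontrivial T] (h0R : 𝒜 0 = Submodule.span k {(1 : R)})
    (h0S : ℬ 0 = Submodule.span k {(1 : S)}) (h0T : 𝒯 0 = Submodule.span k {(1 : T)}) {d : ℤ}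
    (h0M : EM.Hcomp mR 0 d = ⊥) (h1M : EM.Hcomp mR 1 d = ⊥)
    (h0N : EN.Hcomp mS 0 d = ⊥) (h1N : EN.Hcomp mS 1 d = ⊥)
    (hfM : (comp 𝒜 Mg.gr d).FG) (hfN : (comp ℬ Ng.gr d).FG)
    (hHM : ∀ i, (EM.Hcomp mR i d).FG) (hHN : ∀ i, (EN.Hcomp mS i d).FG) (n : ℕ) :
    Module.finrank (deg0 𝒯) (EW.Hcomp mT (n + 2) d) =
      ∑ p ∈ Finset.HasAntidiagonal.antidiagonal (n + 1), Dm mR EM d p.1 * Dm mS EN d p.2 := by
  have bM := αK_bijective EM DM h0M h1M
  have bN := αK_bijective EN DN h0N h1N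
  haveI := fun i => cohB_finite EM DM h0R bM hfM hHM i
  haveI := fun i => cohB_finite EN DN h0S bN hfN hHN i
  have h := finrank_high D₂ EW h0T n d
  obtain ⟨e⟩ := nonempty_HB₂ hT hposR hposS hposT hmR hmS hmT EM EN n d
  obtain ⟨e'⟩ := nonempty_cohEquiv D₂ d n
  rw [h, (e'.trans e).finrank_eq, Module.finrank_pi_fintype,
    ← Finset.sum_coe_sort (Finset.HasAntidiagonal.antidiagonal (n + 1))]
  refine Finset.sum_congr rfl fun p _ => ?_
  rw [Module.finrank_tensorProduct, cohB_finrank EM DM h0R bM, cohB_finrank EN DN h0S bN]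

end Groth.Agent.GrSeg54
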