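import Groth.Agent.GrSeg54.RingCase
import Groth.Agent.GrMod19.Regrade
import Groth.Agent.S18656
import Groth.Agent.GrCI54.Sop
import Groth.Agent.Gor18.GlobalDim
import Groth.Agent.Liaison54.Basic
import Groth.Agent.S18651

/-!
Segre products of shifted polynomial rings.
-/

set_option autoImplicit false

universe u

open scoped TensorProduct
open DirectSum GrLC

namespace Groth.Agent.GrSeg54

open Groth.Agent.CAlg6

variable (k : Type u) [Field k] (r : ℕ)

/-- the standard grading of a polynomial ring -/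
noncomputable abbrev PW : ℤ → Submodule k (MvPolynomial (Fin r) k) :=
  MvPolynomial.weightedHomogeneousSubmodule k (fun _ : Fin r => (1 : ℤ))

attribute [local instance] MvPolynomial.weightedGradedAlgebra

variable {k r}

theorem weight_nonneg (e : Fin r →₀ ℕ) : 0 ≤ Finsupp.weight (fun _ : Fin r => (1 : ℤ)) e := by
  rw [Finsupp.weight_apply, Finsupp.sum]
  exact Finset.sum_nonneg fun i _ => nsmul_nonneg zero_le_one _

theorem weight_eq_zero_iff (e : Fin r →₀ ℕ) : Finsupp.weight (fun _ : Fin r => (1 : ℤ)) e = 0 ↔ e = 0 := by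
  refine ⟨fun h => ?_, fun h => by rw [h, map_zero]⟩
  by_contra he
  rw [Finsupp.weight_apply, Finsupp.sum] at h
  exact absurd h (ne_of_gt (Finset.sum_pos (fun i hi => nsmul_pos one_pos (Finsupp.mem_support_iff.1 hi))
    (Finsupp.support_nonempty_iff.2 he)))

theorem pw_pos : ∀ n : ℤ, n < 0 → PW k r n = ⊥ := fun n hn => by
  refine (Submodule.eq_bot_iff _).2 fun p hp => MvPolynomial.support_eq_empty.1
    (Finset.eq_empty_of_forall_notMem fun e he => ?_)
  have h1 : Finsupp.weight (fun _ : Fin r => (1 : ℤ)) e = n := hp (MvPolynomial.mem_support_iff.1 he)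
  have h2 := weight_nonneg e
  omega

theorem pw_zero : PW k r 0 = Submodule.span k {(1 : MvPolynomial (Fin r) k)} := by
  refine le_antisymm (fun p hp => ?_) ((Submodule.span_singleton_le_iff_mem _ _).2 SetLike.GradedOne.one_mem)
  rw [Submodule.mem_span_singleton]
  refine ⟨MvPolynomial.coeff 0 p, ?_⟩
  rw [Algebra.smul_def, mul_one]
  refine MvPolynomial.ext _ _ fun e => ?_
  rw [MvPolynomial.algebraMap_eq, MvPolynomial.coeff_C]
  split_ifs with h
  · rw [h]
  · by_contra hne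
    exact h ((weight_eq_zero_iff e).1 (hp (Ne.symm hne))).symm

theorem X_mem (i : Fin r) : MvPolynomial.X i ∈ PW k r 1 :=
  MvPolynomial.isWeightedHomogeneous_X k (fun _ : Fin r => (1 : ℤ)) i

theorem pw_ne_bot (hr : 0 < r) {n : ℤ} (hn : 0 ≤ n) : PW k r n ≠ ⊥ := fun h => by
  have hmem : (MvPolynomial.X ⟨0, hr⟩ : MvPolynomial (Fin r) k) ^ n.toNat ∈ PW k r n := by
    have h1 := SetLike.pow_mem_graded n.toNat (X_mem (k := k) ⟨0, hr⟩)
    rwa [nsmul_eq_mul, mul_one, Int.toNat_of_nonneg hn] at h1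
  rw [h, Submodule.mem_bot] at hmem
  exact pow_ne_zero _ (MvPolynomial.X_ne_zero _) hmem

theorem pw_bot_iff (hr : 0 < r) (n : ℤ) : PW k r n = ⊥ ↔ n < 0 :=
  ⟨fun h => not_le.1 fun hn => pw_ne_bot hr hn h, pw_pos n⟩

theorem pw_plus_eq :
    Ideal.span (⋃ n ∈ Set.Ioi (0 : ℤ), (PW k r n : Set (MvPolynomial (Fin r) k))) =
      Ideal.span (Set.range fun i : Fin r => (MvPolynomial.X i : MvPolynomial (Fin r) k)) := by
  refine le_antisymm (Ideal.span_le.2 fun p hp => ?_) (Ideal.span_le.2 ?_)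
  · obtain ⟨n, hn, hp⟩ := Set.mem_iUnion₂.1 hp
    rw [← Set.image_univ, SetLike.mem_coe, MvPolynomial.mem_ideal_span_X_image]
    intro e he
    have h2 : e ≠ 0 := fun h => by
      have h3 : Finsupp.weight (fun _ : Fin r => (1 : ℤ)) e = n := hp (MvPolynomial.mem_support_iff.1 he)
      rw [h, map_zero] at h3
      exact absurd h3 (ne_of_lt hn)
    obtain ⟨i, hi⟩ := Finsupp.support_nonempty_iff.2 h2
    exact ⟨i, trivial, Finsupp.mem_support_iff.1 hi⟩
  · rintro _ ⟨i, rfl⟩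
    exact Ideal.subset_span (Set.mem_biUnion (Set.mem_Ioi.2 one_pos) (X_mem i))

theorem pw_std : Ideal.span (⋃ n ∈ Set.Ioi (0 : ℤ), (PW k r n : Set (MvPolynomial (Fin r) k))) =
    Ideal.span ((PW k r 1 : Submodule k (MvPolynomial (Fin r) k)) : Set (MvPolynomial (Fin r) k)) := by
  refine le_antisymm ?_ (Ideal.span_mono (Set.subset_biUnion_of_mem (u := fun n => (PW k r n : Set (MvPolynomial (Fin r) k)))
    (Set.mem_Ioi.2 one_pos)))
  rw [pw_plus_eq]
  exact Ideal.span_mono (Set.range_subset_iff.2 X_mem)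

theorem pw_dim : ringKrullDim (MvPolynomial (Fin r) k) = (r : ℕ) := by
  rw [MvPolynomial.ringKrullDim_of_isNoetherianRing, ringKrullDim_eq_zero_of_field, zero_add, Nat.card_fin]

theorem pw_cm : LocCoh.IsCohenMacaulayRing (MvPolynomial (Fin r) k) := by
  haveI : LocCoh.IsGorensteinRing k := Gor18.gorRing_of_pid k
  haveI := Gor18.gorRing_mvPolynomial k r
  exact Liaison54.cm_of_gor _

/-- the top local cohomology of a polynomial ring lives exactly in degrees at most `-r` -/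
theorem pw_top_iff (hr : 0 < r) (n : ℤ) :
    GrMod19.VanH (plusH (PW k r)) (PW k r) r n ↔ -(r : ℤ) < n := by
  haveI := pw_cm (k := k) (r := r)
  obtain ⟨I⟩ := GrInj18.nonempty_starInjRes (PW k r) (PW k r)
  let W := GrMod19.reg (PW k r)
  have hposW : ∀ n : ℤ, n < 0 → W n = ⊥ := fun n hn => (AddSubgroup.eq_bot_iff_forall _).2 fun x hx =>
    (Submodule.eq_bot_iff _).1 (pw_pos n hn) x hx
  have h0W : IsField (deg0 W) := by
    let f : k →+* deg0 W :=
      (algebraMap k (MvPolynomial (Fin r) k)).codRestrict (deg0 W) fun c => SetLike.algebraMap_mem_graded (PW k r) c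
    have hf : Function.Bijective f := ⟨f.injective, fun x => by
      obtain ⟨c, hc⟩ := exists_algebraMap_eq (pw_zero (k := k) (r := r)) (show (x : MvPolynomial (Fin r) k) ∈ PW k r 0 from x.2)
      exact ⟨c, Subtype.ext hc⟩⟩
    exact (RingEquiv.ofBijective f hf).toMulEquiv.symm.isField (Field.toIsField k)
  have hm : IsStarLocal (PW k r) (plusH (PW k r)) := by
    have hle : ∀ J : HomogeneousIdeal (PW k r), J ≠ ⊤ → J ≤ plusH (PW k r) := fun J hJ =>
      Seg.le_plus pw_pos pw_zero J.isHomogeneous fun (h : J.toIdeal = ⊤) =>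
        hJ (HomogeneousIdeal.ext (h.trans HomogeneousIdeal.toIdeal_top.symm))
    have hne : plusH (PW k r) ≠ ⊤ := fun h =>
      Seg.plus_ne_top pw_pos ((congrArg HomogeneousIdeal.toIdeal h).trans HomogeneousIdeal.toIdeal_top)
    refine ⟨⟨hne, fun J hJ => ?_⟩, fun J hJ => ?_⟩
    · by_contra hJt
      exact hJ.not_ge (hle J hJt)
    · rcases (hle J hJ.1).eq_or_lt with h | h
      exacts [h, absurd (hJ.2 _ h) hne]
  have hm' := GrMod19.isStarLocal_regIdeal hm
  let a := GrMod19.regIdeal (plusH (PW k r))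
  have hend := GrMod19.Gor.endDeg_of_regular hposW h0W hm' rfl pw_dim (GrMod19.regRes I)
    (fun i => (MvPolynomial.X i : MvPolynomial (Fin r) k)) (fun _ => 1) X_mem pw_plus_eq.symm
    (GrCI54.isWeaklyRegular_X (F := k) (k := r))
  simp only [Finset.sum_const, Finset.card_univ, Fintype.card_fin, nsmul_eq_mul, mul_one] at hend
  have hsame : ∀ n, I.Hcomp (plusH (PW k r)) r n = ⊥ ↔ (GrMod19.regRes I).Hcomp a r n = ⊥ := fun n => by
    rw [Submodule.eq_bot_iff, Submodule.eq_bot_iff]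
    exact Iff.rfl
  rw [GrMod19.vanH_iff _ I, hsame]
  refine ⟨fun h => ?_, fun h => ?_⟩
  · by_contra hn
    exact S18656.result _ W hposW h0W a hm' rfl (pw_std (k := k) (r := r)) r pw_dim hr (GrMod19.regRes I)
      (-(r : ℤ)) hend n (not_lt.1 hn) h
  · exact (GrMod19.Hcomp_eq_bot_iff _ a).2 ((GrMod19.endDeg_le_iff _ (-(r : ℤ))).1 hend.le n h)

section Shift

variable {R : Type u} [CommRing R] [Algebra k R] (𝒜 : ℤ → Submodule k R) [GradedAlgebra 𝒜] (a : ℤ)

/-- shifted pieces form a grading -/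
@[reducible]
noncomputable def shiftDec : Decomposition (fun n : ℤ => 𝒜 (n + a)) := by
  refine IsInternal.chooseDecomposition _ ?_
  have h : IsInternal (GrMod19.selfN fun n : ℤ => 𝒜 (n + a)) := by
    refine GrInj18.isInternal_of_proj _ (fun n => GrMod19.cmp 𝒜 (n + a))
      (fun n x => GrMod19.cmp_mem 𝒜 (n + a) x) (fun x => ?_) (fun n x hx => GrMod19.cmp_of_mem 𝒜 hx)
      (fun n m x hx h => GrMod19.cmp_of_ne 𝒜 hx (fun he => h (add_right_cancel he)))
    obtain ⟨t, ht⟩ := GrMod19.exists_sum_cmp 𝒜 x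
    refine ⟨t.image fun n => n - a, ?_⟩
    rw [Finset.sum_image fun _ _ _ _ h => sub_left_inj.1 h]
    simpa using ht
  exact h

theorem shiftGSMul : SetLike.GradedSMul 𝒜 (fun n : ℤ => 𝒜 (n + a)) :=
  ⟨fun {i j} c m hc hm => by
    show c * m ∈ 𝒜 (i + j + a)
    rw [add_assoc]
    exact SetLike.GradedMul.mul_mem hc hm⟩

theorem vanH_shift [IsNoetherianRing R] (m : HomogeneousIdeal 𝒜) (i : ℕ) (n : ℤ) :
    letI := shiftDec 𝒜 a
    letI := shiftGSMul 𝒜 a
    GrMod19.VanH m (fun n : ℤ => 𝒜 (n + a)) i n ↔ GrMod19.VanH m 𝒜 i (n + a) := by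
  letI := shiftDec 𝒜 a
  letI := shiftGSMul 𝒜 a
  refine ⟨fun h => ?_, fun h => ?_⟩
  · refine GrMod19.vanH_of_equiv m (LinearEquiv.refl R R) (ℳ := 𝒜) (𝒩 := fun n : ℤ => 𝒜 (n + a)) (d := -a) (d' := a)
      (fun g x hx => ?_) (fun g x hx => hx) (neg_add_cancel a) (by rwa [add_neg_cancel_right])
    show x ∈ 𝒜 (g + -a + a)
    rwa [neg_add_cancel_right]
  · refine GrMod19.vanH_of_equiv m (LinearEquiv.refl R R) (ℳ := fun n : ℤ => 𝒜 (n + a)) (𝒩 := 𝒜) (d := a) (d' := -a)
      (fun g x hx => hx) (fun g x hx => ?_) (add_neg_cancel a) h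
    show x ∈ 𝒜 (g + -a + a)
    rwa [neg_add_cancel_right]

end Shift

section Depth

variable {A : Type u} [CommRing A] [IsNoetherianRing A] {σ : Type u} [SetLike σ A] [AddSubgroupClass σ A]
  {𝒞 : ℤ → σ} [GradedRing 𝒞] {P : Type u} [AddCommGroup P] [Module A P] [Module.Finite A P] {τ : Type u}
  [SetLike τ P] [AddSubgroupClass τ P] {𝒬 : ℤ → τ} [Decomposition 𝒬] [SetLike.GradedSMul 𝒞 𝒬]

theorem idealDepth_eq_of_vanH (m : HomogeneousIdeal 𝒞) {n : ℕ}
    (h : ∀ i < n, ∀ d, GrMod19.VanH m 𝒬 i d) {d : ℤ} (hd : ¬ GrMod19.VanH m 𝒬 n d) :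
    LocCoh.idealDepth m.toIdeal P = (n : ℕ∞) := by
  refine le_antisymm ?_ ((LC17.natCast_le_idealDepth_iff _ P n).2 fun i hi => (subsingleton_H_iff m i).2 (h i hi))
  refine LC17.eNat_le_of_forall fun j hj => ?_
  by_contra hlt
  have hnj : n < j := by exact_mod_cast not_le.1 hlt
  exact hd ((subsingleton_H_iff m n).1 ((LC17.natCast_le_idealDepth_iff _ P j).1 hj n hnj) d)

end Depth

end Groth.Agent.GrSeg54
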