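import Groth.Agent.GrSeg54.Pieces

/-!
Graded local cohomology from a complex of modules without local cohomology ("punctured spectrum").
-/

set_option autoImplicit false

universe u

open DirectSum GrLC

namespace Groth.Agent.GrSeg54

variable {R : Type u} [CommRing R] {σ : Type u} [SetLike σ R] [AddSubgroupClass σ R]
  {𝒜 : ℤ → σ} [GradedRing 𝒜]

/-- An exact augmented complex `P → A` with a surjection onto a complex `B` without local cohomology,
with torsion kernel. -/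
structure Punct (a : HomogeneousIdeal 𝒜) (P : GMod.{u} 𝒜) : Type (u + 1) where
  A : ℕ → GMod.{u} 𝒜
  B : ℕ → GMod.{u} 𝒜
  dA : ∀ n, (A n).carrier →ₗ[R] (A (n + 1)).carrier
  dB : ∀ n, (B n).carrier →ₗ[R] (B (n + 1)).carrier
  π : ∀ n, (A n).carrier →ₗ[R] (B n).carrier
  ε : P.carrier →ₗ[R] (A 0).carrier
  dB_gr : ∀ n, IsGrHom (B n).gr (B (n + 1)).gr (dB n)
  π_gr : ∀ n, IsGrHom (A n).gr (B n).gr (π n)
  ε_gr : IsGrHom P.gr (A 0).gr ε
  dB_dB : ∀ n y, dB (n + 1) (dB n y) = 0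
  comm : ∀ n y, π (n + 1) (dA n y) = dB n (π n y)
  π_surj : ∀ n, Function.Surjective (π n)
  π_ker : ∀ n y, π n y = 0 → y ∈ gam a.toIdeal (A n).carrier
  ε_inj : Function.Injective ε
  dA_ε : ∀ m, dA 0 (ε m) = 0
  exact_zero : ∀ y, dA 0 y = 0 → ∃ m, ε m = y
  exact_succ : ∀ n y, dA (n + 1) y = 0 → ∃ z, dA n z = y
  allVan : ∀ n, AllVan a.toIdeal (B n).carrier

namespace Punct

variable {a : HomogeneousIdeal 𝒜} {P : GMod.{u} 𝒜} (D : Punct a P)

/-- the cycles of degree `d` -/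
def Zc (n : ℕ) (d : ℤ) : Submodule (deg0 𝒜) (D.B n).carrier :=
  comp 𝒜 (D.B n).gr d ⊓ (LinearMap.ker (D.dB n)).restrictScalars (deg0 𝒜)

/-- the boundaries of degree `d` -/
def Bc (n : ℕ) (d : ℤ) : Submodule (deg0 𝒜) (D.B (n + 1)).carrier :=
  (comp 𝒜 (D.B n).gr d).map ((D.dB n).restrictScalars (deg0 𝒜))

/-- the cohomology in degree `d` and cohomological degree `n + 1` -/
abbrev HB (n : ℕ) (d : ℤ) : Type u := D.Zc (n + 1) d ⧸ (D.Bc n d).comap (D.Zc (n + 1) d).subtype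

/-- the augmentation of degree `d` -/
def αd (d : ℤ) : comp 𝒜 P.gr d →ₗ[deg0 𝒜] D.Zc 0 d :=
  LinearMap.restrict ((D.π 0 ∘ₗ D.ε).restrictScalars (deg0 𝒜)) fun m hm =>
    ⟨D.π_gr 0 d _ (D.ε_gr d m hm), by
      show D.dB 0 (D.π 0 (D.ε m)) = 0
      rw [← D.comm, D.dA_ε, map_zero]⟩

theorem mem_gam_of_map {X Y : Type u} [AddCommGroup X] [Module R X] [AddCommGroup Y] [Module R Y]
    {f : X →ₗ[R] Y} (hf : Function.Injective f) {J : Ideal R} {x : X} (h : f x ∈ gam J Y) : x ∈ gam J X := by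
  obtain ⟨k, hk⟩ := h
  exact ⟨k, fun r hr => hf (by rw [map_smul, hk r hr, map_zero])⟩

theorem exists_A_killed {n : ℕ} {y : (D.A n).carrier} (h : D.π n y = 0) :
    ∃ k : ℕ, ∀ r ∈ a.toIdeal ^ k, r • y = 0 := D.π_ker n y h

/-- cycles of positive degree become boundaries after multiplication by a power of `a` -/
theorem smul_cycle_mem_range {n : ℕ} {b : (D.B (n + 1)).carrier} (hb : D.dB (n + 1) b = 0) :
    ∃ k : ℕ, ∀ r ∈ a.toIdeal ^ k, r • b ∈ LinearMap.range (D.dB n) := by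
  obtain ⟨y, rfl⟩ := D.π_surj (n + 1) b
  rw [← D.comm] at hb
  obtain ⟨k, hk⟩ := D.exists_A_killed hb
  refine ⟨k, fun r hr => ?_⟩
  obtain ⟨z, hz⟩ := D.exact_succ n (r • y) (by rw [map_smul, hk r hr])
  exact ⟨D.π n z, by rw [← D.comm, hz, map_smul]⟩

/-- cycles of degree zero come from `P` after multiplication by a power of `a` -/
theorem smul_cycle_mem_range_zero {b : (D.B 0).carrier} (hb : D.dB 0 b = 0) :
    ∃ k : ℕ, ∀ r ∈ a.toIdeal ^ k, ∃ m, D.π 0 (D.ε m) = r • b := by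
  obtain ⟨y, rfl⟩ := D.π_surj 0 b
  rw [← D.comm] at hb
  obtain ⟨k, hk⟩ := D.exists_A_killed hb
  refine ⟨k, fun r hr => ?_⟩
  obtain ⟨m, hm⟩ := D.exact_zero (r • y) (by rw [map_smul, hk r hr])
  exact ⟨m, by rw [hm, map_smul]⟩

theorem isHomogeneous_ker_dB (n : ℕ) : (LinearMap.ker (D.dB n)).IsHomogeneous (D.B n).gr :=
  GrMod19.isHomogeneous_ker _ _ (D.dB_gr n)

/-- the module of cycles -/
noncomputable def Wm (n : ℕ) : GMod.{u} 𝒜 := subM (D.B n) (D.isHomogeneous_ker_dB n)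

/-- the module of boundaries -/
noncomputable def Im (n : ℕ) : GMod.{u} 𝒜 :=
  subM (D.B (n + 1)) (GrMod19.isHomogeneous_range _ _ (D.dB_gr n))

/-- the boundary map onto the boundaries -/
noncomputable def toIm (n : ℕ) : (D.B n).carrier →ₗ[R] (D.Im n).carrier := (D.dB n).rangeRestrict

/-- the inclusion of the cycles -/
noncomputable def cycIncl (n : ℕ) : (D.Wm n).carrier →ₗ[R] (D.B n).carrier := (LinearMap.ker (D.dB n)).subtype

theorem ses_cycles (n : ℕ) :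
    GrMod19.Ses (D.Wm n).gr (D.B n).gr (D.Im n).gr (D.cycIncl n) (D.toIm n) 0 where
  hf := fun g m hm => by
    rw [add_zero]
    exact hm
  hg := fun g m hm => D.dB_gr n g m hm
  inj := Submodule.injective_subtype _
  exact := LinearMap.exact_iff.2 ((LinearMap.ker_rangeRestrict _).trans (Submodule.range_subtype _).symm)
  surj := LinearMap.surjective_rangeRestrict _

theorem range_le_ker (n : ℕ) : LinearMap.range (D.dB n) ≤ LinearMap.ker (D.dB (n + 1)) := by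
  rintro _ ⟨x, rfl⟩
  exact D.dB_dB n x

/-- the inclusion of boundaries in cycles -/
noncomputable def imIncl (n : ℕ) : (D.Im n).carrier →ₗ[R] (D.Wm (n + 1)).carrier :=
  Submodule.inclusion (D.range_le_ker n)

theorem isHomogeneous_range_imIncl (n : ℕ) : (LinearMap.range (D.imIncl n)).IsHomogeneous (D.Wm (n + 1)).gr :=
  GrMod19.isHomogeneous_range (D.Im n).gr _ fun g m hm => hm

/-- the cohomology as a graded module -/
noncomputable def Qm (n : ℕ) : GMod.{u} 𝒜 := quotM (D.Wm (n + 1)) (D.isHomogeneous_range_imIncl n)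

/-- the projection onto the cohomology -/
noncomputable def qProj (n : ℕ) : (D.Wm (n + 1)).carrier →ₗ[R] (D.Qm n).carrier := (LinearMap.range (D.imIncl n)).mkQ

theorem ses_coh (n : ℕ) : GrMod19.Ses (D.Im n).gr (D.Wm (n + 1)).gr (D.Qm n).gr (D.imIncl n)
    (D.qProj n) 0 where
  hf := fun g m hm => by
    rw [add_zero]
    exact hm
  hg := fun g m hm => ⟨m, hm, rfl⟩
  inj := Submodule.inclusion_injective _
  exact := LinearMap.exact_iff.2 (Submodule.ker_mkQ _)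
  surj := Submodule.mkQ_surjective _

theorem isPowerTorsion_Qm (n : ℕ) : LocCoh.IsPowerTorsion a.toIdeal (D.Qm n).carrier := by
  intro y
  induction y using Submodule.Quotient.induction_on with
  | _ b =>
    obtain ⟨k, hk⟩ := D.smul_cycle_mem_range (n := n) b.2
    refine ⟨k, fun r hr => (Submodule.Quotient.mk_eq_zero _).2 ?_⟩
    exact ⟨⟨_, hk r hr⟩, Subtype.ext rfl⟩

variable [IsNoetherianRing R]

theorem gam_B (n : ℕ) : gam a.toIdeal (D.B n).carrier = ⊥ := gam_eq_bot_of_allVan (D.allVan n)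

theorem vanH_W_zero (n : ℕ) (d : ℤ) : GrMod19.VanH a (D.Wm n).gr 0 d :=
  GrMod19.vanH_left_zero a (D.ses_cycles n) (vanH_of_allVan (D.allVan n) 0 _)

theorem vanH_I_zero (n : ℕ) (d : ℤ) : GrMod19.VanH a (D.Im n).gr 0 d :=
  GrMod19.vanH_zero_of_forall a fun m hm _ => Subtype.ext (by
    have h := GrMod19.ChainMap.map_gam (LinearMap.range (D.dB n)).subtype a.toIdeal hm
    rw [D.gam_B] at h
    exact (Submodule.mem_bot R).1 h)

theorem vanH_W_one (n : ℕ) (d : ℤ) : GrMod19.VanH a (D.Wm n).gr 1 d :=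
  GrMod19.vanH_left a (i := 0) (D.ses_cycles n) (D.vanH_I_zero n _) (vanH_of_allVan (D.allVan n) 1 _)

theorem nonempty_Qm_equiv (n : ℕ) (d : ℤ) (G : StarInjRes 𝒜 (D.Qm n).gr) :
    Nonempty (G.Hcomp a 0 d ≃ₗ[deg0 𝒜] D.HB n d) := by
  obtain ⟨e⟩ := nonempty_zeroEquiv G (a := a) d
  let p : D.Zc (n + 1) d →ₗ[deg0 𝒜] gamComp a (D.Qm n).gr d :=
    { toFun := fun b => ⟨(LinearMap.range (D.imIncl n)).mkQ ⟨b.1, b.2.2⟩, ⟨⟨b.1, b.2.2⟩, b.2.1, rfl⟩,
        D.isPowerTorsion_Qm n _⟩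
      map_add' := fun x y => Subtype.ext (map_add (LinearMap.range (D.imIncl n)).mkQ ⟨x.1, x.2.2⟩ ⟨y.1, y.2.2⟩)
      map_smul' := fun r x => Subtype.ext
        ((LinearMap.range (D.imIncl n)).mkQ.map_smul_of_tower r ⟨x.1, x.2.2⟩) }
  have hp : Function.Surjective p := by
    rintro ⟨y, ⟨b, hb, rfl⟩, hy⟩
    exact ⟨⟨(Subtype.val b : (D.B (n + 1)).carrier), hb, b.2⟩, Subtype.ext rfl⟩
  have hk : LinearMap.ker p = (D.Bc n d).comap (D.Zc (n + 1) d).subtype := by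
    ext b
    constructor
    · intro h
      obtain ⟨⟨_, z, rfl⟩, hz⟩ := (Submodule.Quotient.mk_eq_zero _).1 (congrArg Subtype.val h)
      have hz' : D.dB n z = b.1 := congrArg Subtype.val hz
      refine ⟨GrMod19.cmp (D.B n).gr d z, GrMod19.cmp_mem (D.B n).gr d z, ?_⟩
      show D.dB n (GrMod19.cmp (D.B n).gr d z) = b.1
      rw [GrMod19.map_cmp _ _ (D.dB_gr n), hz', GrMod19.cmp_of_mem (D.B (n + 1)).gr b.2.1]
    · rintro ⟨z, hz, hzb⟩
      exact Subtype.ext ((Submodule.Quotient.mk_eq_zero _).2 ⟨⟨_, z, rfl⟩, Subtype.ext hzb⟩)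
  exact ⟨e.symm.trans (((Submodule.quotEquivOfEq _ _ hk.symm).trans (p.quotKerEquivOfSurjective hp)).symm)⟩

theorem nonempty_Im_equiv : ∀ (m j : ℕ) (d : ℤ) (E : StarInjRes 𝒜 (D.Im j).gr),
    Nonempty (E.Hcomp a (m + 1) d ≃ₗ[deg0 𝒜] D.HB (j + m) d)
  | 0, j, d, E => by
    obtain ⟨G⟩ := GrInj18.nonempty_starInjRes 𝒜 (D.Qm j).gr
    obtain ⟨e⟩ := D.nonempty_Qm_equiv j d G
    obtain ⟨c⟩ := nonempty_connEquiv E G (a := a) (D.ses_coh j) (D.vanH_W_zero (j + 1) d) (D.vanH_W_one (j + 1) d)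
    exact ⟨c.symm.trans e⟩
  | m + 1, j, d, E => by
    obtain ⟨F⟩ := GrInj18.nonempty_starInjRes 𝒜 (D.Wm (j + 1)).gr
    obtain ⟨G⟩ := GrInj18.nonempty_starInjRes 𝒜 (D.Im (j + 1)).gr
    obtain ⟨e⟩ := nonempty_Im_equiv m (j + 1) d G
    obtain ⟨c⟩ := nonempty_connEquiv F G (a := a) (D.ses_cycles (j + 1)) (i := m + 1) (n := d)
      (vanH_of_allVan (D.allVan _) _ _) (vanH_of_allVan (D.allVan _) _ _)
    obtain ⟨l⟩ := nonempty_leftEquiv E F (a := a) (D.ses_coh j) (i := m + 1) (n := d)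
      (GrMod19.vanH_of_torsion a (D.isPowerTorsion_Qm j) (Nat.succ_pos _) d)
      (GrMod19.vanH_of_torsion a (D.isPowerTorsion_Qm j) (Nat.succ_pos _) d)
    rw [show j + (m + 1) = j + 1 + m by omega]
    exact ⟨(l.trans c.symm).trans e⟩

/-- the augmentation into the cycles -/
noncomputable def α : P.carrier →ₗ[R] (D.Wm 0).carrier :=
  (D.π 0 ∘ₗ D.ε).codRestrict _ fun m => LinearMap.mem_ker.2 (by
    show D.dB 0 (D.π 0 (D.ε m)) = 0
    rw [← D.comm, D.dA_ε, map_zero])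

omit [IsNoetherianRing R] in
theorem α_gr : IsGrHom P.gr (D.Wm 0).gr D.α := fun g m hm => D.π_gr 0 g _ (D.ε_gr g m hm)

/-- the cokernel of the augmentation -/
noncomputable def Cm : GMod.{u} 𝒜 := quotM (D.Wm 0) (GrMod19.isHomogeneous_range _ _ D.α_gr)

/-- the image of the augmentation -/
noncomputable def Rm : GMod.{u} 𝒜 := subM (D.Wm 0) (GrMod19.isHomogeneous_range _ _ D.α_gr)

/-- the kernel of the augmentation -/
noncomputable def Km : GMod.{u} 𝒜 := subM P (GrMod19.isHomogeneous_ker _ _ D.α_gr)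

/-- the inclusion of the kernel of the augmentation -/
noncomputable def kIncl : D.Km.carrier →ₗ[R] P.carrier := (LinearMap.ker D.α).subtype

/-- the augmentation onto its image -/
noncomputable def toRm : P.carrier →ₗ[R] D.Rm.carrier := D.α.rangeRestrict

/-- the inclusion of the image of the augmentation -/
noncomputable def rIncl : D.Rm.carrier →ₗ[R] (D.Wm 0).carrier := (LinearMap.range D.α).subtype

/-- the projection onto the cokernel of the augmentation -/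
noncomputable def cProj : (D.Wm 0).carrier →ₗ[R] D.Cm.carrier := (LinearMap.range D.α).mkQ

omit [IsNoetherianRing R] in
theorem isPowerTorsion_ker_α : LocCoh.IsPowerTorsion a.toIdeal D.Km.carrier := by
  rintro ⟨m, hm⟩
  exact mem_gam_of_map (LinearMap.ker D.α).injective_subtype
    (mem_gam_of_map D.ε_inj (D.π_ker 0 _ (congrArg Subtype.val hm)))

omit [IsNoetherianRing R] in
theorem ses_ker : GrMod19.Ses D.Km.gr P.gr D.Rm.gr D.kIncl D.toRm 0 where
  hf := fun g m hm => by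
    rw [add_zero]
    exact hm
  hg := fun g m hm => D.α_gr g m hm
  inj := Submodule.injective_subtype _
  exact := LinearMap.exact_iff.2 ((LinearMap.ker_rangeRestrict _).trans (Submodule.range_subtype _).symm)
  surj := LinearMap.surjective_rangeRestrict _

omit [IsNoetherianRing R] in
theorem ses_coker : GrMod19.Ses D.Rm.gr (D.Wm 0).gr D.Cm.gr D.rIncl
    D.cProj 0 where
  hf := fun g m hm => by
    rw [add_zero]
    exact hm
  hg := fun g m hm => ⟨m, hm, rfl⟩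
  inj := Submodule.injective_subtype _
  exact := LinearMap.exact_iff.2 ((Submodule.ker_mkQ _).trans (Submodule.range_subtype _).symm)
  surj := Submodule.mkQ_surjective _

omit [IsNoetherianRing R] in
theorem isPowerTorsion_Cm : LocCoh.IsPowerTorsion a.toIdeal D.Cm.carrier := by
  intro y
  induction y using Submodule.Quotient.induction_on with
  | _ b =>
    obtain ⟨k, hk⟩ := D.smul_cycle_mem_range_zero b.2
    refine ⟨k, fun r hr => (Submodule.Quotient.mk_eq_zero _).2 ?_⟩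
    obtain ⟨m, hm⟩ := hk r hr
    exact ⟨m, Subtype.ext hm⟩

variable (E : StarInjRes 𝒜 P.gr)

/-- cohomological degree at least two -/
theorem nonempty_equiv_high (n : ℕ) (d : ℤ) : Nonempty (E.Hcomp a (n + 2) d ≃ₗ[deg0 𝒜] D.HB n d) := by
  obtain ⟨G⟩ := GrInj18.nonempty_starInjRes 𝒜 D.Rm.gr
  obtain ⟨F⟩ := GrInj18.nonempty_starInjRes 𝒜 (D.Wm 0).gr
  obtain ⟨J⟩ := GrInj18.nonempty_starInjRes 𝒜 (D.Im 0).gr
  obtain ⟨r⟩ := nonempty_rightEquiv E G (a := a) D.ses_ker (i := n + 2) (n := d)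
    (GrMod19.vanH_of_torsion a D.isPowerTorsion_ker_α (Nat.succ_pos _) d)
    (GrMod19.vanH_of_torsion a D.isPowerTorsion_ker_α (Nat.succ_pos _) d)
  obtain ⟨l⟩ := nonempty_leftEquiv G F (a := a) D.ses_coker (i := n + 1) (n := d)
    (GrMod19.vanH_of_torsion a D.isPowerTorsion_Cm (Nat.succ_pos _) d)
    (GrMod19.vanH_of_torsion a D.isPowerTorsion_Cm (Nat.succ_pos _) d)
  obtain ⟨c⟩ := nonempty_connEquiv F J (a := a) (D.ses_cycles 0) (i := n + 1) (n := d)
    (vanH_of_allVan (D.allVan _) _ _) (vanH_of_allVan (D.allVan _) _ _)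
  obtain ⟨e⟩ := D.nonempty_Im_equiv n 0 d J
  rw [Nat.zero_add] at e
  exact ⟨((r.trans l).trans c.symm).trans e⟩

/-- cohomological degree one -/
theorem nonempty_equiv_one (d : ℤ) :
    Nonempty (E.Hcomp a 1 d ≃ₗ[deg0 𝒜] (D.Zc 0 d ⧸ LinearMap.range (D.αd d))) := by
  obtain ⟨G⟩ := GrInj18.nonempty_starInjRes 𝒜 D.Rm.gr
  obtain ⟨C⟩ := GrInj18.nonempty_starInjRes 𝒜 D.Cm.gr
  obtain ⟨r⟩ := nonempty_rightEquiv E G (a := a) D.ses_ker (i := 1) (n := d)
    (GrMod19.vanH_of_torsion a D.isPowerTorsion_ker_α Nat.one_pos d)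
    (GrMod19.vanH_of_torsion a D.isPowerTorsion_ker_α (Nat.succ_pos _) d)
  obtain ⟨c⟩ := nonempty_connEquiv G C (a := a) D.ses_coker (i := 0) (n := d) (D.vanH_W_zero 0 d)
    (D.vanH_W_one 0 d)
  obtain ⟨e⟩ := nonempty_zeroEquiv C (a := a) d
  let p : D.Zc 0 d →ₗ[deg0 𝒜] gamComp a D.Cm.gr d :=
    { toFun := fun b => ⟨(LinearMap.range D.α).mkQ ⟨b.1, b.2.2⟩, ⟨⟨b.1, b.2.2⟩, b.2.1, rfl⟩,
        D.isPowerTorsion_Cm _⟩
      map_add' := fun x y => Subtype.ext (map_add (LinearMap.range D.α).mkQ ⟨x.1, x.2.2⟩ ⟨y.1, y.2.2⟩)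
      map_smul' := fun r x => Subtype.ext ((LinearMap.range D.α).mkQ.map_smul_of_tower r ⟨x.1, x.2.2⟩) }
  have hp : Function.Surjective p := by
    rintro ⟨y, ⟨b, hb, rfl⟩, hy⟩
    exact ⟨⟨(Subtype.val b : (D.B 0).carrier), hb, b.2⟩, Subtype.ext rfl⟩
  have hk : LinearMap.ker p = LinearMap.range (D.αd d) := by
    ext b
    constructor
    · intro h
      obtain ⟨m, hm⟩ := (Submodule.Quotient.mk_eq_zero _).1 (congrArg Subtype.val h)
      refine ⟨⟨GrMod19.cmp P.gr d m, GrMod19.cmp_mem P.gr d m⟩, Subtype.ext ?_⟩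
      show (D.π 0 ∘ₗ D.ε) (GrMod19.cmp P.gr d m) = b.1
      rw [GrMod19.map_cmp _ _ (fun g x hx => D.π_gr 0 g _ (D.ε_gr g x hx) : IsGrHom P.gr (D.B 0).gr _)]
      rw [show (D.π 0 ∘ₗ D.ε) m = b.1 from congrArg Subtype.val hm, GrMod19.cmp_of_mem (D.B 0).gr b.2.1]
    · rintro ⟨m, rfl⟩
      exact Subtype.ext ((Submodule.Quotient.mk_eq_zero _).2 ⟨m.1, Subtype.ext rfl⟩)
  exact ⟨(r.trans c.symm).trans
    (e.symm.trans ((Submodule.quotEquivOfEq _ _ hk.symm).trans (p.quotKerEquivOfSurjective hp)).symm)⟩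

theorem gamComp_eq_map_ker (d : ℤ) :
    gamComp a P.gr d = (LinearMap.ker (D.αd d)).map (comp 𝒜 P.gr d).subtype := by
  ext m
  constructor
  · rintro ⟨hm, hg⟩
    refine ⟨⟨m, hm⟩, LinearMap.mem_ker.2 (Subtype.ext ?_), rfl⟩
    have h := GrMod19.ChainMap.map_gam (D.π 0 ∘ₗ D.ε) a.toIdeal hg
    rw [D.gam_B] at h
    exact (Submodule.mem_bot R).1 h
  · rintro ⟨⟨m, hm⟩, h, rfl⟩
    exact ⟨hm, mem_gam_of_map D.ε_inj (D.π_ker 0 _ (congrArg Subtype.val (LinearMap.mem_ker.1 h)))⟩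

/-- cohomological degree zero -/
theorem nonempty_equiv_zero (d : ℤ) : Nonempty (E.Hcomp a 0 d ≃ₗ[deg0 𝒜] LinearMap.ker (D.αd d)) := by
  obtain ⟨e⟩ := nonempty_zeroEquiv E (a := a) d
  exact ⟨e.symm.trans ((LinearEquiv.ofEq _ _ (D.gamComp_eq_map_ker d)).trans
    ((comp 𝒜 P.gr d).equivSubtypeMap _).symm)⟩

end Punct

end Groth.Agent.GrSeg54
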