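import Groth.Agent.GrSeg54.TopSegre

/-!
Local cohomology of a Segre product with a module on which a homogeneous element acts bijectively.
-/

set_option autoImplicit false
set_option maxHeartbeats 400000

universe u

open scoped TensorProduct
open DirectSum GrLC

namespace Groth.Agent.GrSeg54

open Groth.Agent.CAlg6

section Zero

variable {R : Type u} [CommRing R] [IsNoetherianRing R] {σ : Type u} [SetLike σ R] [AddSubgroupClass σ R]
  {𝒜 : ℤ → σ} [GradedRing 𝒜] {a : HomogeneousIdeal 𝒜}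
  {M : Type u} [AddCommGroup M] [Module R M] {τ : Type u} [SetLike τ M] [AddSubgroupClass τ M]
  {ℳ : ℤ → τ} [Decomposition ℳ] [SetLike.GradedSMul 𝒜 ℳ]
  {N : Type u} [AddCommGroup N] [Module R N] {τ' : Type u} [SetLike τ' N] [AddSubgroupClass τ' N]
  {𝒩 : ℤ → τ'} [Decomposition 𝒩] [SetLike.GradedSMul 𝒜 𝒩]
  {L : Type u} [AddCommGroup L] [Module R L] {τ'' : Type u} [SetLike τ'' L] [AddSubgroupClass τ'' L]
  {ℒ : ℤ → τ''} [Decomposition ℒ] [SetLike.GradedSMul 𝒜 ℒ]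

theorem exists_zeroLeftBij (E : StarInjRes 𝒜 ℳ) (F : StarInjRes 𝒜 𝒩) {f : M →ₗ[R] N} {g : N →ₗ[R] L}
    (S : GrMod19.Ses ℳ 𝒩 ℒ f g 0) (h : ∀ n, GrMod19.VanH a ℒ 0 n) :
    ∃ φ : E.H a 0 →ₗ[R] F.H a 0, GrBij (E.Hgr a 0) (F.Hgr a 0) φ := by
  obtain ⟨G⟩ := GrInj18.nonempty_starInjRes 𝒜 ℒ
  obtain ⟨δ, -, hex1, -, -, hinj⟩ := GrMod19.exists_les E F G S a
  have := subsingleton_EH G h
  refine ⟨GrMod19.hMap E F a f S.hf 0, ⟨hinj, fun y => (hex1 0 y).1 (Subsingleton.elim _ _)⟩,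
    fun n x hx => GrMod19.hMap_mem_Hcomp₀ a E F S.hf hx, fun n y hy => ?_⟩
  exact GrMod19.exists_Hcomp_preimage E a F (g := n) (GrMod19.hMap_deg (E := E) (F := F) a S.hf 0)
    (by rwa [add_zero]) ((hex1 0 y).1 (Subsingleton.elim _ _))

end Zero

variable {k : Type u} [Field k] {R S T : Type u} [CommRing R] [CommRing S] [CommRing T]
  [Algebra k R] [Algebra k S] [Algebra k T]
  {𝒜 : ℤ → Submodule k R} [GradedAlgebra 𝒜] {ℬ : ℤ → Submodule k S} [GradedAlgebra ℬ]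
  {𝒯 : ℤ → Submodule k T} [GradedAlgebra 𝒯] {ψ : T →ₐ[k] R ⊗[k] S}

/-- graded local cohomology as a bundled graded module -/
noncomputable def HGM {X : GMod.{u} 𝒜} (E : StarInjRes 𝒜 X.gr) (a : HomogeneousIdeal 𝒜) (q : ℕ) : GMod.{u} 𝒜 :=
  { carrier := E.H a q
    gr := E.Hgr a q
    dec := (GrMod19.isInternal_Hgr E a q).chooseDecomposition
    gsmul := ⟨fun {i j} c x hc hx => by
      rw [vadd_eq_add, add_comm]; exact GrMod19.smul_mem_Hcomp E a q hc hx⟩ }

/-- the Segre product preserves graded isomorphisms of the first factor -/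
theorem segMap_grBij (hT : GrSeg.IsSegreRing 𝒜 ℬ 𝒯 ψ) {X X' : GMod.{u} 𝒜} (Y : GMod.{u} ℬ)
    {f : X.carrier →ₗ[R] X'.carrier} (hf : GrBij X.gr X'.gr f) :
    GrBij (segG X Y hT).gr (segG X' Y hT).gr (segMap X Y hT f LinearMap.id hf.map_mem fun _ _ h => h) where
  bij := ⟨segMap_injective X Y hT _ _ hf.bij.1 Function.injective_id,
    segMap_surjective X Y hT _ _ hf.bij.2 Function.surjective_id⟩
  map_mem n x hx := segMap_gr X Y hT f LinearMap.id hf.map_mem (fun _ _ h => h) n x hx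
  exists_mem n y hy := by
    have hid : GrBij Y.gr Y.gr (LinearMap.id : Y.carrier →ₗ[S] Y.carrier) :=
      ⟨Function.bijective_id, fun _ _ h => h, fun _ y hy => ⟨y, hy, rfl⟩⟩
    have h1 : val X' Y hT y ∈ (GrSeg.segrePiece k X'.gr Y.gr n : Set _) := hy
    rw [← segrePiece_image hf hid n] at h1
    obtain ⟨w, hw, hwy⟩ := h1
    obtain ⟨v, hv, hvw⟩ := exists_val_piece X Y hT (n := n) hw
    exact ⟨v, hv, val_injective X' Y hT ((val_segMap X Y hT f LinearMap.id hf.map_mem (fun _ _ h => h) v).trans ((congrArg _ hvw).trans hwy))⟩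

section Main

variable [IsNoetherianRing R] [IsNoetherianRing S] [IsNoetherianRing T] (hT : GrSeg.IsSegreRing 𝒜 ℬ 𝒯 ψ)
  {mR : HomogeneousIdeal 𝒜} {mT : HomogeneousIdeal 𝒯}
  (hposR : GrMod19.NonnegGr 𝒜) (hposT : GrMod19.NonnegGr 𝒯) (hmR : GrMod19.IsPlus mR) (hmT : GrMod19.IsPlus mT)
  (Y : GMod.{u} ℬ) {e : ℤ} (he : 0 < e) {g : S} (hg : g ∈ ℬ e)
  (hY : Function.Bijective fun y : Y.carrier => g • y)

include hposR hmR hmT he hg hY in
theorem allVan_segG_quot_bij (I : GMod.{u} 𝒜) (hI : IsStarInj 𝒜 I.gr) :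
    AllVan mT.toIdeal (segG (quotGam I mR) Y hT).carrier := by
  obtain ⟨l, deg, gen, hdeg, hgen', hgen⟩ := GrMod19.exists_plus_gens hposR hmR
  refine quot_gam_induction (fun X => AllVan mT.toIdeal (segG X Y hT).carrier) (fun X hX => ?_)
    (fun X₁ X₂ X₃ f g S' h1 h3 => allVan_ext (ses_left hT S' Y) h1 h3)
    (fun X p x hp hx hX => allVan_segG_of_bijective hT hmT hp he hx hg hX hY) hdeg hgen' mR hgen I hI
  have := subsingleton_segG X Y hT (Or.inl hX)
  exact allVan_of_subsingleton _ _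

include hposR hposT hmR hmT in
theorem isPowerTorsion_segG {K : GMod.{u} 𝒜} (hK : LocCoh.IsPowerTorsion mR.toIdeal K.carrier) :
    LocCoh.IsPowerTorsion mT.toIdeal (segG K Y hT).carrier := by
  intro v
  suffices h : ∀ w : K.carrier ⊗[k] Y.carrier,
      ∃ n : ℕ, ∀ r ∈ mT.toIdeal ^ n, GrSeg.act k R S K.carrier Y.carrier (ψ r) w = 0 by
    obtain ⟨n, hn⟩ := h (val K Y hT v)
    exact ⟨n, fun r hr => val_injective K Y hT (by rw [val_smul, hn r hr, map_zero])⟩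
  intro w
  induction w using TensorProduct.induction_on with
  | zero => exact ⟨0, fun r _ => map_zero _⟩
  | tmul x y => exact exists_kill_left hT hposR hposT hmR hmT K Y (hK x) y
  | add a b ha hb =>
    obtain ⟨n, hn⟩ := ha
    obtain ⟨m, hm⟩ := hb
    exact ⟨n + m, fun r hr => by
      rw [map_add, hn r (Ideal.pow_le_pow_right (Nat.le_add_right n m) hr),
        hm r (Ideal.pow_le_pow_right (Nat.le_add_left m n) hr), add_zero]⟩

section Split

variable {X : GMod.{u} 𝒜} (E : StarInjRes 𝒜 X.gr) (m : HomogeneousIdeal 𝒜)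

/-- the map to a torsion-free module built from a resolution -/
noncomputable def toTF : X.carrier →ₗ[R] (quotGam (E.X 0) m).carrier :=
  qgam m (E.X 0) ∘ₗ E.ε

theorem toTF_gr : IsGrHom X.gr (quotGam (E.X 0) m).gr (toTF E m) :=
  fun n x hx => qgam_gr m (E.X 0) n _ (E.ε_grHom n x hx)

/-- the torsion part -/
noncomputable def torM : GMod.{u} 𝒜 := subM X (GrMod19.isHomogeneous_ker _ _ (toTF_gr E m))

/-- the torsion-free part -/
noncomputable def tfM : GMod.{u} 𝒜 := subM (quotGam (E.X 0) m) (GrMod19.isHomogeneous_range _ _ (toTF_gr E m))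

/-- the cokernel of the torsion-free part -/
noncomputable def cokM : GMod.{u} 𝒜 := quotM (quotGam (E.X 0) m) (GrMod19.isHomogeneous_range _ _ (toTF_gr E m))

/-- inclusion of the torsion part -/
noncomputable def torIncl : (torM E m).carrier →ₗ[R] X.carrier := (LinearMap.ker (toTF E m)).subtype

/-- projection onto the torsion-free part -/
noncomputable def toTfM : X.carrier →ₗ[R] (tfM E m).carrier := (toTF E m).rangeRestrict

/-- inclusion of the torsion-free part -/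
noncomputable def tfIncl : (tfM E m).carrier →ₗ[R] (quotGam (E.X 0) m).carrier :=
  (LinearMap.range (toTF E m)).subtype

/-- projection onto the cokernel -/
noncomputable def toCok : (quotGam (E.X 0) m).carrier →ₗ[R] (cokM E m).carrier :=
  (LinearMap.range (toTF E m)).mkQ

theorem ses_tor : GrMod19.Ses (torM E m).gr X.gr (tfM E m).gr (torIncl E m) (toTfM E m) 0 where
  hf := fun n x hx => by
    rw [add_zero]
    exact hx
  hg := fun n x hx => toTF_gr E m n x hx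
  inj := Submodule.injective_subtype _
  exact := LinearMap.exact_iff.2 ((LinearMap.ker_rangeRestrict _).trans (Submodule.range_subtype _).symm)
  surj := LinearMap.surjective_rangeRestrict _

theorem ses_tf : GrMod19.Ses (tfM E m).gr (quotGam (E.X 0) m).gr (cokM E m).gr (tfIncl E m) (toCok E m) 0 where
  hf := fun n x hx => by
    rw [add_zero]
    exact hx
  hg := fun n x hx => ⟨x, hx, rfl⟩
  inj := Submodule.injective_subtype _
  exact := LinearMap.exact_iff.2 ((Submodule.ker_mkQ _).trans (Submodule.range_subtype _).symm)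
  surj := Submodule.mkQ_surjective _

theorem isPowerTorsion_torM : LocCoh.IsPowerTorsion m.toIdeal (torM E m).carrier := by
  rintro ⟨x, hx⟩
  exact Punct.mem_gam_of_map (LinearMap.ker (toTF E m)).injective_subtype
    (Punct.mem_gam_of_map E.ε_injective (qgam_eq_zero m hx))

end Split

include hposR hposT hmR hmT he hg hY in
set_option maxHeartbeats 1000000 in
/-- the local cohomology of a Segre product with a bijectively acting element -/
theorem exists_segBij : ∀ (q : ℕ) (X : GMod.{u} 𝒜) (E : StarInjRes 𝒜 X.gr)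
    (F : StarInjRes 𝒯 (segG X Y hT).gr),
    ∃ Θ : F.H mT q →ₗ[T] (segG (HGM E mR q) Y hT).carrier,
      GrBij (F.Hgr mT q) (segG (HGM E mR q) Y hT).gr Θ := by
  intro q
  induction q with
  | zero =>
    intro X E F
    have vR : ∀ n, GrMod19.VanH mR (tfM E mR).gr 0 n := fun n =>
      GrMod19.vanH_left_zero mR (ses_tf E mR) (vanH_of_allVan (allVan_quotGam mR hposR hmR _ (E.starInj 0)) _ _)
    have vT : ∀ n, GrMod19.VanH mT (segG (tfM E mR) Y hT).gr 0 n := fun n =>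
      GrMod19.vanH_left_zero mT (ses_left hT (ses_tf E mR) Y)
        (vanH_of_allVan (allVan_segG_quot_bij hT hposR hmR hmT Y he hg hY _ (E.starInj 0)) _ _)
    have hK := isPowerTorsion_torM E mR
    obtain ⟨EK⟩ := GrInj18.nonempty_starInjRes 𝒜 (torM E mR).gr
    obtain ⟨FK⟩ := GrInj18.nonempty_starInjRes 𝒯 (segG (torM E mR) Y hT).gr
    obtain ⟨r₁, hr₁⟩ := exists_zeroLeftBij EK E (ses_tor E mR) vR
    obtain ⟨r₀, hr₀⟩ := exists_zeroBij EK (a := mR) hK
    obtain ⟨t₁, ht₁⟩ := exists_zeroLeftBij FK F (ses_left hT (ses_tor E mR) Y) vT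
    obtain ⟨t₁', ht₁'⟩ := ht₁.symm
    obtain ⟨t₀, ht₀⟩ := exists_zeroBij FK (a := mT) (isPowerTorsion_segG hT hposR hposT hmR hmT Y hK)
    obtain ⟨t₀', ht₀'⟩ := ht₀.symm
    exact ⟨_, (ht₁'.comp ht₀').comp
      (segMap_grBij (X := torM E mR) (X' := HGM E mR 0) hT Y (f := r₁ ∘ₗ r₀) (hr₀.comp hr₁))⟩
  | succ q ih =>
    intro X E F
    have hK := isPowerTorsion_torM E mR
    have hKT := isPowerTorsion_segG hT hposR hposT hmR hmT Y hK
    have aR := allVan_quotGam mR hposR hmR _ (E.starInj 0)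
    have aT := allVan_segG_quot_bij hT hposR hmR hmT Y he hg hY _ (E.starInj 0)
    obtain ⟨EB⟩ := GrInj18.nonempty_starInjRes 𝒜 (tfM E mR).gr
    obtain ⟨EC⟩ := GrInj18.nonempty_starInjRes 𝒜 (cokM E mR).gr
    obtain ⟨FB⟩ := GrInj18.nonempty_starInjRes 𝒯 (segG (tfM E mR) Y hT).gr
    obtain ⟨FC⟩ := GrInj18.nonempty_starInjRes 𝒯 (segG (cokM E mR) Y hT).gr
    obtain ⟨r₁, hr₁⟩ := exists_rightBij E EB (a := mR) (ses_tor E mR) (i := q + 1)
      (fun n => GrMod19.vanH_of_torsion mR hK (Nat.succ_pos _) n)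
      (fun n => GrMod19.vanH_of_torsion mR hK (Nat.succ_pos _) n)
    obtain ⟨r₁', hr₁'⟩ := hr₁.symm
    obtain ⟨r₂, hr₂⟩ := exists_connBij EB EC (a := mR) (ses_tf E mR) (i := q)
      (fun n => vanH_of_allVan aR _ n) (fun n => vanH_of_allVan aR _ n)
    obtain ⟨t₁, ht₁⟩ := exists_rightBij F FB (a := mT) (ses_left hT (ses_tor E mR) Y) (i := q + 1)
      (fun n => GrMod19.vanH_of_torsion mT hKT (Nat.succ_pos _) n)
      (fun n => GrMod19.vanH_of_torsion mT hKT (Nat.succ_pos _) n)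
    obtain ⟨t₂, ht₂⟩ := exists_connBij FB FC (a := mT) (ses_left hT (ses_tf E mR) Y) (i := q)
      (fun n => vanH_of_allVan aT _ n) (fun n => vanH_of_allVan aT _ n)
    obtain ⟨t₂', ht₂'⟩ := ht₂.symm
    obtain ⟨θ, hθ⟩ := ih (cokM E mR) EC FC
    exact ⟨_, ((ht₁.comp ht₂').comp hθ).comp (segMap_grBij (X := HGM EC mR q) (X' := HGM E mR (q + 1)) hT Y
      (f := r₁' ∘ₗ r₂) (hr₂.comp hr₁'))⟩

end Main

section Presented

variable [Algebra.FiniteType k R] [Algebra.FiniteType k S]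
  {M N P : Type u} [AddCommGroup M] [Module R M] [Module k M] [IsScalarTower k R M]
  [AddCommGroup N] [Module S N] [Module k N] [IsScalarTower k S N]
  [AddCommGroup P] [Module T P] [Module k P] [IsScalarTower k T P]
  {σM σN σQ : Type u} [SetLike σM M] [AddSubgroupClass σM M] [SetLike σN N] [AddSubgroupClass σN N]
  [SetLike σQ P] [AddSubgroupClass σQ P]
  {ℳ : ℤ → σM} [Decomposition ℳ] [SetLike.GradedSMul 𝒜 ℳ]
  {𝒩 : ℤ → σN} [Decomposition 𝒩] [SetLike.GradedSMul ℬ 𝒩]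
  {𝒬 : ℤ → σQ} [Decomposition 𝒬] [SetLike.GradedSMul 𝒯 𝒬] {φ : P →ₗ[k] M ⊗[k] N}

set_option maxHeartbeats 1000000 in
/-- the presented form -/
theorem exists_isSegreMod_bij (hT : GrSeg.IsSegreRing 𝒜 ℬ 𝒯 ψ) (hP : GrSeg.IsSegreMod ψ ℳ 𝒩 𝒬 φ)
    (hposR : ∀ n : ℤ, n < 0 → 𝒜 n = ⊥) {mR : HomogeneousIdeal 𝒜} {mT : HomogeneousIdeal 𝒯}
    (hmR : GrMod19.IsPlus mR) (hmT : GrMod19.IsPlus mT) {e : ℤ} (he : 0 < e) {g : S} (hg : g ∈ ℬ e)
    (hN : Function.Bijective fun y : N => g • y)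
    (EM : StarInjRes 𝒜 ℳ) (EP : StarInjRes 𝒯 𝒬) (q : ℕ)
    {HM : Type u} [AddCommGroup HM] [Module R HM] [Module k HM] [IsScalarTower k R HM]
    {ℋM : ℤ → AddSubgroup HM} (fM : EM.H mR q →ₗ[R] HM) (hfM : GrBij (EM.Hgr mR q) ℋM fM)
    {HP : Type u} [AddCommGroup HP] [Module T HP] [Module k HP] [IsScalarTower k T HP]
    {ℋP : ℤ → AddSubgroup HP} [Decomposition ℋP] (cP : HP →ₗ[T] EP.H mT q) (hcP : GrBij ℋP (EP.Hgr mT q) cP) :
    ∃ φ' : HP →ₗ[k] HM ⊗[k] N, GrSeg.IsSegreMod ψ ℋM 𝒩 ℋP φ' := by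
  haveI := Algebra.FiniteType.isNoetherianRing k R
  haveI := Algebra.FiniteType.isNoetherianRing k S
  haveI := isNoetherianRing_segre hT
  obtain ⟨EM'⟩ := GrInj18.nonempty_starInjRes 𝒜 (gN 𝒜 ℳ).gr
  let Y := gN ℬ 𝒩
  obtain ⟨EW⟩ := GrInj18.nonempty_starInjRes 𝒯 (segG (gN 𝒜 ℳ) Y hT).gr
  obtain ⟨c, hc, hc'⟩ := exists_segEquiv hT hP
  obtain ⟨c₁', hc₁'⟩ := exists_hBij mT c hc hc' EP EW q
  let c₁ := c₁' ∘ₗ cP
  have hc₁ := hcP.comp hc₁'
  obtain ⟨Θ, hΘ⟩ := exists_segBij hT (nonnegGr_of_bot hposR) (nonnegGr_of_bot (segre_nonneg hT hposR))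
    hmR hmT Y he hg hN q (gN 𝒜 ℳ) EM' EW
  let eM : (gN 𝒜 ℳ).carrier ≃ₗ[R] M :=
    { toFun := fun m => m
      invFun := fun m => m
      left_inv := fun _ => rfl
      right_inv := fun _ => rfl
      map_add' := fun _ _ => rfl
      map_smul' := fun _ _ => rfl }
  let eN : (gN ℬ 𝒩).carrier →ₗ[S] N :=
    { toFun := fun m => m
      map_add' := fun _ _ => rfl
      map_smul' := fun _ _ => rfl }
  have heN : GrBij (gN ℬ 𝒩).gr 𝒩 eN := ⟨Function.bijective_id, fun _ _ h => h, fun _ y hy => ⟨y, hy, rfl⟩⟩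
  obtain ⟨f, hf⟩ := exists_hBij (ℳ := (gN 𝒜 ℳ).gr) (𝒩 := ℳ) mR eM (fun _ _ h => h) (fun _ _ h => h) EM' EM q
  let X' := HGM EM' mR q
  let f' : X'.carrier →ₗ[R] HM := fM ∘ₗ f
  have hf' : GrBij X'.gr ℋM f' := hf.comp hfM
  let F := TensorProduct.map (f'.restrictScalars k) (eN.restrictScalars k)
  refine ⟨F ∘ₗ val X' Y hT ∘ₗ (Θ ∘ₗ c₁).restrictScalars k, ⟨?_, fun n => ?_, fun t p => ?_⟩⟩
  · exact (TensorProduct.map_injective_of_flat_flat (f'.restrictScalars k) (eN.restrictScalars k) hf'.bij.1 heN.bij.1).comp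
      ((val_injective X' Y hT).comp (hc₁.comp hΘ).bij.1)
  · have h1 : (fun p => val X' Y hT ((Θ ∘ₗ c₁) p)) '' (ℋP n : Set _) =
        (GrSeg.segrePiece k X'.gr Y.gr n : Set _) := by
      refine Set.ext fun w => ⟨?_, fun hw => ?_⟩
      · rintro ⟨p, hp, rfl⟩
        exact (hc₁.comp hΘ).map_mem n p hp
      · obtain ⟨v, hv, rfl⟩ := exists_val_piece X' Y hT hw
        obtain ⟨p, hp, hpv⟩ := (hc₁.comp hΘ).exists_mem n v hv
        exact ⟨p, hp, congrArg (val X' Y hT) hpv⟩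
    show (fun p => F (val X' Y hT ((Θ ∘ₗ c₁) p))) '' _ = _
    rw [← Set.image_image F (fun p => val X' Y hT ((Θ ∘ₗ c₁) p)), h1]
    exact segrePiece_image hf' heN n
  · show F (val X' Y hT ((Θ ∘ₗ c₁) (t • p))) = GrSeg.act k R S _ _ (ψ t) (F (val X' Y hT ((Θ ∘ₗ c₁) p)))
    rw [map_smul, val_smul]
    exact act_map' f' eN (ψ t) _

end Presented

end Groth.Agent.GrSeg54
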