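import Groth.Agent.GrSeg54.SegCM

/-!
The dimension of a nonzero Segre product of Cohen–Macaulay modules.
-/

set_option autoImplicit false

universe u

open scoped TensorProduct
open DirectSum GrLC

namespace Groth.Agent.GrSeg54

open Groth.Agent.CAlg6

variable {k : Type u} [Field k] {R S T : Type u} [CommRing R] [CommRing S] [CommRing T]
  [Algebra k R] [Algebra k S] [Algebra k T] [Algebra.FiniteType k R] [Algebra.FiniteType k S]
  {𝒜 : ℤ → Submodule k R} [GradedAlgebra 𝒜] {ℬ : ℤ → Submodule k S} [GradedAlgebra ℬ]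
  {𝒯 : ℤ → Submodule k T} [GradedAlgebra 𝒯] {ψ : T →ₐ[k] R ⊗[k] S}
  {M N P : Type u} [AddCommGroup M] [Module R M] [Module k M] [IsScalarTower k R M] [Module.Finite R M]
  [AddCommGroup N] [Module S N] [Module k N] [IsScalarTower k S N] [Module.Finite S N]
  [AddCommGroup P] [Module T P] [Module k P] [IsScalarTower k T P]
  {σM σN σQ : Type u} [SetLike σM M] [AddSubgroupClass σM M] [SetLike σN N] [AddSubgroupClass σN N]
  [SetLike σQ P] [AddSubgroupClass σQ P]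
  {ℳ : ℤ → σM} [Decomposition ℳ] [SetLike.GradedSMul 𝒜 ℳ]
  {𝒩 : ℤ → σN} [Decomposition 𝒩] [SetLike.GradedSMul ℬ 𝒩]
  {𝒬 : ℤ → σQ} [Decomposition 𝒬] {φ : P →ₗ[k] M ⊗[k] N}

/-- a nonzero Segre product has two nonzero factors in one degree -/
theorem exists_pair [Nontrivial P] (hP : GrSeg.IsSegreMod ψ ℳ 𝒩 𝒬 φ) :
    ∃ n, (∃ m ∈ ℳ n, m ≠ 0) ∧ ∃ m' ∈ 𝒩 n, m' ≠ 0 := by
  by_contra hc
  push Not at hc
  obtain ⟨p, hp⟩ := exists_ne (0 : P)
  refine hp (hP.injective ?_)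
  rw [map_zero]
  clear hp
  induction p using DirectSum.Decomposition.inductionOn 𝒬 with
  | zero => exact map_zero φ
  | add a b ha hb => rw [map_add, ha, hb, add_zero]
  | homogeneous q =>
    have h := Seg.phi_mem_piece hP q.2
    generalize φ (q : P) = w at h ⊢
    induction h using Submodule.span_induction with
    | zero => rfl
    | add x y _ _ hx hy => rw [hx, hy, add_zero]
    | smul a x _ hx => rw [hx, smul_zero]
    | mem x hx =>
      obtain ⟨a, ha, b, hb, rfl⟩ := hx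
      by_cases h : a = 0
      · rw [h, TensorProduct.zero_tmul]
      · rw [hc _ ⟨a, ha, h⟩ b hb, TensorProduct.tmul_zero]

theorem supportDim_segre_cm (hposR : ∀ n : ℤ, n < 0 → 𝒜 n = ⊥) (h0R : 𝒜 0 = Submodule.span k {(1 : R)})
    (hposS : ∀ n : ℤ, n < 0 → ℬ n = ⊥) (h0S : ℬ 0 = Submodule.span k {(1 : S)})
    (hT : GrSeg.IsSegreRing 𝒜 ℬ 𝒯 ψ) (hP : GrSeg.IsSegreMod ψ ℳ 𝒩 𝒬 φ) [Nontrivial P] {r s : ℕ}
    (h1r : 1 ≤ r) (h1s : 1 ≤ s) (hdM : Module.supportDim R M = r) (hdN : Module.supportDim S N = s)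
    (hMcm : CMCrit.CMAll R M) (hNcm : CMCrit.CMAll S N) :
    Module.supportDim T P = ((r + s - 1 : ℕ) : WithBot ℕ∞) := by
  haveI := Algebra.FiniteType.isNoetherianRing k R
  haveI := Algebra.FiniteType.isNoetherianRing k S
  obtain ⟨n, ⟨m, hm, hm0⟩, m', hm', hm'0⟩ := exists_pair hP
  haveI : Nontrivial M := ⟨⟨m, 0, hm0⟩⟩
  haveI : Nontrivial N := ⟨⟨m', 0, hm'0⟩⟩
  obtain ⟨r, rfl⟩ : ∃ r', r = r' + 1 := ⟨r - 1, by omega⟩
  obtain ⟨s, rfl⟩ : ∃ s', s = s' + 1 := ⟨s - 1, by omega⟩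
  obtain ⟨DR, hDR, hR⟩ := Seg.exists_normalization hposR h0R _
    (Seg.annihilator_homogeneous (ℳ := ℳ)) (r + 1)
    ((Module.supportDim_eq_ringKrullDim_quotient_annihilator R M).symm.trans hdM)
  obtain ⟨DS, hDS, hS⟩ := Seg.exists_normalization hposS h0S _
    (Seg.annihilator_homogeneous (ℳ := 𝒩)) (s + 1)
    ((Module.supportDim_eq_ringKrullDim_quotient_annihilator S N).symm.trans hdN)
  have hD : 0 < DR * DS := Nat.mul_pos hDR hDS
  obtain ⟨x, hx, hxfin, -⟩ := hR (DR * DS) hD (dvd_mul_right _ _)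
  obtain ⟨y, hy, hyfin, -⟩ := hS (DR * DS) hD (dvd_mul_left _ _)
  obtain ⟨GM, hGM⟩ := Seg.exists_gen (ℳ := ℳ) hposR x hD hx _ hxfin
    (⊥ : Submodule R M) (fun n z hz => by simp [(Submodule.mem_bot R).1 hz])
    (le_bot_iff.2 (Submodule.annihilator_smul (⊤ : Submodule R M) ▸ by rw [Submodule.annihilator_top]))
  obtain ⟨GN, hGN⟩ := Seg.exists_gen (ℳ := 𝒩) hposS y hD hy _ hyfin
    (⊥ : Submodule S N) (fun n z hz => by simp [(Submodule.mem_bot S).1 hz])
    (le_bot_iff.2 (Submodule.annihilator_smul (⊤ : Submodule S N) ▸ by rw [Submodule.annihilator_top]))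
  rw [Seg.supportDim_segre hT hP x y hD hx hy GM (by simpa using hGM) GN (by simpa using hGN) hm hm'
    (fun p hp => torsionfree_normalization ℳ hposR h0R hdM hMcm x hD hx hxfin hm0 p hp)
    (fun p hp => torsionfree_normalization 𝒩 hposS h0S hdN hNcm y hD hy hyfin hm'0 p hp)]
  congr 2

end Groth.Agent.GrSeg54
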