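import Groth.Agent.GrSeg54.SegObj
import Groth.Agent.GrMod19.Reg

/-!
Comparison of a presented Segre product of modules with the functorial one.
-/

set_option autoImplicit false

universe u

open scoped TensorProduct
open DirectSum GrLC

namespace Groth.Agent.GrSeg54

open Groth.Agent.CAlg6

variable {k : Type u} [Field k] {R S T : Type u} [CommRing R] [CommRing S] [CommRing T]
  [Algebra k R] [Algebra k S] [Algebra k T]
  {𝒜 : ℤ → Submodule k R} [GradedAlgebra 𝒜] {ℬ : ℤ → Submodule k S} [GradedAlgebra ℬ]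
  {𝒯 : ℤ → Submodule k T} [GradedAlgebra 𝒯] {ψ : T →ₐ[k] R ⊗[k] S}
  {M N P : Type u} [AddCommGroup M] [Module R M] [Module k M] [IsScalarTower k R M]
  [AddCommGroup N] [Module S N] [Module k N] [IsScalarTower k S N]
  [AddCommGroup P] [Module T P] [Module k P] [IsScalarTower k T P]
  {σM σN σQ : Type u} [SetLike σM M] [AddSubgroupClass σM M] [SetLike σN N] [AddSubgroupClass σN N]
  [SetLike σQ P] [AddSubgroupClass σQ P]
  {ℳ : ℤ → σM} [Decomposition ℳ] [SetLike.GradedSMul 𝒜 ℳ]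
  {𝒩 : ℤ → σN} [Decomposition 𝒩] [SetLike.GradedSMul ℬ 𝒩]
  {𝒬 : ℤ → σQ} [Decomposition 𝒬] {φ : P →ₗ[k] M ⊗[k] N}

variable (𝒜 ℳ) in
/-- the bundled module -/
noncomputable abbrev gN : GMod.{u} 𝒜 := GMod.of 𝒜 M (GrMod19.selfN ℳ)

variable (𝒜 ℳ) in
/-- the identity, between the two `k`-structures -/
noncomputable def idK : M ≃ₗ[k] (gN 𝒜 ℳ).carrier where
  toFun m := m
  invFun m := m
  left_inv _ := rfl
  right_inv _ := rfl
  map_add' _ _ := rfl
  map_smul' c m := (algebraMap_smul R c m).symm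

theorem act_tmul_congr (c : R ⊗[k] S) (w : M ⊗[k] N) :
    TensorProduct.congr (idK 𝒜 ℳ) (idK ℬ 𝒩) (GrSeg.act k R S M N c w) =
      GrSeg.act k R S (gN 𝒜 ℳ).carrier (gN ℬ 𝒩).carrier c (TensorProduct.congr (idK 𝒜 ℳ) (idK ℬ 𝒩) w) := by
  induction c using TensorProduct.induction_on with
  | zero => simp
  | add a b ha hb => simp only [map_add, LinearMap.add_apply, ha, hb]
  | tmul r s =>
    induction w using TensorProduct.induction_on with
    | zero => simp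
    | add a b ha hb => rw [map_add, map_add, map_add, map_add, ha, hb]
    | tmul a b =>
      rw [GrSeg.act_tmul, TensorProduct.congr_tmul, TensorProduct.congr_tmul, GrSeg.act_tmul]
      rfl

theorem mem_segrePiece_congr_iff (n : ℤ) (w : M ⊗[k] N) :
    TensorProduct.congr (idK 𝒜 ℳ) (idK ℬ 𝒩) w ∈ GrSeg.segrePiece k (gN 𝒜 ℳ).gr (gN ℬ 𝒩).gr n ↔
      w ∈ GrSeg.segrePiece k ℳ 𝒩 n := by
  refine ⟨fun h => ?_, fun h => ?_⟩
  · suffices H : ∀ v ∈ GrSeg.segrePiece k (gN 𝒜 ℳ).gr (gN ℬ 𝒩).gr n,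
        (TensorProduct.congr (idK 𝒜 ℳ) (idK ℬ 𝒩)).symm v ∈ GrSeg.segrePiece k ℳ 𝒩 n by
      have := H _ h
      rwa [LinearEquiv.symm_apply_apply] at this
    intro v hv
    induction hv using Submodule.span_induction with
    | zero => rw [map_zero]; exact zero_mem _
    | add x y _ _ hx hy => rw [map_add]; exact add_mem hx hy
    | smul a x _ hx => rw [map_smul]; exact Submodule.smul_mem _ _ hx
    | mem x hx =>
      obtain ⟨a, ha, b, hb, rfl⟩ := hx
      rw [TensorProduct.congr_symm_tmul]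
      exact Seg.tmul_mem_piece ℳ 𝒩 ha hb
  · induction h using Submodule.span_induction with
    | zero => rw [map_zero]; exact zero_mem _
    | add x y _ _ hx hy => rw [map_add]; exact add_mem hx hy
    | smul a x _ hx => rw [map_smul]; exact Submodule.smul_mem _ _ hx
    | mem x hx =>
      obtain ⟨a, ha, b, hb, rfl⟩ := hx
      rw [TensorProduct.congr_tmul]
      exact Seg.tmul_mem_piece (gN 𝒜 ℳ).gr (gN ℬ 𝒩).gr ha hb

theorem congr_phi_mem_diag (hP : GrSeg.IsSegreMod ψ ℳ 𝒩 𝒬 φ) (p : P) :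
    TensorProduct.congr (idK 𝒜 ℳ) (idK ℬ 𝒩) (φ p) ∈ diag (gN 𝒜 ℳ) (gN ℬ 𝒩) := by
  induction p using DirectSum.Decomposition.inductionOn 𝒬 with
  | zero => rw [map_zero, map_zero]; exact zero_mem _
  | add a b ha hb => rw [map_add, map_add]; exact add_mem ha hb
  | homogeneous q => exact piece_le_diag _ _ _ ((mem_segrePiece_congr_iff _ _).2 (Seg.phi_mem_piece hP q.2))

variable (hT : GrSeg.IsSegreRing 𝒜 ℬ 𝒯 ψ)

/-- a presented Segre product is the functorial one -/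
theorem exists_segEquiv (hP : GrSeg.IsSegreMod ψ ℳ 𝒩 𝒬 φ) :
    ∃ e : P ≃ₗ[T] (segG (gN 𝒜 ℳ) (gN ℬ 𝒩) hT).carrier,
      IsGrHom 𝒬 (segG (gN 𝒜 ℳ) (gN ℬ 𝒩) hT).gr e.toLinearMap ∧
        IsGrHom (segG (gN 𝒜 ℳ) (gN ℬ 𝒩) hT).gr 𝒬 e.symm.toLinearMap := by
  choose g hg using fun p => exists_val_eq (gN 𝒜 ℳ) (gN ℬ 𝒩) hT (congr_phi_mem_diag (hP := hP) p)
  let f : P →ₗ[T] (segG (gN 𝒜 ℳ) (gN ℬ 𝒩) hT).carrier :=
    { toFun := g
      map_add' := fun p q => val_injective _ _ hT (by rw [map_add, hg, hg, hg, map_add, map_add])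
      map_smul' := fun t p => val_injective _ _ hT (by
        rw [RingHom.id_apply, val_smul, hg, hg, hP.map_smul, act_tmul_congr]) }
  have hgr : ∀ n p, p ∈ 𝒬 n → g p ∈ (segG (gN 𝒜 ℳ) (gN ℬ 𝒩) hT).gr n := fun n p hp => by
    rw [mem_gr_iff, hg]
    exact (mem_segrePiece_congr_iff n _).2 (Seg.phi_mem_piece hP hp)
  have hinj : Function.Injective g := fun p q h => hP.injective
    ((TensorProduct.congr (idK 𝒜 ℳ) (idK ℬ 𝒩)).injective (by rw [← hg, ← hg, h]))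
  have hsurj : ∀ n, ∀ w ∈ (segG (gN 𝒜 ℳ) (gN ℬ 𝒩) hT).gr n, ∃ p ∈ 𝒬 n, g p = w := fun n w hw => by
    obtain ⟨u, hu⟩ := (TensorProduct.congr (idK 𝒜 ℳ) (idK ℬ 𝒩)).surjective (val (gN 𝒜 ℳ) (gN ℬ 𝒩) hT w)
    rw [mem_gr_iff, ← hu, mem_segrePiece_congr_iff] at hw
    obtain ⟨p, hp, hpu⟩ := Seg.exists_phi_eq hP hw
    exact ⟨p, hp, val_injective _ _ hT (by rw [hg, hpu, hu])⟩
  have hs : Function.Surjective f := fun w => by
    obtain ⟨t, ht⟩ := GrMod19.exists_sum_cmp (segG (gN 𝒜 ℳ) (gN ℬ 𝒩) hT).gr w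
    rw [← LinearMap.mem_range, ← ht]
    exact sum_mem fun n _ => by
      obtain ⟨p, -, hp⟩ := hsurj n _ (GrMod19.cmp_mem (segG (gN 𝒜 ℳ) (gN ℬ 𝒩) hT).gr n w)
      exact ⟨p, hp⟩
  refine ⟨LinearEquiv.ofBijective f ⟨hinj, hs⟩, hgr, fun n w hw => ?_⟩
  obtain ⟨p, hp, rfl⟩ := hsurj n w hw
  have : (LinearEquiv.ofBijective f ⟨hinj, hs⟩).symm (g p) = p :=
    (LinearEquiv.ofBijective f ⟨hinj, hs⟩).symm_apply_apply p
  show (LinearEquiv.ofBijective f ⟨hinj, hs⟩).symm (g p) ∈ 𝒬 n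
  rwa [this]

include hT in

/-- a presented Segre product is a graded module -/
theorem gradedSMul_segre (hP : GrSeg.IsSegreMod ψ ℳ 𝒩 𝒬 φ) : SetLike.GradedSMul 𝒯 𝒬 := by
  refine ⟨fun {i j} t p ht hp => ?_⟩
  have hmem : GrSeg.act k R S M N (ψ t) (φ p) ∈ GrSeg.segrePiece k ℳ 𝒩 (i + j) := by
    have hc := Seg.psi_mem_piece hT ht
    have hw := Seg.phi_mem_piece hP hp
    generalize ψ t = c at hc ⊢
    generalize φ p = w at hw ⊢
    induction hc using Submodule.span_induction with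
    | zero => rw [map_zero, LinearMap.zero_apply]; exact zero_mem _
    | add x y _ _ hx hy => rw [map_add, LinearMap.add_apply]; exact add_mem hx hy
    | smul a x _ hx => rw [map_smul, LinearMap.smul_apply]; exact Submodule.smul_mem _ _ hx
    | mem x hx =>
      obtain ⟨a, ha, b, hb, rfl⟩ := hx
      induction hw using Submodule.span_induction with
      | zero => rw [map_zero]; exact zero_mem _
      | add x y _ _ hx hy => rw [map_add]; exact add_mem hx hy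
      | smul a' x _ hx => rw [map_smul]; exact Submodule.smul_mem _ _ hx
      | mem y hy =>
        obtain ⟨m, hm, m', hm', rfl⟩ := hy
        rw [GrSeg.act_tmul]
        exact Seg.tmul_mem_piece ℳ 𝒩 (GrMod19.smul_mem_add 𝒜 ℳ ha hm) (GrMod19.smul_mem_add ℬ 𝒩 hb hm')
  rw [← hP.map_smul] at hmem
  obtain ⟨q, hq, hqe⟩ := Seg.exists_phi_eq hP hmem
  rw [← hP.injective hqe]
  exact hq

end Groth.Agent.GrSeg54
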