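import Groth.Agent.GrSeg54.Punct
import Groth.Agent.CAlg6.SegCore

/-!
The Segre product as a functor on bundled graded modules, its exactness, and the vanishing of the
local cohomology of Segre products of torsion-free *injectives.
-/

set_option autoImplicit false

universe u

open scoped TensorProduct
open DirectSum GrLC

namespace Groth.Agent.GrSeg54

open Groth.Agent.CAlg6

variable {k : Type u} [Field k] {R S T : Type u} [CommRing R] [CommRing S] [CommRing T]
  [Algebra k R] [Algebra k S] [Algebra k T]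
  {𝒜 : ℤ → Submodule k R} [GradedAlgebra 𝒜] {ℬ : ℤ → Submodule k S} [GradedAlgebra ℬ]
  {𝒯 : ℤ → Submodule k T} [GradedAlgebra 𝒯] {ψ : T →ₐ[k] R ⊗[k] S}

/-- a graded module over a `k`-algebra is a `k`-vector space -/
noncomputable instance modK (X : GMod.{u} 𝒜) : Module k X.carrier := Module.compHom X.carrier (algebraMap k R)

instance towerK (X : GMod.{u} 𝒜) : IsScalarTower k R X.carrier :=
  IsScalarTower.of_algebraMap_smul fun _ _ => rfl

/-- the component of degree `n`, as a `k`-linear map -/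
noncomputable abbrev prK (X : GMod.{u} 𝒜) (n : ℤ) : X.carrier →ₗ[k] X.carrier := Seg.prj 𝒜 X.gr n

/-- a homogeneous map as a `k`-linear map -/
noncomputable abbrev linK {X X' : GMod.{u} 𝒜} (f : X.carrier →ₗ[R] X'.carrier) : X.carrier →ₗ[k] X'.carrier :=
  f.restrictScalars k

variable (X : GMod.{u} 𝒜) (Y : GMod.{u} ℬ)

/-- the diagonal part of `X ⊗ Y` -/
noncomputable def diag : Submodule k (X.carrier ⊗[k] Y.carrier) := ⨆ n, GrSeg.segrePiece k X.gr Y.gr n

theorem piece_le_diag (n : ℤ) : GrSeg.segrePiece k X.gr Y.gr n ≤ diag X Y :=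
  le_iSup (fun n => GrSeg.segrePiece k X.gr Y.gr n) n

theorem dg_mem_diag {π : X.carrier ⊗[k] Y.carrier →ₗ[k] X.carrier ⊗[k] Y.carrier} (hπ : Seg.IsDg X.gr Y.gr π)
    (u : X.carrier ⊗[k] Y.carrier) : π u ∈ diag X Y := by
  induction u using Seg.tmul_induction X.gr Y.gr with
  | h0 => rw [map_zero]; exact zero_mem _
  | hadd u v hu hv => rw [map_add]; exact add_mem hu hv
  | h i j a b ha hb =>
    rcases eq_or_ne i j with rfl | h
    · rw [hπ.same i a b ha hb]
      exact piece_le_diag X Y i (Seg.tmul_mem_piece X.gr Y.gr ha hb)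
    · rw [hπ.ne i j a b ha hb h]
      exact zero_mem _

theorem dg_fix {π : X.carrier ⊗[k] Y.carrier →ₗ[k] X.carrier ⊗[k] Y.carrier} (hπ : Seg.IsDg X.gr Y.gr π)
    {w : X.carrier ⊗[k] Y.carrier} (hw : w ∈ diag X Y) : π w = w := by
  induction hw using Submodule.iSup_induction' with
  | mem n x hx => exact hπ.fix hx
  | zero => exact map_zero π
  | add x y _ _ hx hy => rw [map_add, hx, hy]

theorem map_prK_of_mem {n : ℤ} {w : X.carrier ⊗[k] Y.carrier} (hw : w ∈ GrSeg.segrePiece k X.gr Y.gr n) (m : ℤ) :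
    TensorProduct.map (prK X m) (prK Y m) w = if n = m then w else 0 := by
  induction hw using Submodule.span_induction with
  | zero => simp
  | add x y _ _ hx hy => rw [map_add, hx, hy]; split_ifs <;> simp
  | smul c x _ hx => rw [map_smul, hx]; split_ifs <;> simp
  | mem x hx =>
    obtain ⟨a, ha, b, hb, rfl⟩ := hx
    rw [TensorProduct.map_tmul]
    split_ifs with h
    · subst h
      rw [prK, prK, Seg.prj_of_mem 𝒜 X.gr ha, Seg.prj_of_mem ℬ Y.gr hb]
    · rw [prK, Seg.prj_of_ne 𝒜 X.gr ha h, TensorProduct.zero_tmul]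

theorem map_prK_mem (m : ℤ) (w : X.carrier ⊗[k] Y.carrier) :
    TensorProduct.map (prK X m) (prK Y m) w ∈ GrSeg.segrePiece k X.gr Y.gr m := by
  induction w using TensorProduct.induction_on with
  | zero => rw [map_zero]; exact zero_mem _
  | add a b ha hb => rw [map_add]; exact add_mem ha hb
  | tmul a b =>
    rw [TensorProduct.map_tmul]
    exact Seg.tmul_mem_piece X.gr Y.gr (Seg.prj_mem 𝒜 X.gr m a) (Seg.prj_mem ℬ Y.gr m b)

theorem act_mem_piece {p n : ℤ} {c : R ⊗[k] S} (hc : c ∈ GrSeg.segrePiece k 𝒜 ℬ p)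
    {w : X.carrier ⊗[k] Y.carrier} (hw : w ∈ GrSeg.segrePiece k X.gr Y.gr n) :
    GrSeg.act k R S X.carrier Y.carrier c w ∈ GrSeg.segrePiece k X.gr Y.gr (p + n) := by
  induction hc using Submodule.span_induction with
  | zero => rw [map_zero]; exact zero_mem _
  | add x y _ _ hx hy => rw [map_add, LinearMap.add_apply]; exact add_mem hx hy
  | smul a x _ hx => rw [map_smul, LinearMap.smul_apply]; exact Submodule.smul_mem _ _ hx
  | mem x hx =>
    obtain ⟨a, ha, b, hb, rfl⟩ := hx
    induction hw using Submodule.span_induction with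
    | zero => rw [map_zero]; exact zero_mem _
    | add x y _ _ hx hy => rw [map_add]; exact add_mem hx hy
    | smul a' x _ hx => rw [map_smul]; exact Submodule.smul_mem _ _ hx
    | mem y hy =>
      obtain ⟨m, hm, m', hm', rfl⟩ := hy
      rw [GrSeg.act_tmul]
      refine Seg.tmul_mem_piece X.gr Y.gr ?_ ?_
      · simpa [vadd_eq_add] using SetLike.GradedSMul.smul_mem ha hm
      · simpa [vadd_eq_add] using SetLike.GradedSMul.smul_mem hb hm'

variable (hT : GrSeg.IsSegreRing 𝒜 ℬ 𝒯 ψ)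

include hT in
theorem act_mem_diag (t : T) {w : X.carrier ⊗[k] Y.carrier} (hw : w ∈ diag X Y) :
    GrSeg.act k R S X.carrier Y.carrier (ψ t) w ∈ diag X Y := by
  induction t using DirectSum.Decomposition.inductionOn 𝒯 with
  | zero => rw [map_zero, map_zero, LinearMap.zero_apply]; exact zero_mem _
  | add a b ha hb => rw [map_add, map_add, LinearMap.add_apply]; exact add_mem ha hb
  | @homogeneous p q =>
    induction hw using Submodule.iSup_induction' with
    | mem n x hx => exact piece_le_diag X Y _ (act_mem_piece X Y (Seg.psi_mem_piece hT q.2) hx)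
    | zero => rw [map_zero]; exact zero_mem _
    | add x y _ _ hx hy => rw [map_add]; exact add_mem hx hy

/-- the action of `T` on the diagonal part -/
@[reducible]
noncomputable def segModule : Module T (diag X Y) where
  smul t w := ⟨GrSeg.act k R S X.carrier Y.carrier (ψ t) w.1, act_mem_diag X Y hT t w.2⟩
  one_smul w := Subtype.ext (by
    show GrSeg.act k R S X.carrier Y.carrier (ψ 1) w.1 = w.1
    rw [map_one, Seg.act_one])
  mul_smul s t w := Subtype.ext (by
    show GrSeg.act k R S X.carrier Y.carrier (ψ (s * t)) w.1 = _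
    rw [map_mul, Seg.act_mul]
    rfl)
  smul_zero t := Subtype.ext (map_zero _)
  smul_add t v w := Subtype.ext (map_add _ v.1 w.1)
  add_smul s t w := Subtype.ext (by
    show GrSeg.act k R S X.carrier Y.carrier (ψ (s + t)) w.1 = _
    rw [map_add, map_add]
    rfl)
  zero_smul w := Subtype.ext (by
    show GrSeg.act k R S X.carrier Y.carrier (ψ 0) w.1 = _
    rw [map_zero, map_zero]
    rfl)

/-- the pieces of the diagonal part -/
noncomputable abbrev segGr (n : ℤ) : AddSubgroup (diag X Y) :=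
  (GrSeg.segrePiece k X.gr Y.gr n).toAddSubgroup.comap (diag X Y).subtype.toAddMonoidHom

theorem segGr_isInternal : IsInternal (segGr X Y) := by
  let c : ℤ → (diag X Y) →+ (diag X Y) := fun n =>
    (((TensorProduct.map (prK X n) (prK Y n)) ∘ₗ (diag X Y).subtype).codRestrict (diag X Y) fun w =>
      piece_le_diag X Y n (map_prK_mem X Y n w.1)).toAddMonoidHom
  refine GrInj18.isInternal_of_proj _ c (fun n w => map_prK_mem X Y n w.1) ?_ (fun n w hw => Subtype.ext ?_)
    (fun n m w hw h => Subtype.ext ?_)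
  · rintro ⟨w, hw⟩
    classical
    obtain ⟨f, hf, rfl⟩ := (Submodule.mem_iSup_iff_exists_finsupp _ _).1 hw
    refine ⟨f.support, Subtype.ext ?_⟩
    rw [AddSubmonoidClass.coe_finsetSum]
    refine Finset.sum_congr rfl fun m hm => ?_
    show TensorProduct.map (prK X m) (prK Y m) (∑ n ∈ f.support, f n) = f m
    rw [map_sum, Finset.sum_congr rfl fun n _ => map_prK_of_mem X Y (hf n) m, Finset.sum_ite_eq', if_pos hm]
  · exact (map_prK_of_mem X Y hw n).trans (if_pos rfl)
  · exact (map_prK_of_mem X Y hw m).trans (if_neg h)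

/-- the Segre product of two graded modules -/
noncomputable def segG : GMod.{u} 𝒯 :=
  letI := segModule X Y hT
  { carrier := diag X Y
    gr := segGr X Y
    dec := (segGr_isInternal X Y).chooseDecomposition
    gsmul := ⟨fun {i j} t w ht hw => act_mem_piece X Y (Seg.psi_mem_piece hT ht) hw⟩ }

/-- the inclusion into the tensor product -/
noncomputable def val : (segG X Y hT).carrier →ₗ[k] X.carrier ⊗[k] Y.carrier where
  toFun w := (show diag X Y from w).1
  map_add' _ _ := rfl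
  map_smul' c w := by
    show GrSeg.act k R S X.carrier Y.carrier (ψ (algebraMap k T c)) _ = c • _
    rw [AlgHom.commutes, Algebra.algebraMap_eq_smul_one, map_smul, LinearMap.smul_apply, Seg.act_one]

theorem val_injective : Function.Injective (val X Y hT) := Subtype.val_injective

theorem val_mem_diag (w : (segG X Y hT).carrier) : val X Y hT w ∈ diag X Y := (show diag X Y from w).2

theorem mem_gr_iff {n : ℤ} {w : (segG X Y hT).carrier} :
    w ∈ (segG X Y hT).gr n ↔ val X Y hT w ∈ GrSeg.segrePiece k X.gr Y.gr n := Iff.rfl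

theorem val_smul (t : T) (w : (segG X Y hT).carrier) :
    val X Y hT (t • w) = GrSeg.act k R S X.carrier Y.carrier (ψ t) (val X Y hT w) := rfl

theorem exists_val_eq {w : X.carrier ⊗[k] Y.carrier} (hw : w ∈ diag X Y) : ∃ v, val X Y hT v = w :=
  ⟨(⟨w, hw⟩ : diag X Y), rfl⟩

theorem exists_val_piece {n : ℤ} {w : X.carrier ⊗[k] Y.carrier} (hw : w ∈ GrSeg.segrePiece k X.gr Y.gr n) :
    ∃ v ∈ (segG X Y hT).gr n, val X Y hT v = w :=
  ⟨(⟨w, piece_le_diag X Y n hw⟩ : diag X Y), hw, rfl⟩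

theorem segrePiece_map {X' : GMod.{u} 𝒜} {Y' : GMod.{u} ℬ} {f : X.carrier →ₗ[R] X'.carrier}
    {g : Y.carrier →ₗ[S] Y'.carrier} (hf : IsGrHom X.gr X'.gr f) (hg : IsGrHom Y.gr Y'.gr g) {n : ℤ}
    {w : X.carrier ⊗[k] Y.carrier} (hw : w ∈ GrSeg.segrePiece k X.gr Y.gr n) :
    TensorProduct.map (linK f) (linK g) w ∈ GrSeg.segrePiece k X'.gr Y'.gr n := by
  induction hw using Submodule.span_induction with
  | zero => rw [map_zero]; exact zero_mem _
  | add x y _ _ hx hy => rw [map_add]; exact add_mem hx hy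
  | smul a x _ hx => rw [map_smul]; exact Submodule.smul_mem _ _ hx
  | mem x hx =>
    obtain ⟨a, ha, b, hb, rfl⟩ := hx
    rw [TensorProduct.map_tmul]
    exact Seg.tmul_mem_piece X'.gr Y'.gr (hf n a ha) (hg n b hb)

theorem act_map {X' : GMod.{u} 𝒜} {Y' : GMod.{u} ℬ} (f : X.carrier →ₗ[R] X'.carrier)
    (g : Y.carrier →ₗ[S] Y'.carrier) (c : R ⊗[k] S) (w : X.carrier ⊗[k] Y.carrier) :
    TensorProduct.map (linK f) (linK g) (GrSeg.act k R S X.carrier Y.carrier c w) =
      GrSeg.act k R S X'.carrier Y'.carrier c (TensorProduct.map (linK f) (linK g) w) := by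
  induction c using TensorProduct.induction_on with
  | zero => simp
  | add a b ha hb => simp [map_add, LinearMap.add_apply, ha, hb]
  | tmul r s =>
    induction w using TensorProduct.induction_on with
    | zero => simp
    | add a b ha hb => rw [map_add, map_add, map_add, map_add, ha, hb]
    | tmul a b => simp [GrSeg.act_tmul, map_smul]

theorem map_mem_diag {X' : GMod.{u} 𝒜} {Y' : GMod.{u} ℬ} {f : X.carrier →ₗ[R] X'.carrier}
    {g : Y.carrier →ₗ[S] Y'.carrier} (hf : IsGrHom X.gr X'.gr f) (hg : IsGrHom Y.gr Y'.gr g)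
    {w : X.carrier ⊗[k] Y.carrier} (hw : w ∈ diag X Y) :
    TensorProduct.map (linK f) (linK g) w ∈ diag X' Y' := by
  induction hw using Submodule.iSup_induction' with
  | mem n x hx => exact piece_le_diag X' Y' n (segrePiece_map X Y hf hg hx)
  | zero => rw [map_zero]; exact zero_mem _
  | add x y _ _ hx hy => rw [map_add]; exact add_mem hx hy

/-- functoriality of the Segre product -/
noncomputable def segMap {X' : GMod.{u} 𝒜} {Y' : GMod.{u} ℬ} (f : X.carrier →ₗ[R] X'.carrier)
    (g : Y.carrier →ₗ[S] Y'.carrier) (hf : IsGrHom X.gr X'.gr f) (hg : IsGrHom Y.gr Y'.gr g) :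
    (segG X Y hT).carrier →ₗ[T] (segG X' Y' hT).carrier where
  toFun w := (⟨TensorProduct.map (linK f) (linK g) (val X Y hT w),
    map_mem_diag X Y hf hg (val_mem_diag X Y hT w)⟩ : diag X' Y')
  map_add' v w := Subtype.ext (by
    show TensorProduct.map (linK f) (linK g) (val X Y hT (v + w)) = _
    rw [map_add, map_add]
    rfl)
  map_smul' t w := Subtype.ext (act_map X Y f g (ψ t) (val X Y hT w))

theorem val_segMap {X' : GMod.{u} 𝒜} {Y' : GMod.{u} ℬ} (f : X.carrier →ₗ[R] X'.carrier)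
    (g : Y.carrier →ₗ[S] Y'.carrier) (hf : IsGrHom X.gr X'.gr f) (hg : IsGrHom Y.gr Y'.gr g)
    (w : (segG X Y hT).carrier) :
    val X' Y' hT (segMap X Y hT f g hf hg w) = TensorProduct.map (linK f) (linK g) (val X Y hT w) := rfl

theorem segMap_gr {X' : GMod.{u} 𝒜} {Y' : GMod.{u} ℬ} (f : X.carrier →ₗ[R] X'.carrier)
    (g : Y.carrier →ₗ[S] Y'.carrier) (hf : IsGrHom X.gr X'.gr f) (hg : IsGrHom Y.gr Y'.gr g) :
    IsGrHom (segG X Y hT).gr (segG X' Y' hT).gr (segMap X Y hT f g hf hg) :=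
  fun _ _ hw => segrePiece_map X Y hf hg hw

theorem segMap_injective {X' : GMod.{u} 𝒜} {Y' : GMod.{u} ℬ} {f : X.carrier →ₗ[R] X'.carrier}
    {g : Y.carrier →ₗ[S] Y'.carrier} (hf : IsGrHom X.gr X'.gr f) (hg : IsGrHom Y.gr Y'.gr g)
    (hfi : Function.Injective f) (hgi : Function.Injective g) :
    Function.Injective (segMap X Y hT f g hf hg) := by
  obtain ⟨p, hp⟩ := (linK f).exists_leftInverse_of_injective (LinearMap.ker_eq_bot.2 hfi)
  obtain ⟨q, hq⟩ := (linK g).exists_leftInverse_of_injective (LinearMap.ker_eq_bot.2 hgi)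
  intro v w h
  refine val_injective X Y hT ?_
  have h1 := congrArg (TensorProduct.map p q) (congrArg (val X' Y' hT) h)
  have key : ∀ u, TensorProduct.map p q (TensorProduct.map (linK f) (linK g) u) = u := fun u => by
    rw [← LinearMap.comp_apply, ← TensorProduct.map_comp, hp, hq, TensorProduct.map_id, LinearMap.id_apply]
  rwa [val_segMap, val_segMap, key, key] at h1

theorem dg_map {X' : GMod.{u} 𝒜} {Y' : GMod.{u} ℬ} {f : X.carrier →ₗ[R] X'.carrier}
    {g : Y.carrier →ₗ[S] Y'.carrier} (hf : IsGrHom X.gr X'.gr f) (hg : IsGrHom Y.gr Y'.gr g)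
    {π : X.carrier ⊗[k] Y.carrier →ₗ[k] X.carrier ⊗[k] Y.carrier} (hπ : Seg.IsDg X.gr Y.gr π)
    {π' : X'.carrier ⊗[k] Y'.carrier →ₗ[k] X'.carrier ⊗[k] Y'.carrier} (hπ' : Seg.IsDg X'.gr Y'.gr π')
    (u : X.carrier ⊗[k] Y.carrier) :
    π' (TensorProduct.map (linK f) (linK g) u) = TensorProduct.map (linK f) (linK g) (π u) := by
  induction u using Seg.tmul_induction X.gr Y.gr with
  | h0 => simp
  | hadd u v hu hv => simp [map_add, hu, hv]
  | h i j a b ha hb =>
    rw [TensorProduct.map_tmul]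
    rcases eq_or_ne i j with rfl | h
    · rw [hπ.same i a b ha hb, TensorProduct.map_tmul]
      exact hπ'.same i (f a) (g b) (hf i a ha) (hg i b hb)
    · rw [hπ.ne i j a b ha hb h, map_zero]
      exact hπ'.ne i j (f a) (g b) (hf i a ha) (hg j b hb) h

theorem segMap_surjective {X' : GMod.{u} 𝒜} {Y' : GMod.{u} ℬ} {f : X.carrier →ₗ[R] X'.carrier}
    {g : Y.carrier →ₗ[S] Y'.carrier} (hf : IsGrHom X.gr X'.gr f) (hg : IsGrHom Y.gr Y'.gr g)
    (hfs : Function.Surjective f) (hgs : Function.Surjective g) :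
    Function.Surjective (segMap X Y hT f g hf hg) := by
  intro w
  obtain ⟨π, hπ⟩ := Seg.exists_dg 𝒜 ℬ X.gr Y.gr
  obtain ⟨π', hπ'⟩ := Seg.exists_dg 𝒜 ℬ X'.gr Y'.gr
  obtain ⟨u, hu⟩ := TensorProduct.map_surjective (g := linK f) (g' := linK g) hfs hgs (val X' Y' hT w)
  obtain ⟨v, hv⟩ := exists_val_eq X Y hT (dg_mem_diag X Y hπ u)
  refine ⟨v, val_injective X' Y' hT ?_⟩
  rw [val_segMap, hv, ← dg_map X Y hf hg hπ hπ' u, hu, dg_fix X' Y' hπ' (val_mem_diag X' Y' hT w)]

/-- exactness in the first variable -/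
theorem ses_left {X₁ X₂ X₃ : GMod.{u} 𝒜} {f : X₁.carrier →ₗ[R] X₂.carrier} {g : X₂.carrier →ₗ[R] X₃.carrier}
    (S' : GrMod19.Ses X₁.gr X₂.gr X₃.gr f g 0) (Y : GMod.{u} ℬ) :
    GrMod19.Ses (segG X₁ Y hT).gr (segG X₂ Y hT).gr (segG X₃ Y hT).gr
      (segMap X₁ Y hT f LinearMap.id (GrMod19.isGrHomDeg_zero_iff.1 S'.hf) fun _ _ h => h)
      (segMap X₂ Y hT g LinearMap.id S'.hg fun _ _ h => h) 0 where
  hf := GrMod19.isGrHomDeg_zero_iff.2 (segMap_gr _ _ hT _ _ _ _)
  hg := segMap_gr _ _ hT _ _ _ _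
  inj := segMap_injective _ _ hT _ _ S'.inj Function.injective_id
  surj := segMap_surjective _ _ hT _ _ S'.surj Function.surjective_id
  exact w := by
    have hex : Function.Exact (LinearMap.rTensor Y.carrier (linK f)) (LinearMap.rTensor Y.carrier (linK g)) :=
      rTensor_exact Y.carrier (show Function.Exact (linK f) (linK g) from S'.exact) S'.surj
    constructor
    · intro h
      obtain ⟨π, hπ⟩ := Seg.exists_dg 𝒜 ℬ X₁.gr Y.gr
      obtain ⟨π', hπ'⟩ := Seg.exists_dg 𝒜 ℬ X₂.gr Y.gr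
      obtain ⟨u, hu⟩ := (hex (val X₂ Y hT w)).1 (congrArg (val X₃ Y hT) h)
      obtain ⟨v, hv⟩ := exists_val_eq X₁ Y hT (dg_mem_diag X₁ Y hπ u)
      refine ⟨v, val_injective X₂ Y hT ?_⟩
      rw [val_segMap, hv,
        ← dg_map X₁ Y (GrMod19.isGrHomDeg_zero_iff.1 S'.hf) (g := LinearMap.id) (fun _ _ h => h) hπ hπ' u]
      exact (congrArg π' hu).trans (dg_fix X₂ Y hπ' (val_mem_diag X₂ Y hT w))
    · rintro ⟨v, rfl⟩
      exact val_injective X₃ Y hT ((hex _).2 ⟨val X₁ Y hT v, rfl⟩)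

/-- exactness in the second variable -/
theorem ses_right {Y₁ Y₂ Y₃ : GMod.{u} ℬ} {f : Y₁.carrier →ₗ[S] Y₂.carrier} {g : Y₂.carrier →ₗ[S] Y₃.carrier}
    (S' : GrMod19.Ses Y₁.gr Y₂.gr Y₃.gr f g 0) (X : GMod.{u} 𝒜) :
    GrMod19.Ses (segG X Y₁ hT).gr (segG X Y₂ hT).gr (segG X Y₃ hT).gr
      (segMap X Y₁ hT LinearMap.id f (fun _ _ h => h) (GrMod19.isGrHomDeg_zero_iff.1 S'.hf))
      (segMap X Y₂ hT LinearMap.id g (fun _ _ h => h) S'.hg) 0 where
  hf := GrMod19.isGrHomDeg_zero_iff.2 (segMap_gr _ _ hT _ _ _ _)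
  hg := segMap_gr _ _ hT _ _ _ _
  inj := segMap_injective _ _ hT _ _ Function.injective_id S'.inj
  surj := segMap_surjective _ _ hT _ _ Function.surjective_id S'.surj
  exact w := by
    have hex : Function.Exact (LinearMap.lTensor X.carrier (linK f)) (LinearMap.lTensor X.carrier (linK g)) :=
      lTensor_exact X.carrier (show Function.Exact (linK f) (linK g) from S'.exact) S'.surj
    constructor
    · intro h
      obtain ⟨π, hπ⟩ := Seg.exists_dg 𝒜 ℬ X.gr Y₁.gr
      obtain ⟨π', hπ'⟩ := Seg.exists_dg 𝒜 ℬ X.gr Y₂.gr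
      obtain ⟨u, hu⟩ := (hex (val X Y₂ hT w)).1 (congrArg (val X Y₃ hT) h)
      obtain ⟨v, hv⟩ := exists_val_eq X Y₁ hT (dg_mem_diag X Y₁ hπ u)
      refine ⟨v, val_injective X Y₂ hT ?_⟩
      rw [val_segMap, hv,
        ← dg_map X Y₁ (f := LinearMap.id) (fun _ _ h => h) (GrMod19.isGrHomDeg_zero_iff.1 S'.hf) hπ hπ' u]
      exact (congrArg π' hu).trans (dg_fix X Y₂ hπ' (val_mem_diag X Y₂ hT w))
    · rintro ⟨v, rfl⟩
      exact val_injective X Y₃ hT ((hex _).2 ⟨val X Y₁ hT v, rfl⟩)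

theorem subsingleton_segG (h : Subsingleton X.carrier ∨ Subsingleton Y.carrier) :
    Subsingleton (segG X Y hT).carrier := by
  refine subsingleton_of_forall_eq 0 fun w => val_injective X Y hT ?_
  rw [map_zero]
  induction val X Y hT w using TensorProduct.induction_on with
  | zero => rfl
  | add a b ha hb => rw [ha, hb, add_zero]
  | tmul a b =>
    rcases h with h | h
    · rw [Subsingleton.elim a 0, TensorProduct.zero_tmul]
    · rw [Subsingleton.elim b 0, TensorProduct.tmul_zero]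

variable {X Y} in
theorem allVan_segG_of_bijective [IsNoetherianRing T] {mT : HomogeneousIdeal 𝒯}
    (hmT : mT.toIdeal = Ideal.span (⋃ n ∈ Set.Ioi (0 : ℤ), (𝒯 n : Set T))) {p q : ℤ} (hp : 0 < p) (hq : 0 < q)
    {x : R} {y : S} (hx : x ∈ 𝒜 p) (hy : y ∈ ℬ q) (hX : Function.Bijective fun z : X.carrier => x • z)
    (hY : Function.Bijective fun z : Y.carrier => y • z) : AllVan mT.toIdeal (segG X Y hT).carrier := by
  have hx' : x ^ q.toNat ∈ 𝒜 (p * q) := by
    have h := SetLike.pow_mem_graded q.toNat hx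
    rwa [nsmul_eq_mul, Int.toNat_of_nonneg hq.le, mul_comm] at h
  have hy' : y ^ p.toNat ∈ ℬ (p * q) := by
    have h := SetLike.pow_mem_graded p.toNat hy
    rwa [nsmul_eq_mul, Int.toNat_of_nonneg hp.le] at h
  obtain ⟨t, ht, htx⟩ := Seg.exists_psi_eq_tmul hT hx' hy'
  have htm : t ∈ mT.toIdeal := by
    rw [hmT]
    exact Ideal.subset_span (Set.mem_biUnion (Set.mem_Ioi.2 (mul_pos hp hq)) ht)
  have bij : ∀ {V : Type u} [AddCommGroup V] {A : Type u} [CommRing A] [Module A V] (a : A) (n : ℕ),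
      Function.Bijective (fun z : V => a • z) → Function.Bijective (fun z : V => a ^ n • z) := by
    intro V _ A _ _ a n h
    induction n with
    | zero => exact (show (fun z : V => a ^ 0 • z) = id from funext fun z => by simp) ▸ Function.bijective_id
    | succ n ih =>
      have : (fun z : V => a ^ (n + 1) • z) = (fun z => a ^ n • z) ∘ (fun z => a • z) :=
        funext fun z => by simp [pow_succ, mul_smul]
      rw [this]
      exact ih.comp h
  obtain ⟨eX, heX⟩ : ∃ e : X.carrier ≃ₗ[k] X.carrier, ∀ z, e z = x ^ q.toNat • z :=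
    ⟨LinearEquiv.ofBijective (Algebra.lsmul k k X.carrier (x ^ q.toNat)) (bij x _ hX), fun _ => rfl⟩
  obtain ⟨eY, heY⟩ : ∃ e : Y.carrier ≃ₗ[k] Y.carrier, ∀ z, e z = y ^ p.toNat • z :=
    ⟨LinearEquiv.ofBijective (Algebra.lsmul k k Y.carrier (y ^ p.toNat)) (bij y _ hY), fun _ => rfl⟩
  have hact : ∀ w, GrSeg.act k R S X.carrier Y.carrier (ψ t) w = TensorProduct.congr eX eY w := fun w => by
    induction w using TensorProduct.induction_on with
    | zero => simp
    | add a b ha hb => rw [map_add, map_add, ha, hb]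
    | tmul a b => rw [htx, GrSeg.act_tmul, TensorProduct.congr_tmul, heX, heY]
  refine fun i => LC15.subsingleton_H_of_smul_bijective mT.toIdeal htm ⟨fun v w h => ?_, fun w => ?_⟩ i
  · refine val_injective X Y hT ((TensorProduct.congr eX eY).injective ?_)
    rw [← hact, ← hact, ← val_smul, ← val_smul]
    exact congrArg (val X Y hT) h
  · obtain ⟨π, hπ⟩ := Seg.exists_dg 𝒜 ℬ X.gr Y.gr
    obtain ⟨v, hv⟩ := exists_val_eq X Y hT
      (dg_mem_diag X Y hπ ((TensorProduct.congr eX eY).symm (val X Y hT w)))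
    refine ⟨v, val_injective X Y hT ?_⟩
    show val X Y hT (t • v) = _
    rw [val_smul, hv, ← Seg.dg_act_psi hT hπ, hact, LinearEquiv.apply_symm_apply,
      dg_fix X Y hπ (val_mem_diag X Y hT w)]

include hT in
/-- Segre products of torsion-free parts of *injectives have no local cohomology -/
theorem allVan_segG_quot_gam [IsNoetherianRing R] [IsNoetherianRing S] [IsNoetherianRing T]
    {mR : HomogeneousIdeal 𝒜} {mS : HomogeneousIdeal ℬ} {mT : HomogeneousIdeal 𝒯}
    (hposR : GrMod19.NonnegGr 𝒜) (hposS : GrMod19.NonnegGr ℬ) (hmR : GrMod19.IsPlus mR) (hmS : GrMod19.IsPlus mS)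
    (hmT : GrMod19.IsPlus mT) (I : GMod.{u} 𝒜) (hI : IsStarInj 𝒜 I.gr) (J : GMod.{u} ℬ) (hJ : IsStarInj ℬ J.gr) :
    AllVan mT.toIdeal (segG (quotM I (GrMod19.isHomogeneous_gam I.gr mR))
      (quotM J (GrMod19.isHomogeneous_gam J.gr mS)) hT).carrier := by
  obtain ⟨l, deg, g, hdeg, hg, hgen⟩ := GrMod19.exists_plus_gens hposR hmR
  obtain ⟨l', deg', g', hdeg', hg', hgen'⟩ := GrMod19.exists_plus_gens hposS hmS
  refine quot_gam_induction (fun X => AllVan mT.toIdeal (segG X (quotM J _) hT).carrier) (fun X hX => ?_)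
    (fun X₁ X₂ X₃ f g S' h1 h3 => allVan_ext (ses_left hT S' _) h1 h3) (fun X p x hp hx hX => ?_) hdeg hg mR hgen I hI
  · have := subsingleton_segG X (quotM J (GrMod19.isHomogeneous_gam J.gr mS)) hT (Or.inl hX)
    exact allVan_of_subsingleton _ _
  refine quot_gam_induction (fun Y => AllVan mT.toIdeal (segG X Y hT).carrier) (fun Y hY => ?_)
    (fun Y₁ Y₂ Y₃ f g S' h1 h3 => allVan_ext (ses_right hT S' X) h1 h3)
    (fun Y q y hq hy hY => allVan_segG_of_bijective hT hmT hp hq hx hy hX hY) hdeg' hg' mS hgen' J hJ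
  have := subsingleton_segG X Y hT (Or.inr hY)
  exact allVan_of_subsingleton _ _

end Groth.Agent.GrSeg54
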