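import Groth.Agent.GrSeg54.PolyShift

/-!
Depth and Cohen–Macaulayness of Segre products of shifted polynomial rings.
-/

set_option autoImplicit false

universe u

open scoped TensorProduct
open DirectSum GrLC

namespace Groth.Agent.GrSeg54

open Groth.Agent.CAlg6

attribute [local instance] MvPolynomial.weightedGradedAlgebra

variable {k : Type u} [Field k] {r s : ℕ} {T : Type u} [CommRing T] [Algebra k T]
  {𝒯 : ℤ → Submodule k T} [GradedAlgebra 𝒯]
  {ψ : T →ₐ[k] MvPolynomial (Fin r) k ⊗[k] MvPolynomial (Fin s) k}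
  (hT : GrSeg.IsSegreRing (PW k r) (PW k s) 𝒯 ψ) {a b : ℤ}
  {P : Type u} [AddCommGroup P] [Module T P] [Module k P] [IsScalarTower k T P]
  {𝒬 : ℤ → AddSubgroup P} [Decomposition 𝒬]
  {φ : P →ₗ[k] MvPolynomial (Fin r) k ⊗[k] MvPolynomial (Fin s) k}
  (hP : GrSeg.IsSegreMod ψ (fun n : ℤ => PW k r (n + a)) (fun n : ℤ => PW k s (n + b)) 𝒬 φ)

include hP in
theorem shift_nontrivial (hr : 0 < r) (hs : 0 < s) : Nontrivial P := by
  letI := shiftDec (PW k r) a
  letI := shiftGSMul (PW k r) a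
  letI := shiftDec (PW k s) b
  letI := shiftGSMul (PW k s) b
  let n : ℤ := max (-a) (-b)
  obtain ⟨x, hx, hx0⟩ := (Submodule.ne_bot_iff _).1 (pw_ne_bot (k := k) hr (n := n + a) (by omega))
  obtain ⟨y, hy, hy0⟩ := (Submodule.ne_bot_iff _).1 (pw_ne_bot (k := k) hs (n := n + b) (by omega))
  obtain ⟨p, -, hp⟩ := Seg.exists_phi_eq hP
    (Seg.tmul_mem_piece (k := k) (fun n : ℤ => PW k r (n + a)) (fun n : ℤ => PW k s (n + b)) hx hy)
  refine ⟨p, 0, fun h => ?_⟩
  rw [h, map_zero] at hp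
  exact (mul_ne_zero (mt (map_eq_zero_iff _ (MvPolynomial.rename_injective (Sum.inl : Fin r → Fin r ⊕ Fin s)
      Sum.inl_injective)).1 hx0)
    (mt (map_eq_zero_iff _ (MvPolynomial.rename_injective (Sum.inr : Fin s → Fin r ⊕ Fin s)
      Sum.inr_injective)).1 hy0)) (by
    have h2 := congrArg (Algebra.TensorProduct.lift (MvPolynomial.rename (Sum.inl : Fin r → Fin r ⊕ Fin s))
      (MvPolynomial.rename (Sum.inr : Fin s → Fin r ⊕ Fin s)) fun _ _ => Commute.all _ _) hp.symm
    simpa using h2)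

theorem shift_zero_iff {l : ℕ} (hl : 0 < l) (c d : ℤ) :
    (∀ x ∈ PW k l (d + c), x = 0) ↔ d + c < 0 :=
  (Submodule.eq_bot_iff _).symm.trans (pw_bot_iff hl (d + c))

theorem shift_supportDim {l : ℕ} :
    Module.supportDim (MvPolynomial (Fin l) k) (MvPolynomial (Fin l) k) = (l : ℕ) :=
  (Module.supportDim_self_eq_ringKrullDim _).trans pw_dim

theorem shift_cmAll {l : ℕ} : CMCrit.CMAll (MvPolynomial (Fin l) k) (MvPolynomial (Fin l) k) :=
  cmAll_self_iff.1 pw_cm

theorem shift_vanH_top {l : ℕ} (hl : 0 < l) (c d : ℤ) :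
    letI := shiftDec (PW k l) c
    letI := shiftGSMul (PW k l) c
    GrMod19.VanH (plusH (PW k l)) (fun n : ℤ => PW k l (n + c)) l d ↔ -(l : ℤ) < d + c :=
  (vanH_shift (PW k l) c (plusH (PW k l)) l d).trans (pw_top_iff hl (d + c))

include hT hP in
theorem shift_two (h2r : 2 ≤ r) (h2s : 2 ≤ s) :
    (CMCrit.CMAll T P ↔ a - b < (s : ℤ) ∧ -(r : ℤ) < a - b) ∧
      ((s : ℤ) ≤ a - b → LocCoh.idealDepth (plusH 𝒯).toIdeal P = (s : ℕ∞)) ∧
      (a - b ≤ -(r : ℤ) → LocCoh.idealDepth (plusH 𝒯).toIdeal P = (r : ℕ∞)) := by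
  letI := shiftDec (PW k r) a
  letI := shiftGSMul (PW k r) a
  letI := shiftDec (PW k s) b
  letI := shiftGSMul (PW k s) b
  haveI := shift_nontrivial hP (by omega) (by omega)
  haveI := isNoetherianRing_segre hT
  haveI := Seg.isNoetherian_segre hT hP
  haveI := gradedSMul_segre hT hP
  have hr0 : 0 < r := by omega
  have hs0 : 0 < s := by omega
  have hmR : GrMod19.IsPlus (plusH (PW k r)) := rfl
  have hmS : GrMod19.IsPlus (plusH (PW k s)) := rfl
  have hmT : GrMod19.IsPlus (plusH 𝒯) := rfl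
  refine ⟨?_, ?_⟩
  · rw [cm_two pw_pos pw_zero pw_pos pw_zero hmR hmS hT hP h2r h2s shift_supportDim shift_supportDim
      shift_cmAll shift_cmAll]
    simp only [shift_zero_iff hr0, shift_zero_iff hs0, shift_vanH_top hr0, shift_vanH_top hs0]
    refine ⟨fun ⟨h1, h2⟩ => ⟨?_, ?_⟩, fun ⟨h1, h2⟩ => ⟨fun d => by omega, fun d => by omega⟩⟩
    · have := h1 (-a)
      omega
    · have := h2 (-b)
      omega
  have vM := fun i (hi : i ≠ r) n => vanH_ne (ℳ := fun n : ℤ => PW k r (n + a)) pw_pos pw_zero hmR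
    shift_supportDim shift_cmAll hi n
  have vN := fun i (hi : i ≠ s) n => vanH_ne (ℳ := fun n : ℤ => PW k s (n + b)) pw_pos pw_zero hmS
    shift_supportDim shift_cmAll hi n
  have high := fun d n => segVanHigh (mT := plusH 𝒯) hT hP pw_pos pw_pos hmR hmS hmT
    (vM 0 (by omega) d) (vM 1 (by omega) d) (vN 0 (by omega) d) (vN 1 (by omega) d) n
  have low0 : ∀ d, GrMod19.VanH (plusH 𝒯) 𝒬 0 d := fun d =>
    segVan0 hT hP pw_pos pw_pos hmR hmS hmT (vM 0 (by omega) d) (vN 0 (by omega) d)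
  have low1 : ∀ d, GrMod19.VanH (plusH 𝒯) 𝒬 1 d := fun d =>
    (segVan1 hT hP pw_pos pw_pos hmR hmS hmT (vN 0 (by omega) d) (vN 1 (by omega) d)).2
      (Or.inl (vM 1 (by omega) d))
  have hsm : ∀ (i j : ℕ) (d : ℤ), i + j + 1 < r + s - 1 →
      (i = 0 → j + 1 = s → d + a < 0 ∨ -(s : ℤ) < d + b) → (j = 0 → i + 1 = r → -(r : ℤ) < d + a ∨ d + b < 0) →
      (i = 0 → j = 0 → False) →
      SmV (fun n : ℤ => PW k r (n + a)) (plusH (PW k r)) d i ∨
        SmV (fun n : ℤ => PW k s (n + b)) (plusH (PW k s)) d j := by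
    intro i j d hij c1 c2 c0
    rcases i with _ | i <;> rcases j with _ | j
    · exact (c0 rfl rfl).elim
    · by_cases hj : j + 2 = s
      · subst hj
        exact (c1 rfl rfl).imp (shift_zero_iff hr0 a d).2 (shift_vanH_top hs0 b d).2
      · exact Or.inr (vN (j + 2) hj d)
    · by_cases hi : i + 2 = r
      · subst hi
        exact (c2 rfl rfl).imp (shift_vanH_top hr0 a d).2 (shift_zero_iff hs0 b d).2
      · exact Or.inl (vM (i + 2) hi d)
    · by_cases hi : i + 2 = r
      · exact Or.inr (vN (j + 2) (by omega) d)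
      · exact Or.inl (vM (i + 2) hi d)
  constructor
  · intro hab
    refine idealDepth_eq_of_vanH (𝒬 := 𝒬) (plusH 𝒯) (d := -a) ?_ ?_
    · intro i hi
      rcases i with _ | _ | n
      · exact low0
      · exact low1
      · intro d
        refine (high d n).2 fun i j hij => hsm i j d (by omega) (fun h0 h1 => ?_) (fun h0 h1 => ?_) (by omega)
        · omega
        · omega
    · obtain ⟨n, rfl⟩ : ∃ n, s = n + 2 := ⟨s - 2, by omega⟩
      intro h
      rcases (high (-a) n).1 h 0 (n + 1) (by omega) with h1 | h1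
      · have := (shift_zero_iff (k := k) hr0 a (-a)).1 h1
        omega
      · have := (shift_vanH_top (k := k) hs0 b (-a)).1 h1
        omega
  · intro hab
    refine idealDepth_eq_of_vanH (𝒬 := 𝒬) (plusH 𝒯) (d := -b) ?_ ?_
    · intro i hi
      rcases i with _ | _ | n
      · exact low0
      · exact low1
      · intro d
        refine (high d n).2 fun i j hij => hsm i j d (by omega) (fun h0 h1 => ?_) (fun h0 h1 => ?_) (by omega)
        · omega
        · omega
    · obtain ⟨n, rfl⟩ : ∃ n, r = n + 2 := ⟨r - 2, by omega⟩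
      intro h
      rcases (high (-b) n).1 h (n + 1) 0 (by omega) with h1 | h1
      · have := (shift_vanH_top (k := k) hr0 a (-b)).1 h1
        omega
      · have := (shift_zero_iff (k := k) hs0 b (-b)).1 h1
        omega

include hT hP in
theorem shift_one (hr : r = 1) (h2s : 2 ≤ s) :
    (b ≤ a → CMCrit.CMAll T P) ∧ (a < b → LocCoh.idealDepth (plusH 𝒯).toIdeal P = (1 : ℕ∞)) := by
  subst hr
  letI := shiftDec (PW k 1) a
  letI := shiftGSMul (PW k 1) a
  letI := shiftDec (PW k s) b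
  letI := shiftGSMul (PW k s) b
  haveI := shift_nontrivial hP one_pos (by omega)
  haveI := isNoetherianRing_segre hT
  haveI := Seg.isNoetherian_segre hT hP
  haveI := gradedSMul_segre hT hP
  have hs0 : 0 < s := by omega
  have hmR : GrMod19.IsPlus (plusH (PW k 1)) := rfl
  have hmS : GrMod19.IsPlus (plusH (PW k s)) := rfl
  have hmT : GrMod19.IsPlus (plusH 𝒯) := rfl
  have h := (cm_one pw_pos pw_zero pw_pos pw_zero hmR hT hP (s := s) (by omega) shift_supportDim
    shift_supportDim shift_cmAll shift_cmAll).1 h2s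
  refine ⟨fun hab => h.2 fun d => ?_, fun hab => ?_⟩
  · rw [shift_vanH_top one_pos, shift_zero_iff hs0]
    omega
  · have hv : GrMod19.VanH (plusH 𝒯) 𝒬 1 (-b) ↔ GrMod19.VanH (plusH (PW k 1)) (fun n : ℤ => PW k 1 (n + a)) 1 (-b) ∨
        ∀ x ∈ PW k s (-b + b), x = 0 :=
      segVan1 hT hP pw_pos pw_pos hmR hmS hmT
        (vanH_ne (ℳ := fun n : ℤ => PW k s (n + b)) pw_pos pw_zero hmS shift_supportDim shift_cmAll (by omega) _)
        (vanH_ne (ℳ := fun n : ℤ => PW k s (n + b)) pw_pos pw_zero hmS shift_supportDim shift_cmAll (by omega) _)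
    refine (idealDepth_eq_of_vanH (𝒬 := 𝒬) (plusH 𝒯) (n := 1) (d := -b) ?_ ?_).trans Nat.cast_one
    · intro i hi d
      obtain rfl : i = 0 := by omega
      exact segVan0 hT hP pw_pos pw_pos hmR hmS hmT
        (vanH_ne (ℳ := fun n : ℤ => PW k 1 (n + a)) pw_pos pw_zero hmR shift_supportDim shift_cmAll (by omega) _)
        (vanH_ne (ℳ := fun n : ℤ => PW k s (n + b)) pw_pos pw_zero hmS shift_supportDim shift_cmAll (by omega) _)
    · rw [hv, shift_vanH_top one_pos, shift_zero_iff hs0]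
      omega

end Groth.Agent.GrSeg54
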