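import Groth.Agent.GrSeg54.Main
import Groth.Agent.GrSeg54.SegIso
import Groth.Agent.GrSeg54.SegDimCM
import Groth.Agent.GrMod19.HPos

/-!
Local cohomology of presented Segre products of finite graded modules over graded rings defined over a field.
-/

set_option autoImplicit false
set_option maxHeartbeats 400000

universe u

open scoped TensorProduct
open DirectSum GrLC

namespace Groth.Agent.GrSeg54

open Groth.Agent.CAlg6

section Hcomp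

variable {R : Type u} [CommRing R] [IsNoetherianRing R] {σ : Type u} [SetLike σ R] [AddSubgroupClass σ R]
  {𝒜 : ℤ → σ} [GradedRing 𝒜] {M : Type u} [AddCommGroup M] [Module R M] {τ : Type u} [SetLike τ M]
  [AddSubgroupClass τ M] {ℳ : ℤ → τ} [Decomposition ℳ] [SetLike.GradedSMul 𝒜 ℳ]
  {N : Type u} [AddCommGroup N] [Module R N] {τ' : Type u} [SetLike τ' N] [AddSubgroupClass τ' N]
  {𝒩 : ℤ → τ'} [Decomposition 𝒩] [SetLike.GradedSMul 𝒜 𝒩]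

theorem nonempty_hcompEquiv (e : M ≃ₗ[R] N) (he : IsGrHom ℳ 𝒩 e.toLinearMap)
    (he' : IsGrHom 𝒩 ℳ e.symm.toLinearMap) (a : HomogeneousIdeal 𝒜) (E : StarInjRes 𝒜 ℳ) (F : StarInjRes 𝒜 𝒩)
    (i : ℕ) (n : ℤ) : Nonempty (E.Hcomp a i n ≃ₗ[deg0 𝒜] F.Hcomp a i n) := by
  let φ := GrMod19.hEquiv E F a e (GrMod19.isGrHomDeg_zero_iff.2 he) (GrMod19.isGrHomDeg_zero_iff.2 he')
    (add_zero 0) i
  refine nonempty_pieceEquiv E F φ.toLinearMap (fun n y hy => GrMod19.hMap_mem_Hcomp₀ a E F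
    (GrMod19.isGrHomDeg_zero_iff.2 he) hy) n (fun y _ h => φ.map_eq_zero_iff.1 h)
    fun y hy => ⟨φ.symm y, GrMod19.hMap_mem_Hcomp₀ a F E (GrMod19.isGrHomDeg_zero_iff.2 he') hy,
      φ.apply_symm_apply y⟩

end Hcomp

variable {k : Type u} [Field k] {R S T : Type u} [CommRing R] [CommRing S] [CommRing T]
  [Algebra k R] [Algebra k S] [Algebra k T] [Algebra.FiniteType k R] [Algebra.FiniteType k S]
  {𝒜 : ℤ → Submodule k R} [GradedAlgebra 𝒜] {ℬ : ℤ → Submodule k S} [GradedAlgebra ℬ]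
  {𝒯 : ℤ → Submodule k T} [GradedAlgebra 𝒯] {ψ : T →ₐ[k] R ⊗[k] S}

theorem isNoetherianRing_segre (hT : GrSeg.IsSegreRing 𝒜 ℬ 𝒯 ψ) : IsNoetherianRing T :=
  Seg.isNoetherian_segre hT (Seg.isSegreMod_self hT)

omit [Algebra.FiniteType k R] [Algebra.FiniteType k S] in
theorem segre_nonneg (hT : GrSeg.IsSegreRing 𝒜 ℬ 𝒯 ψ) (hposR : ∀ n : ℤ, n < 0 → 𝒜 n = ⊥) :
    ∀ n : ℤ, n < 0 → 𝒯 n = ⊥ := fun n hn => by
  refine (Submodule.eq_bot_iff _).2 fun t ht => hT.1 ?_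
  rw [map_zero]
  have h := Seg.psi_mem_piece hT ht
  generalize ψ t = w at h ⊢
  induction h using Submodule.span_induction with
  | zero => rfl
  | add x y _ _ hx hy => rw [hx, hy, add_zero]
  | smul a x _ hx => rw [hx, smul_zero]
  | mem x hx =>
    obtain ⟨a, ha, b, -, rfl⟩ := hx
    rw [hposR n hn, Submodule.mem_bot] at ha
    rw [ha, TensorProduct.zero_tmul]

omit [Algebra.FiniteType k R] [Algebra.FiniteType k S] in
theorem segre_zero (hT : GrSeg.IsSegreRing 𝒜 ℬ 𝒯 ψ) (h0R : 𝒜 0 = Submodule.span k {(1 : R)})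
    (h0S : ℬ 0 = Submodule.span k {(1 : S)}) : 𝒯 0 = Submodule.span k {(1 : T)} := by
  refine le_antisymm (fun t ht => ?_) ((Submodule.span_singleton_le_iff_mem _ _).2 SetLike.GradedOne.one_mem)
  have h := Seg.psi_mem_piece hT ht
  suffices H : ∀ w ∈ GrSeg.segrePiece k 𝒜 ℬ 0, ∃ c : k, c • (1 : R ⊗[k] S) = w by
    obtain ⟨c, hc⟩ := H _ h
    rw [← map_one ψ, ← map_smul] at hc
    rw [Submodule.mem_span_singleton]
    exact ⟨c, hT.1 hc⟩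
  intro w hw
  induction hw using Submodule.span_induction with
  | zero => exact ⟨0, zero_smul _ _⟩
  | add x y _ _ hx hy =>
    obtain ⟨c, rfl⟩ := hx
    obtain ⟨c', rfl⟩ := hy
    exact ⟨c + c', add_smul _ _ _⟩
  | smul a x _ hx =>
    obtain ⟨c, rfl⟩ := hx
    exact ⟨a * c, mul_smul _ _ _⟩
  | mem x hx =>
    obtain ⟨a, ha, b, hb, rfl⟩ := hx
    rw [h0R, Submodule.mem_span_singleton] at ha
    rw [h0S, Submodule.mem_span_singleton] at hb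
    obtain ⟨c, rfl⟩ := ha
    obtain ⟨c', rfl⟩ := hb
    refine ⟨c' * c, ?_⟩
    rw [Algebra.TensorProduct.one_def, TensorProduct.tmul_smul, ← TensorProduct.smul_tmul', smul_smul]

omit [Algebra.FiniteType k R] [Algebra.FiniteType k S] [GradedAlgebra 𝒜] [GradedAlgebra ℬ] [GradedAlgebra 𝒯] in
theorem nontrivial_segre [Nontrivial R] [Nontrivial S] (ψ : T →ₐ[k] R ⊗[k] S) : Nontrivial T := by
  by_contra h
  rw [not_nontrivial_iff_subsingleton] at h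
  have h1 : Subsingleton (R ⊗[k] S) :=
    subsingleton_of_zero_eq_one (by rw [← map_one ψ, ← map_zero ψ, Subsingleton.elim (0 : T) 1])
  rw [subsingleton_tmul_iff] at h1
  rcases h1 with h2 | h2 <;> exact not_subsingleton _ h2

variable {M N P : Type u} [AddCommGroup M] [Module R M] [Module k M] [IsScalarTower k R M]
  [AddCommGroup N] [Module S N] [Module k N] [IsScalarTower k S N]
  [AddCommGroup P] [Module T P] [Module k P] [IsScalarTower k T P]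
  {σM σN σQ : Type u} [SetLike σM M] [AddSubgroupClass σM M] [SetLike σN N] [AddSubgroupClass σN N]
  [SetLike σQ P] [AddSubgroupClass σQ P]
  {ℳ : ℤ → σM} [Decomposition ℳ] [SetLike.GradedSMul 𝒜 ℳ]
  {𝒩 : ℤ → σN} [Decomposition 𝒩] [SetLike.GradedSMul ℬ 𝒩]
  {𝒬 : ℤ → σQ} [Decomposition 𝒬] [SetLike.GradedSMul 𝒯 𝒬] {φ : P →ₗ[k] M ⊗[k] N}
  (hT : GrSeg.IsSegreRing 𝒜 ℬ 𝒯 ψ) (hP : GrSeg.IsSegreMod ψ ℳ 𝒩 𝒬 φ)
  {mR : HomogeneousIdeal 𝒜} {mS : HomogeneousIdeal ℬ} {mT : HomogeneousIdeal 𝒯}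
  (hposR : ∀ n : ℤ, n < 0 → 𝒜 n = ⊥) (hposS : ∀ n : ℤ, n < 0 → ℬ n = ⊥)
  (h0R : 𝒜 0 = Submodule.span k {(1 : R)}) (h0S : ℬ 0 = Submodule.span k {(1 : S)})
  (hmR : GrMod19.IsPlus mR) (hmS : GrMod19.IsPlus mS) (hmT : GrMod19.IsPlus mT)

omit [Module k M] [IsScalarTower k R M] [Algebra.FiniteType k R] in
theorem subsingleton_pieceK_iff (d : ℤ) : Subsingleton (pieceK (gN 𝒜 ℳ) d) ↔ ∀ x ∈ ℳ d, x = 0 :=
  ⟨fun h x hx => congrArg Subtype.val (Subsingleton.elim (⟨x, hx⟩ : pieceK (gN 𝒜 ℳ) d) 0),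
    fun h => subsingleton_of_forall_eq 0 fun x => Subtype.ext (h x.1 x.2)⟩

omit [Module k M] [IsScalarTower k R M] [Algebra.FiniteType k R] in
theorem vanH_gN_iff [IsNoetherianRing R] (E : StarInjRes 𝒜 (gN 𝒜 ℳ).gr) (i : ℕ) (n : ℤ) :
    GrMod19.VanH mR ℳ i n ↔ E.Hcomp mR i n = ⊥ :=
  (GrMod19.vanH_selfN ℳ mR).symm.trans (GrMod19.vanH_iff mR E)

variable (ℳ mR) in
/-- the vanishing entering the Künneth formula -/
def SmV (d : ℤ) : ℕ → Prop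
  | 0 => ∀ x ∈ ℳ d, x = 0
  | i + 1 => GrMod19.VanH mR ℳ (i + 2) d

omit [Module k M] [IsScalarTower k R M] [Algebra.FiniteType k R] in
theorem sm_iff [IsNoetherianRing R] (E : StarInjRes 𝒜 (gN 𝒜 ℳ).gr) (d : ℤ) (i : ℕ) :
    Sm mR E d i ↔ SmV ℳ mR d i := by
  cases i with
  | zero => exact subsingleton_pieceK_iff d
  | succ i => exact (vanH_gN_iff E (i + 2) d).symm

include hT hP in
theorem vanH_segre_iff (EW : StarInjRes 𝒯 (segG (gN 𝒜 ℳ) (gN ℬ 𝒩) hT).gr) (i : ℕ) (n : ℤ) :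
    GrMod19.VanH mT 𝒬 i n ↔ EW.Hcomp mT i n = ⊥ := by
  haveI := isNoetherianRing_segre hT
  obtain ⟨e, he, he'⟩ := exists_segEquiv hT hP
  refine Iff.trans ⟨fun h => ?_, fun h => ?_⟩ (GrMod19.vanH_iff mT EW)
  · exact GrMod19.vanH_congr mT e.symm he' (by simpa using he) i n h
  · exact GrMod19.vanH_congr mT e he he' i n h

include hT hP hposR hposS hmR hmS hmT in
theorem segVan0 {d : ℤ} (h0M : GrMod19.VanH mR ℳ 0 d) (h0N : GrMod19.VanH mS 𝒩 0 d) :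
    GrMod19.VanH mT 𝒬 0 d := by
  haveI := Algebra.FiniteType.isNoetherianRing k R
  haveI := Algebra.FiniteType.isNoetherianRing k S
  haveI := isNoetherianRing_segre hT
  obtain ⟨EM⟩ := GrInj18.nonempty_starInjRes 𝒜 (gN 𝒜 ℳ).gr
  obtain ⟨EN⟩ := GrInj18.nonempty_starInjRes ℬ (gN ℬ 𝒩).gr
  obtain ⟨EW⟩ := GrInj18.nonempty_starInjRes 𝒯 (segG (gN 𝒜 ℳ) (gN ℬ 𝒩) hT).gr
  rw [vanH_segre_iff hT hP EW]
  rw [vanH_gN_iff EM] at h0M
  rw [vanH_gN_iff EN] at h0N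
  exact segH0 hT (nonnegGr_of_bot hposR) (nonnegGr_of_bot hposS) (nonnegGr_of_bot (segre_nonneg hT hposR))
    hmR hmS hmT EM EN EW h0M h0N

include hT hP hposR hposS hmR hmS hmT in
theorem segVan1 {d : ℤ} (h0N : GrMod19.VanH mS 𝒩 0 d) (h1N : GrMod19.VanH mS 𝒩 1 d) :
    GrMod19.VanH mT 𝒬 1 d ↔ GrMod19.VanH mR ℳ 1 d ∨ ∀ x ∈ 𝒩 d, x = 0 := by
  haveI := Algebra.FiniteType.isNoetherianRing k R
  haveI := Algebra.FiniteType.isNoetherianRing k S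
  haveI := isNoetherianRing_segre hT
  obtain ⟨EM⟩ := GrInj18.nonempty_starInjRes 𝒜 (gN 𝒜 ℳ).gr
  obtain ⟨EN⟩ := GrInj18.nonempty_starInjRes ℬ (gN ℬ 𝒩).gr
  obtain ⟨EW⟩ := GrInj18.nonempty_starInjRes 𝒯 (segG (gN 𝒜 ℳ) (gN ℬ 𝒩) hT).gr
  rw [vanH_gN_iff EN] at h0N h1N
  rw [vanH_segre_iff hT hP EW, segH1 hT (nonnegGr_of_bot hposR) (nonnegGr_of_bot hposS)
    (nonnegGr_of_bot (segre_nonneg hT hposR)) hmR hmS hmT EM EN EW h0N h1N, vanH_gN_iff EM,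
    subsingleton_pieceK_iff]

include hT hP hposR hposS hmR hmS hmT in
theorem segVanLeftOne {n : ℕ} {d : ℤ} (hM : ∀ i, GrMod19.VanH mR ℳ (i + 2) d)
    (hN : GrMod19.VanH mS 𝒩 (n + 2) d) : GrMod19.VanH mT 𝒬 (n + 2) d := by
  haveI := Algebra.FiniteType.isNoetherianRing k R
  haveI := Algebra.FiniteType.isNoetherianRing k S
  haveI := isNoetherianRing_segre hT
  obtain ⟨EM⟩ := GrInj18.nonempty_starInjRes 𝒜 (gN 𝒜 ℳ).gr
  obtain ⟨EN⟩ := GrInj18.nonempty_starInjRes ℬ (gN ℬ 𝒩).gr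
  obtain ⟨EW⟩ := GrInj18.nonempty_starInjRes 𝒯 (segG (gN 𝒜 ℳ) (gN ℬ 𝒩) hT).gr
  rw [vanH_segre_iff hT hP EW]
  rw [vanH_gN_iff EN] at hN
  exact segHigh_of_left_one hT (nonnegGr_of_bot hposR) (nonnegGr_of_bot hposS)
    (nonnegGr_of_bot (segre_nonneg hT hposR)) hmR hmS hmT EM EN EW (fun i => (vanH_gN_iff EM _ _).1 (hM i)) hN

include hT hP hposR hposS hmR hmS hmT in
theorem segVanHigh {d : ℤ} (h0M : GrMod19.VanH mR ℳ 0 d) (h1M : GrMod19.VanH mR ℳ 1 d)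
    (h0N : GrMod19.VanH mS 𝒩 0 d) (h1N : GrMod19.VanH mS 𝒩 1 d) (n : ℕ) :
    GrMod19.VanH mT 𝒬 (n + 2) d ↔ ∀ i j, i + j = n + 1 → SmV ℳ mR d i ∨ SmV 𝒩 mS d j := by
  haveI := Algebra.FiniteType.isNoetherianRing k R
  haveI := Algebra.FiniteType.isNoetherianRing k S
  haveI := isNoetherianRing_segre hT
  obtain ⟨EM⟩ := GrInj18.nonempty_starInjRes 𝒜 (gN 𝒜 ℳ).gr
  obtain ⟨EN⟩ := GrInj18.nonempty_starInjRes ℬ (gN ℬ 𝒩).gr
  obtain ⟨EW⟩ := GrInj18.nonempty_starInjRes 𝒯 (segG (gN 𝒜 ℳ) (gN ℬ 𝒩) hT).gr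
  rw [vanH_gN_iff EM] at h0M h1M
  rw [vanH_gN_iff EN] at h0N h1N
  rw [vanH_segre_iff hT hP EW, segHigh_iff hT (nonnegGr_of_bot hposR) (nonnegGr_of_bot hposS)
    (nonnegGr_of_bot (segre_nonneg hT hposR)) hmR hmS hmT EM EN EW h0M h1M h0N h1N]
  simp only [sm_iff]

variable (ℳ) in
/-- the dimension entering the Künneth formula -/
noncomputable def DmV (E : StarInjRes 𝒜 ℳ) (mR : HomogeneousIdeal 𝒜) (d : ℤ) : ℕ → ℕ
  | 0 => Module.finrank (deg0 𝒜) (comp 𝒜 ℳ d)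
  | i + 1 => Module.finrank (deg0 𝒜) (E.Hcomp mR (i + 2) d)

omit [Module k M] [IsScalarTower k R M] [Algebra.FiniteType k R] in
theorem dm_eq [IsNoetherianRing R] (E : StarInjRes 𝒜 ℳ) (E' : StarInjRes 𝒜 (gN 𝒜 ℳ).gr) (d : ℤ) (i : ℕ) :
    Dm mR E' d i = DmV ℳ E mR d i := by
  cases i with
  | zero => rfl
  | succ i =>
    let e₀ : M ≃ₗ[R] (gN 𝒜 ℳ).carrier :=
      { toFun := fun m => m
        invFun := fun m => m
        left_inv := fun _ => rfl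
        right_inv := fun _ => rfl
        map_add' := fun _ _ => rfl
        map_smul' := fun _ _ => rfl }
    obtain ⟨e⟩ := nonempty_hcompEquiv (ℳ := ℳ) (𝒩 := (gN 𝒜 ℳ).gr) e₀ (fun _ _ h => h) (fun _ _ h => h)
      mR E E' (i + 2) d
    exact e.finrank_eq.symm

include hT hP hposR hposS h0R h0S hmR hmS hmT in
theorem segFinrank [Nontrivial R] [Nontrivial S] [Module.Finite R M] [Module.Finite S N]
    (EM : StarInjRes 𝒜 ℳ) (EN : StarInjRes ℬ 𝒩) (EP : StarInjRes 𝒯 𝒬) {d : ℤ}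
    (hM : ∀ q ≤ 1, EM.Hcomp mR q d = ⊥) (hN : ∀ q ≤ 1, EN.Hcomp mS q d = ⊥) (n : ℕ) :
    Module.finrank (deg0 𝒯) (EP.Hcomp mT (n + 2) d) =
      ∑ p ∈ Finset.HasAntidiagonal.antidiagonal (n + 1), DmV ℳ EM mR d p.1 * DmV 𝒩 EN mS d p.2 := by
  haveI := Algebra.FiniteType.isNoetherianRing k R
  haveI := Algebra.FiniteType.isNoetherianRing k S
  haveI := isNoetherianRing_segre hT
  haveI := nontrivial_segre ψ
  obtain ⟨EM'⟩ := GrInj18.nonempty_starInjRes 𝒜 (gN 𝒜 ℳ).gr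
  obtain ⟨EN'⟩ := GrInj18.nonempty_starInjRes ℬ (gN ℬ 𝒩).gr
  obtain ⟨EW⟩ := GrInj18.nonempty_starInjRes 𝒯 (segG (gN 𝒜 ℳ) (gN ℬ 𝒩) hT).gr
  obtain ⟨e, he, he'⟩ := exists_segEquiv hT hP
  obtain ⟨c⟩ := nonempty_hcompEquiv e he he' mT EP EW (n + 2) d
  have hpR := nonnegGr_of_bot hposR
  have hpS := nonnegGr_of_bot hposS
  have hvM : ∀ q ≤ 1, EM'.Hcomp mR q d = ⊥ := fun q hq =>
    (vanH_gN_iff EM' q d).1 ((GrMod19.vanH_iff mR EM).2 (hM q hq))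
  have hvN : ∀ q ≤ 1, EN'.Hcomp mS q d = ⊥ := fun q hq =>
    (vanH_gN_iff EN' q d).1 ((GrMod19.vanH_iff mS EN).2 (hN q hq))
  haveI : Module.Finite R (gN 𝒜 ℳ).carrier := ‹Module.Finite R M›
  haveI : Module.Finite S (gN ℬ 𝒩).carrier := ‹Module.Finite S N›
  rw [c.finrank_eq, seg_finrank hT hpR hpS (nonnegGr_of_bot (segre_nonneg hT hposR)) hmR hmS hmT EM' EN' EW
    h0R h0S (segre_zero hT h0R h0S) (hvM 0 zero_le_one) (hvM 1 le_rfl) (hvN 0 zero_le_one) (hvN 1 le_rfl)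
    (Module.Finite.iff_fg.1 (GrMod19.finite_comp hpR hmR (gN 𝒜 ℳ).gr d))
    (Module.Finite.iff_fg.1 (GrMod19.finite_comp hpS hmS (gN ℬ 𝒩).gr d))
    (fun i => (GrMod19.hGood hpR hmR i _ (gN 𝒜 ℳ).gr EM').1 d)
    (fun i => (GrMod19.hGood hpS hmS i _ (gN ℬ 𝒩).gr EN').1 d) n]
  refine Finset.sum_congr rfl fun p _ => ?_
  rw [dm_eq EM EM', dm_eq EN EN']

end Groth.Agent.GrSeg54
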