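import Groth.Agent.GrSeg54.TopQuot
import Groth.Agent.GrSeg54.Transport

/-!
The top local cohomology of a Segre product is the Segre product of the top local cohomologies.
-/

set_option autoImplicit false
set_option maxHeartbeats 400000

universe u

open scoped TensorProduct
open DirectSum GrLC

namespace Groth.Agent.GrSeg54

open Groth.Agent.CAlg6

variable {k : Type u} [Field k] {R S T : Type u} [CommRing R] [CommRing S] [CommRing T]
  [Algebra k R] [Algebra k S] [Algebra k T]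
  [IsNoetherianRing R] [IsNoetherianRing S] [IsNoetherianRing T]
  {𝒜 : ℤ → Submodule k R} [GradedAlgebra 𝒜] {ℬ : ℤ → Submodule k S} [GradedAlgebra ℬ]
  {𝒯 : ℤ → Submodule k T} [GradedAlgebra 𝒯] {ψ : T →ₐ[k] R ⊗[k] S}
  (hT : GrSeg.IsSegreRing 𝒜 ℬ 𝒯 ψ)
  {mR : HomogeneousIdeal 𝒜} {mS : HomogeneousIdeal ℬ} {mT : HomogeneousIdeal 𝒯}
  (hposR : GrMod19.NonnegGr 𝒜) (hposS : GrMod19.NonnegGr ℬ) (hposT : GrMod19.NonnegGr 𝒯)
  (hmR : GrMod19.IsPlus mR) (hmS : GrMod19.IsPlus mS) (hmT : GrMod19.IsPlus mT)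
  {Mg : GMod.{u} 𝒜} {Ng : GMod.{u} ℬ} (EM : StarInjRes 𝒜 Mg.gr) (EN : StarInjRes ℬ Ng.gr) (p q : ℕ)

local notation "DM" => punct₁ hposR hmR EM
local notation "DN" => punct₁ hposS hmS EN
local notation "D₂" => punct₂ hT hposR hposS hposT hmR hmS hmT EM EN

theorem phiTop_mem_range (x : (BT hT mR mS EM EN (p + q + 2)).carrier)
    (hD : dBT hT mR mS EM EN (p + q + 2) x = 0) :
    phiTop hT hposR hposS hmR hmS EM EN p q x ∈
      LinearMap.range (TensorProduct.map (linK (ιK DM p)) (linK (ιK DN q))) := by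
  obtain ⟨t, ht⟩ := GrMod19.exists_sum_cmp (BT hT mR mS EM EN (p + q + 2)).gr x
  rw [← ht, map_sum]
  refine Submodule.sum_mem _ fun d _ => ?_
  refine ⟨TensorProduct.map (ζK DM p d) (ζK DN q d) (clsB hT hposR hposS hmR hmS EM EN (p + q + 2) d
    (GrMod19.cmp (BT hT mR mS EM EN (p + q + 2)).gr d x) (idxTop p q)), ?_⟩
  refine (map_map_apply _ _ _ _ _).trans (phiTop_eq_cls hT hposR hposS hmR hmS EM EN p q
    (GrMod19.cmp_mem (BT hT mR mS EM EN (p + q + 2)).gr d x) ?_).symm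
  rw [GrMod19.map_cmp _ _ (totD_gr hT _ _ _ _ _ _ (p + q + 2)), hD, map_zero]

theorem map_ιK_injective :
    Function.Injective (TensorProduct.map (linK (ιK DM p)) (linK (ιK DN q))) :=
  TensorProduct.map_injective_of_flat_flat _ _ (ιK_injective DM p) (ιK_injective DN q)

theorem act_injOn (t : T) (u : (Punct.Qm DM p).carrier ⊗[k] (Punct.Qm DN q).carrier) :
    TensorProduct.map (linK (ιK DM p)) (linK (ιK DN q))
        (GrSeg.act k R S (Punct.Qm DM p).carrier (Punct.Qm DN q).carrier (ψ t) u) =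
      GrSeg.act k R S (CK DM p).carrier (CK DN q).carrier (ψ t)
        (TensorProduct.map (linK (ιK DM p)) (linK (ιK DN q)) u) :=
  act_map _ _ (ιK DM p) (ιK DN q) (ψ t) u

/-- the map on cycles -/
theorem exists_cycleMap : ∃ F : (Punct.Wm D₂ (p + q + 2)).carrier →ₗ[k]
    (Punct.Qm DM p).carrier ⊗[k] (Punct.Qm DN q).carrier, ∀ w,
      TensorProduct.map (linK (ιK DM p)) (linK (ιK DN q)) (F w) =
        phiTop hT hposR hposS hmR hmS EM EN p q (Punct.cycIncl D₂ (p + q + 2) w) := by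
  let ι := TensorProduct.map (linK (ιK DM p)) (linK (ιK DN q))
  let e := LinearEquiv.ofInjective ι (map_ιK_injective hposR hposS hmR hmS EM EN p q)
  let g : (Punct.Wm D₂ (p + q + 2)).carrier →ₗ[k] LinearMap.range ι :=
    (phiTop hT hposR hposS hmR hmS EM EN p q ∘ₗ linK (Punct.cycIncl D₂ (p + q + 2))).codRestrict _ fun w =>
      phiTop_mem_range hT hposR hposS hmR hmS EM EN p q _
        (show LinearMap.ker (dBT hT mR mS EM EN (p + q + 2)) from w).2
  refine ⟨e.symm.toLinearMap ∘ₗ g, fun w => ?_⟩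
  exact (congrArg Subtype.val (e.apply_symm_apply (g w)) :)

/-- the comparison on cohomology -/
theorem exists_qmMap : ∃ Θ : (Punct.Qm D₂ (p + q + 1)).carrier →ₗ[k]
    (Punct.Qm DM p).carrier ⊗[k] (Punct.Qm DN q).carrier,
    (∀ w, TensorProduct.map (linK (ιK DM p)) (linK (ιK DN q)) (Θ (Punct.qProj D₂ (p + q + 1) w)) =
        phiTop hT hposR hposS hmR hmS EM EN p q (Punct.cycIncl D₂ (p + q + 2) w)) ∧
      ∀ (t : T) y, Θ (t • y) = GrSeg.act k R S (Punct.Qm DM p).carrier (Punct.Qm DN q).carrier (ψ t) (Θ y) := by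
  obtain ⟨F, hF⟩ := exists_cycleMap hT hposR hposS hposT hmR hmS hmT EM EN p q
  have hi := map_ιK_injective hposR hposS hmR hmS EM EN p q
  let Q : Submodule T (Punct.Wm D₂ (p + q + 2)).carrier := LinearMap.range (Punct.imIncl D₂ (p + q + 1))
  have hker : Q.toAddSubgroup ≤ F.toAddMonoidHom.ker := by
    rintro w ⟨⟨_, y, rfl⟩, rfl⟩
    refine hi ?_
    rw [map_zero]
    exact (hF _).trans (phiTop_dBT hT hposR hposS hmR hmS EM EN p q y)
  let G : (Punct.Qm D₂ (p + q + 1)).carrier →+ (Punct.Qm DM p).carrier ⊗[k] (Punct.Qm DN q).carrier :=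
    QuotientAddGroup.lift Q.toAddSubgroup F.toAddMonoidHom hker
  have hG : ∀ w, G (Punct.qProj D₂ (p + q + 1) w) = F w := fun w => rfl
  refine ⟨{ toFun := G, map_add' := map_add G, map_smul' := fun c y => ?_ }, fun w => ?_, fun t y => ?_⟩
  · obtain ⟨w, rfl⟩ := Submodule.mkQ_surjective Q y
    show G (c • Punct.qProj D₂ (p + q + 1) w) = c • G (Punct.qProj D₂ (p + q + 1) w)
    rw [← LinearMap.map_smul_of_tower (Punct.qProj D₂ (p + q + 1)) c w, hG, hG, map_smul]
  · exact (congrArg _ (hG w)).trans (hF w)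
  · obtain ⟨w, rfl⟩ := Submodule.mkQ_surjective Q y
    show G (t • Punct.qProj D₂ (p + q + 1) w) = GrSeg.act k R S _ _ (ψ t) (G (Punct.qProj D₂ (p + q + 1) w))
    rw [← map_smul, hG, hG]
    refine hi ?_
    rw [act_injOn hposR hposS hmR hmS EM EN p q t, hF, hF, map_smul]
    exact phiTop_smul hT hposR hposS hmR hmS EM EN p q t _

theorem cls_other (hM : ∀ i d, EM.Hcomp mR (p + 3 + i) d = ⊥) (hN : ∀ i d, EN.Hcomp mS (q + 3 + i) d = ⊥)
    (d : ℤ) (i : Idx (p + q + 2)) (hi : i ≠ idxTop p q) :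
    Subsingleton (CohB DM d i.1.1 ⊗[k] CohB DN d i.1.2) := by
  obtain ⟨⟨a, b⟩, hab⟩ := i
  have hsum : a + b = p + q + 2 := Finset.HasAntidiagonal.mem_antidiagonal.1 hab
  have hne : ¬(a = p + 1 ∧ b = q + 1) := fun ⟨ha, hb⟩ => hi (Subtype.ext (by simp [idxTop, ha, hb]))
  refine subsingleton_tmul_iff.2 ?_
  by_cases ha : p + 1 < a
  · obtain ⟨c, rfl⟩ : ∃ c, a = c + 1 := ⟨a - 1, by omega⟩
    refine Or.inl ((cohB_succ_subsingleton_iff DM EM c d).2 ?_)
    obtain ⟨l, hl⟩ : ∃ l, c + 2 = p + 3 + l := ⟨c - p - 1, by omega⟩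
    rw [hl]
    exact hM l d
  · obtain ⟨c, rfl⟩ : ∃ c, b = c + 1 := ⟨b - 1, by omega⟩
    refine Or.inr ((cohB_succ_subsingleton_iff DN EN c d).2 ?_)
    obtain ⟨l, hl⟩ : ∃ l, c + 2 = q + 3 + l := ⟨c - q - 1, by omega⟩
    rw [hl]
    exact hN l d

/-- the top cohomology of the punctured data of a Segre product -/
theorem exists_qmTop (hM : ∀ i d, EM.Hcomp mR (p + 3 + i) d = ⊥) (hN : ∀ i d, EN.Hcomp mS (q + 3 + i) d = ⊥) :
    ∃ Θ : (Punct.Qm D₂ (p + q + 1)).carrier →ₗ[k] (Punct.Qm DM p).carrier ⊗[k] (Punct.Qm DN q).carrier,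
      Function.Injective Θ ∧
      (∀ d, Θ '' ((Punct.Qm D₂ (p + q + 1)).gr d : Set _) =
        (GrSeg.segrePiece k (Punct.Qm DM p).gr (Punct.Qm DN q).gr d : Set _)) ∧
      ∀ (t : T) y, Θ (t • y) = GrSeg.act k R S (Punct.Qm DM p).carrier (Punct.Qm DN q).carrier (ψ t) (Θ y) := by
  obtain ⟨Θ, hΘ, hsm⟩ := exists_qmMap hT hposR hposS hposT hmR hmS hmT EM EN p q
  have hi := map_ιK_injective hposR hposS hmR hmS EM EN p q
  have hmem : ∀ d, ∀ y ∈ (Punct.Qm D₂ (p + q + 1)).gr d, Θ y ∈ GrSeg.segrePiece k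
      (Punct.Qm DM p).gr (Punct.Qm DN q).gr d ∧ (Θ y = 0 → y = 0) := by
    rintro d _ ⟨w, hw, rfl⟩
    have hD : dBT hT mR mS EM EN (p + q + 2) (Punct.cycIncl D₂ (p + q + 2) w) = 0 :=
      (show LinearMap.ker (dBT hT mR mS EM EN (p + q + 2)) from w).2
    let c := clsB hT hposR hposS hmR hmS EM EN (p + q + 2) d (Punct.cycIncl D₂ (p + q + 2) w)
    have he : Θ (Punct.qProj D₂ (p + q + 1) w) = TensorProduct.map (ζK DM p d) (ζK DN q d) (c (idxTop p q)) :=
      hi ((hΘ w).trans ((phiTop_eq_cls hT hposR hposS hmR hmS EM EN p q hw hD).trans (map_map_apply _ _ _ _ _).symm))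
    refine ⟨?_, fun h0 => ?_⟩
    · show Θ (Punct.qProj D₂ (p + q + 1) w) ∈ _
      rw [he]
      suffices H : ∀ z : CohB DM d (p + 1) ⊗[k] CohB DN d (q + 1),
          TensorProduct.map (ζK DM p d) (ζK DN q d) z ∈
            GrSeg.segrePiece k (Punct.Qm DM p).gr (Punct.Qm DN q).gr d from H _
      intro z
      induction z using TensorProduct.induction_on with
      | zero => rw [map_zero]; exact zero_mem _
      | add a b ha hb => rw [map_add]; exact add_mem ha hb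
      | tmul a b =>
        rw [TensorProduct.map_tmul]
        exact Seg.tmul_mem_piece _ _ (ζK_mem DM p d a) (ζK_mem DN q d b)
    · have hc : c = 0 := funext fun i => by
        by_cases hii : i = idxTop p q
        · subst hii
          refine TensorProduct.map_injective_of_flat_flat _ _ (ζK_injective DM p d) (ζK_injective DN q d) ?_
          exact (he.symm.trans h0).trans (map_zero (TensorProduct.map (ζK DM p d) (ζK DN q d))).symm
        · have := cls_other hposR hposS hmR hmS EM EN p q hM hN d i hii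
          exact Subsingleton.elim _ _
      obtain ⟨y, -, hy⟩ := exists_bdy_of_clsB hT hposR hposS hmR hmS EM EN (n := p + q + 1) hw hD hc
      exact (Submodule.Quotient.mk_eq_zero _).2 ⟨⟨_, y, rfl⟩, Subtype.ext hy⟩
  refine ⟨Θ, (injective_iff_map_eq_zero Θ).2 fun y hy => ?_, fun d => Set.ext fun u => ⟨?_, fun hu => ?_⟩, hsm⟩
  · classical
    obtain ⟨t, ht⟩ := GrMod19.exists_sum_cmp (Punct.Qm D₂ (p + q + 1)).gr y
    have hzero : ∀ e ∈ t, GrMod19.cmp (Punct.Qm D₂ (p + q + 1)).gr e y = 0 := fun e he => by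
      refine (hmem e _ (GrMod19.cmp_mem (Punct.Qm D₂ (p + q + 1)).gr e y)).2 ?_
      have h := congrArg (fun v => TensorProduct.map (prK (Punct.Qm DM p) e) (prK (Punct.Qm DN q) e) (Θ v)) ht
      simp only [map_sum, hy, map_zero] at h
      rw [Finset.sum_congr rfl fun e' _ => map_prK_of_mem _ _
        (hmem e' _ (GrMod19.cmp_mem (Punct.Qm D₂ (p + q + 1)).gr e' y)).1 e, Finset.sum_ite_eq', if_pos he] at h
      exact h
    rw [← ht]
    exact Finset.sum_eq_zero hzero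
  · rintro ⟨y, hy, rfl⟩
    exact (hmem d y hy).1
  · classical
    have hu' : ∃ c : CohB DM d (p + 1) ⊗[k] CohB DN d (q + 1),
        TensorProduct.map (ζK DM p d) (ζK DN q d) c = u := by
      have hle : GrSeg.segrePiece k (Punct.Qm DM p).gr (Punct.Qm DN q).gr d ≤
          LinearMap.range (TensorProduct.map (ζK DM p d) (ζK DN q d)) := by
        refine Submodule.span_le.2 ?_
        rintro _ ⟨a, ha, b, hb, rfl⟩
        obtain ⟨ca, rfl⟩ := exists_ζK_eq DM p d ha
        obtain ⟨cb, rfl⟩ := exists_ζK_eq DN q d hb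
        exact ⟨ca ⊗ₜ cb, TensorProduct.map_tmul _ _ _ _⟩
      exact hle hu
    obtain ⟨c, rfl⟩ := hu'
    obtain ⟨x, hx, hD, hc⟩ := exists_clsB_eq hT hposR hposS hmR hmS EM EN (p + q + 2) d (Pi.single (idxTop p q) c)
    let w : (Punct.Wm D₂ (p + q + 2)).carrier :=
      (⟨x, hD⟩ : LinearMap.ker (dBT hT mR mS EM EN (p + q + 2)))
    refine ⟨Punct.qProj D₂ (p + q + 1) w, ⟨w, hx, rfl⟩, hi ?_⟩
    refine (hΘ w).trans ((phiTop_eq_cls hT hposR hposS hmR hmS EM EN p q hx hD).trans ?_)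
    rw [hc]
    exact (congrArg _ (Pi.single_eq_same _ _)).trans (map_map_apply _ _ _ _ _).symm

end Groth.Agent.GrSeg54
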