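import Groth.Agent.GrSeg54.Main
import Groth.Agent.GrSeg54.GlobalH

/-!
A module map from the cycles of the punctured data of a Segre product to the tensor product of cokernels.
-/

set_option autoImplicit false
set_option maxHeartbeats 400000

universe u

open scoped TensorProduct
open DirectSum GrLC

namespace Groth.Agent.GrSeg54

open Groth.Agent.CAlg6

variable {k : Type u} [Field k]

section One

variable {R : Type u} [CommRing R] [Algebra k R] {𝒜 : ℤ → Submodule k R} [GradedAlgebra 𝒜]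
  {a : HomogeneousIdeal 𝒜} {P : GMod.{u} 𝒜} (D : Punct a P) (p : ℕ)

/-- the cokernel of a differential -/
noncomputable def CK : GMod.{u} 𝒜 := quotM (D.B (p + 1)) (GrMod19.isHomogeneous_range _ _ (D.dB_gr p))

/-- the projection onto the cokernel -/
noncomputable def qK : (D.B (p + 1)).carrier →ₗ[R] (CK D p).carrier := (LinearMap.range (D.dB p)).mkQ

theorem qK_gr : IsGrHom (D.B (p + 1)).gr (CK D p).gr (qK D p) := fun _ x hx => ⟨x, hx, rfl⟩

theorem qK_dB (y : (D.B p).carrier) : qK D p (D.dB p y) = 0 :=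
  (Submodule.Quotient.mk_eq_zero _).2 ⟨y, rfl⟩

/-- cohomology inside the cokernel -/
noncomputable def ιK : (D.Qm p).carrier →ₗ[R] (CK D p).carrier :=
  Submodule.liftQ _ (qK D p ∘ₗ D.cycIncl (p + 1)) fun w hw => by
    obtain ⟨⟨_, y, rfl⟩, rfl⟩ := hw
    exact qK_dB D p y

theorem ιK_qProj (w : (D.Wm (p + 1)).carrier) : ιK D p (D.qProj p w) = qK D p (D.cycIncl (p + 1) w) := rfl

theorem ιK_injective : Function.Injective (ιK D p) := by
  refine (injective_iff_map_eq_zero _).2 fun y hy => ?_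
  obtain ⟨w, rfl⟩ := Submodule.mkQ_surjective _ y
  obtain ⟨z, hz⟩ := (Submodule.Quotient.mk_eq_zero _).1 hy
  exact (Submodule.Quotient.mk_eq_zero _).2 ⟨⟨_, z, rfl⟩, Subtype.ext hz⟩

theorem ιK_gr : IsGrHom (D.Qm p).gr (CK D p).gr (ιK D p) := by
  rintro g _ ⟨w, hw, rfl⟩
  exact qK_gr D p g _ hw

/-- the complex in degree `d` -/
noncomputable abbrev dD (d : ℤ) (i : ℕ) : pieceK (D.B i) d →ₗ[k] pieceK (D.B (i + 1)) d :=
  pmap (D.dB i) (D.dB_gr i) d

theorem dD_dD (d : ℤ) (i : ℕ) (x : pieceK (D.B i) d) : dD D d (i + 1) (dD D d i x) = 0 :=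
  Subtype.ext (D.dB_dB i x.1)

/-- classes of one degree as cohomology classes -/
noncomputable def ζK (d : ℤ) : CohB D d (p + 1) →ₗ[k] (D.Qm p).carrier :=
  linK (D.qProj p) ∘ₗ
    { toFun := fun c => ⟨(cincl (dD D d) (dD_dD D d) (p + 1) c).1,
        congrArg Subtype.val (d_cincl (dD D d) (dD_dD D d) (p + 1) c)⟩
      map_add' := fun c c' => Subtype.ext (congrArg Subtype.val (map_add (cincl (dD D d) (dD_dD D d) (p + 1)) c c') :)
      map_smul' := fun r c => Subtype.ext (congrArg Subtype.val (map_smul (cincl (dD D d) (dD_dD D d) (p + 1)) r c) :) }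

theorem ιK_ζK (d : ℤ) (c : CohB D d (p + 1)) :
    ιK D p (ζK D p d c) = qK D p (cincl (dD D d) (dD_dD D d) (p + 1) c).1 := rfl

theorem ζK_mem (d : ℤ) (c : CohB D d (p + 1)) : ζK D p d c ∈ (D.Qm p).gr d :=
  ⟨_, (cincl (dD D d) (dD_dD D d) (p + 1) c).2, rfl⟩

theorem ζK_injective (d : ℤ) : Function.Injective (ζK D p d) := by
  refine (injective_iff_map_eq_zero _).2 fun c hc => ?_
  have h := ιK_ζK D p d c
  rw [hc, map_zero] at h
  obtain ⟨y, hy⟩ := (Submodule.Quotient.mk_eq_zero _).1 h.symm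
  let z : pieceK (D.B p) d := ⟨GrMod19.cmp (D.B p).gr d y, GrMod19.cmp_mem (D.B p).gr d y⟩
  have hz : dD D d p z = cincl (dD D d) (dD_dD D d) (p + 1) c := Subtype.ext (by
    show D.dB p (GrMod19.cmp (D.B p).gr d y) = _
    rw [GrMod19.map_cmp _ _ (D.dB_gr p), hy]
    exact GrMod19.cmp_of_mem _ (cincl (dD D d) (dD_dD D d) (p + 1) c).2)
  rw [← cproj_cincl (dD D d) (dD_dD D d) (p + 1) c, ← hz, cproj_d]

theorem exists_ζK_eq (d : ℤ) {a : (D.Qm p).carrier} (ha : a ∈ (D.Qm p).gr d) : ∃ c, ζK D p d c = a := by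
  obtain ⟨w, hw, rfl⟩ := ha
  let z : pieceK (D.B (p + 1)) d := ⟨D.cycIncl (p + 1) w, hw⟩
  have hz : dD D d (p + 1) z = 0 := Subtype.ext (show LinearMap.ker (D.dB (p + 1)) from w).2
  refine ⟨cproj (dD D d) (dD_dD D d) (p + 1) z, ιK_injective D p ?_⟩
  rw [ιK_ζK, cincl_cproj]
  show qK D p _ = ιK D p (D.qProj p w)
  rw [ιK_qProj]
  refine sub_eq_zero.1 ?_
  rw [← map_sub]
  have h1 := emap_sub_mem (dD D d) (p + 1) z hz
  have h2 : emap (dD D d) (p + 1) (emap (dD D d) (p + 1) z) = emap (dD D d) (p + 1) z := by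
    have h3 := emap_bdy (dD D d) (dD_dD D d) (p + 1) _ h1
    rw [map_sub, sub_eq_zero] at h3
    exact h3.symm
  rw [h2]
  obtain ⟨y, hy⟩ := h1
  have hy' : D.dB p y.1 = z.1 - (emap (dD D d) (p + 1) z).1 := congrArg Subtype.val hy
  rw [← neg_sub, map_neg, show D.cycIncl (p + 1) w = z.1 from rfl, ← hy', qK_dB, neg_zero]

theorem qK_subtype_dD (d : ℤ) :
    (linK (qK D p) ∘ₗ (pieceK (D.B (p + 1)) d).subtype) ∘ₗ dD D d p = 0 :=
  LinearMap.ext fun z => qK_dB D p z.1

theorem qK_subtype_cincl (d : ℤ) :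
    (linK (qK D p) ∘ₗ (pieceK (D.B (p + 1)) d).subtype) ∘ₗ cincl (dD D d) (dD_dD D d) (p + 1) =
      linK (ιK D p) ∘ₗ ζK D p d :=
  LinearMap.ext fun c => (ιK_ζK D p d c).symm

end One

section Abstract

variable {V : ℕ → Type u} [∀ n, AddCommGroup (V n)] [∀ n, Module k (V n)]
  {W : ℕ → Type u} [∀ n, AddCommGroup (W n)] [∀ n, Module k (W n)]
  (dV : ∀ n, V n →ₗ[k] V (n + 1)) (dW : ∀ n, W n →ₗ[k] W (n + 1))
  (hV : ∀ n x, dV (n + 1) (dV n x) = 0) (hW : ∀ n x, dW (n + 1) (dW n x) = 0)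
  {A B : Type u} [AddCommGroup A] [Module k A] [AddCommGroup B] [Module k B]

/-- a map killing boundaries sees only the class of the corner -/
theorem map_eq_kclass {p q n : ℕ} (F : V (p + 1) →ₗ[k] A) (G : W (q + 1) →ₗ[k] B) (hF : F ∘ₗ dV p = 0)
    (hG : G ∘ₗ dW q = 0) {ξ : ∀ i j, V i ⊗[k] W j} (hξ : tD dV dW ξ = 0) (hn : p + 1 + (q + 1) = n) :
    TensorProduct.map F G (ξ (p + 1) (q + 1)) =
      TensorProduct.map (F ∘ₗ cincl dV hV (p + 1)) (G ∘ₗ cincl dW hW (q + 1))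
        (kclass dV dW hV hW n ξ ⟨(p + 1, q + 1), Finset.HasAntidiagonal.mem_antidiagonal.2 hn⟩) := by
  have hk := kh_eq dV dW hV hW ξ (p + 1) (q + 1)
  rw [hξ, map_zero, Pi.zero_apply, Pi.zero_apply, add_zero] at hk
  have hb : TensorProduct.map F G (tD dV dW (kh dV dW ξ) (p + 1) (q + 1)) = 0 := by
    rw [tD, dbl_succ_succ, map_add, tdh, tdv, LinearMap.smul_apply, map_smul, map_map_apply, map_map_apply,
      hF, hG, TensorProduct.map_zero_left, TensorProduct.map_zero_right]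
    simp
  have hc := cincl_map_kclass dV dW hV hW ξ
    (⟨(p + 1, q + 1), Finset.HasAntidiagonal.mem_antidiagonal.2 hn⟩ : Idx n)
  rw [← map_map_apply, hc]
  exact sub_eq_zero.1 ((map_sub _ _ _).symm.trans ((congrArg _ hk.symm).trans hb))

end Abstract

variable {R S T : Type u} [CommRing R] [CommRing S] [CommRing T]
  [Algebra k R] [Algebra k S] [Algebra k T]
  [IsNoetherianRing R] [IsNoetherianRing S] [IsNoetherianRing T]
  {𝒜 : ℤ → Submodule k R} [GradedAlgebra 𝒜] {ℬ : ℤ → Submodule k S} [GradedAlgebra ℬ]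
  {𝒯 : ℤ → Submodule k T} [GradedAlgebra 𝒯] {ψ : T →ₐ[k] R ⊗[k] S}
  (hT : GrSeg.IsSegreRing 𝒜 ℬ 𝒯 ψ)
  {mR : HomogeneousIdeal 𝒜} {mS : HomogeneousIdeal ℬ}
  (hposR : GrMod19.NonnegGr 𝒜) (hposS : GrMod19.NonnegGr ℬ)
  (hmR : GrMod19.IsPlus mR) (hmS : GrMod19.IsPlus mS)
  {Mg : GMod.{u} 𝒜} {Ng : GMod.{u} ℬ} (EM : StarInjRes 𝒜 Mg.gr) (EN : StarInjRes ℬ Ng.gr) (p q : ℕ)

local notation "DM" => punct₁ hposR hmR EM
local notation "DN" => punct₁ hposS hmS EN
local notation "XB" => (fun i => quotGam (EM.X i) mR)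
local notation "YB" => (fun j => quotGam (EN.X j) mS)

/-- the corner component in the tensor product of cokernels -/
noncomputable def phiTop : (BT hT mR mS EM EN (p + q + 2)).carrier →ₗ[k]
    (CK DM p).carrier ⊗[k] (CK DN q).carrier where
  toFun x := TensorProduct.map (linK (qK DM p)) (linK (qK DN q))
    (val (quotGam (EM.X (p + 1)) mR) (quotGam (EN.X (q + 1)) mS) hT (fam hT XB YB (p + q + 2) x (p + 1) (q + 1)))
  map_add' x y := by rw [map_add, Pi.add_apply, Pi.add_apply, map_add, map_add]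
  map_smul' c x := by
    show TensorProduct.map _ _ (val _ _ hT (fam hT XB YB (p + q + 2) (algebraMap k T c • x) (p + 1) (q + 1))) = _
    rw [map_smul, Pi.smul_apply, Pi.smul_apply, algebraMap_smul, map_smul, map_smul]
    rfl

theorem phiTop_smul (t : T) (x : (BT hT mR mS EM EN (p + q + 2)).carrier) :
    phiTop hT hposR hposS hmR hmS EM EN p q (t • x) =
      GrSeg.act k R S (CK DM p).carrier (CK DN q).carrier (ψ t) (phiTop hT hposR hposS hmR hmS EM EN p q x) := by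
  show TensorProduct.map _ _ (val _ _ hT (fam hT XB YB (p + q + 2) (t • x) (p + 1) (q + 1))) = _
  rw [map_smul, Pi.smul_apply, Pi.smul_apply, val_smul]
  exact act_map _ _ (qK DM p) (qK DN q) (ψ t) _

theorem phiTop_dBT (y : (BT hT mR mS EM EN (p + q + 1)).carrier) :
    phiTop hT hposR hposS hmR hmS EM EN p q (dBT hT mR mS EM EN (p + q + 1) y) = 0 := by
  show TensorProduct.map _ _ (val _ _ hT (fam hT XB YB (p + q + 2)
    (dBT hT mR mS EM EN (p + q + 1) y) (p + 1) (q + 1))) = 0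
  rw [fam_totD, dbl_succ_succ, map_add, map_add, segH, segV, LinearMap.smul_apply,
    show (-1 : T) ^ (p + 1) = algebraMap k T ((-1) ^ (p + 1)) by simp, algebraMap_smul, map_smul, map_smul]
  dsimp only
  show TensorProduct.map (linK (qK DM p)) (linK (qK DN q))
      (TensorProduct.map (linK (qmap mR (EM.d p))) (linK LinearMap.id) (val _ _ hT _)) +
    (-1 : k) ^ (p + 1) • TensorProduct.map (linK (qK DM p)) (linK (qK DN q))
      (TensorProduct.map (linK LinearMap.id) (linK (qmap mS (EN.d q))) (val _ _ hT _)) = 0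
  rw [map_map_apply, map_map_apply]
  rw [show linK (qK DM p) ∘ₗ linK (qmap mR (EM.d p)) = 0 from LinearMap.ext fun z => qK_dB DM p z,
    show linK (qK DN q) ∘ₗ linK (qmap mS (EN.d q)) = 0 from LinearMap.ext fun z => qK_dB DN q z,
    TensorProduct.map_zero_left, TensorProduct.map_zero_right]
  simp

/-- the index of the corner -/
def idxTop : Idx (p + q + 2) := ⟨(p + 1, q + 1), Finset.HasAntidiagonal.mem_antidiagonal.2 (by omega)⟩

theorem phiTop_eq_cls {d : ℤ} {x : (BT hT mR mS EM EN (p + q + 2)).carrier}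
    (hx : x ∈ (BT hT mR mS EM EN (p + q + 2)).gr d) (hD : dBT hT mR mS EM EN (p + q + 2) x = 0) :
    phiTop hT hposR hposS hmR hmS EM EN p q x =
      TensorProduct.map (linK (ιK DM p) ∘ₗ ζK DM p d) (linK (ιK DN q) ∘ₗ ζK DN q d)
        (clsB hT hposR hposS hmR hmS EM EN (p + q + 2) d x (idxTop p q)) := by
  have h := map_eq_kclass (dD DM d) (dD DN d) (dD_dD DM d) (dD_dD DN d)
    (linK (qK DM p) ∘ₗ (pieceK (quotGam (EM.X (p + 1)) mR) d).subtype)
    (linK (qK DN q) ∘ₗ (pieceK (quotGam (EN.X (q + 1)) mS) d).subtype)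
    (qK_subtype_dD DM p d) (qK_subtype_dD DN q d) (ξ := toLoc hT XB YB (p + q + 2) d x)
    ((toLoc_totD hT XB YB (fun i => qmap mR (EM.d i)) (fun j => qmap mS (EN.d j))
      (fun i => qmap_gr mR (EM.d_grHom i)) (fun j => qmap_gr mS (EN.d_grHom j)) (p + q + 2) d x).symm.trans
      ((congrArg (toLoc hT XB YB (p + q + 2 + 1) d) hD).trans (map_zero _)))
    (show p + 1 + (q + 1) = p + q + 2 by omega)
  have hF := qK_subtype_cincl DM p d
  have hG := qK_subtype_cincl DN q d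
  refine Eq.trans ?_ (h.trans (LinearMap.congr_fun (congrArg₂ TensorProduct.map hF hG) _))
  refine Eq.trans ?_ (map_map_apply _ _ _ _ _)
  exact congrArg _ (map_subtype_pd ((mem_gr_iff _ _ hT).1 (hx (p + 1) (q + 1)))).symm

end Groth.Agent.GrSeg54
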