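import Groth.Agent.GrSeg54.TopCoh

/-!
The top local cohomology of a presented Segre product.
-/

set_option autoImplicit false
set_option maxHeartbeats 400000

universe u

open scoped TensorProduct
open DirectSum GrLC

namespace Groth.Agent.GrSeg54

open Groth.Agent.CAlg6

section Bij

variable {R : Type u} [CommRing R] [IsNoetherianRing R] {σ : Type u} [SetLike σ R] [AddSubgroupClass σ R]
  {𝒜 : ℤ → σ} [GradedRing 𝒜] {M : Type u} [AddCommGroup M] [Module R M] {τ : Type u} [SetLike τ M]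
  [AddSubgroupClass τ M] {ℳ : ℤ → τ} [Decomposition ℳ] [SetLike.GradedSMul 𝒜 ℳ]
  {N : Type u} [AddCommGroup N] [Module R N] {τ' : Type u} [SetLike τ' N] [AddSubgroupClass τ' N]
  {𝒩 : ℤ → τ'} [Decomposition 𝒩] [SetLike.GradedSMul 𝒜 𝒩]

omit [IsNoetherianRing R] in
theorem exists_hBij (a : HomogeneousIdeal 𝒜) (e : M ≃ₗ[R] N) (he : IsGrHom ℳ 𝒩 e.toLinearMap)
    (he' : IsGrHom 𝒩 ℳ e.symm.toLinearMap) (E : StarInjRes 𝒜 ℳ) (F : StarInjRes 𝒜 𝒩) (i : ℕ) :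
    ∃ φ : E.H a i →ₗ[R] F.H a i, GrBij (E.Hgr a i) (F.Hgr a i) φ := by
  let φ := GrMod19.hEquiv E F a e (GrMod19.isGrHomDeg_zero_iff.2 he) (GrMod19.isGrHomDeg_zero_iff.2 he')
    (add_zero 0) i
  exact ⟨φ.toLinearMap, φ.bijective,
    fun n y hy => GrMod19.hMap_mem_Hcomp₀ a E F (GrMod19.isGrHomDeg_zero_iff.2 he) hy,
    fun n y hy => ⟨φ.symm y, GrMod19.hMap_mem_Hcomp₀ a F E (GrMod19.isGrHomDeg_zero_iff.2 he') hy,
      φ.apply_symm_apply y⟩⟩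

end Bij

variable {k : Type u} [Field k] {R S T : Type u} [CommRing R] [CommRing S] [CommRing T]
  [Algebra k R] [Algebra k S] [Algebra k T]

section Transfer

variable {A B A' B' : Type u} [AddCommGroup A] [Module R A] [Module k A] [IsScalarTower k R A]
  [AddCommGroup B] [Module S B] [Module k B] [IsScalarTower k S B]
  [AddCommGroup A'] [Module R A'] [Module k A'] [IsScalarTower k R A']
  [AddCommGroup B'] [Module S B'] [Module k B'] [IsScalarTower k S B'] (f : A →ₗ[R] A') (g : B →ₗ[S] B')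

theorem act_map' (c : R ⊗[k] S) (w : A ⊗[k] B) :
    TensorProduct.map (f.restrictScalars k) (g.restrictScalars k) (GrSeg.act k R S A B c w) =
      GrSeg.act k R S A' B' c (TensorProduct.map (f.restrictScalars k) (g.restrictScalars k) w) := by
  induction c using TensorProduct.induction_on with
  | zero => simp
  | add a b ha hb => simp [map_add, LinearMap.add_apply, ha, hb]
  | tmul r s =>
    induction w using TensorProduct.induction_on with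
    | zero => simp
    | add a b ha hb => rw [map_add, map_add, map_add, map_add, ha, hb]
    | tmul a b => simp [GrSeg.act_tmul, map_smul]

variable {σ₁ σ₂ σ₃ σ₄ : Type u} [SetLike σ₁ A] [AddSubgroupClass σ₁ A] [SetLike σ₂ B] [AddSubgroupClass σ₂ B]
  [SetLike σ₃ A'] [AddSubgroupClass σ₃ A'] [SetLike σ₄ B'] [AddSubgroupClass σ₄ B']
  {𝒳 : ℤ → σ₁} {𝒴 : ℤ → σ₂} {𝒳' : ℤ → σ₃} {𝒴' : ℤ → σ₄} {f g}

theorem segrePiece_image (hf : GrBij 𝒳 𝒳' f) (hg : GrBij 𝒴 𝒴' g) (d : ℤ) :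
    TensorProduct.map (f.restrictScalars k) (g.restrictScalars k) '' (GrSeg.segrePiece k 𝒳 𝒴 d : Set _) =
      (GrSeg.segrePiece k 𝒳' 𝒴' d : Set _) := by
  rw [← Submodule.map_coe, GrSeg.segrePiece, Submodule.map_span]
  congr 2
  refine Set.ext fun u => ⟨?_, ?_⟩
  · rintro ⟨_, ⟨a, ha, b, hb, rfl⟩, rfl⟩
    exact ⟨f a, hf.map_mem d a ha, g b, hg.map_mem d b hb, TensorProduct.map_tmul _ _ _ _⟩
  · rintro ⟨a, ha, b, hb, rfl⟩
    obtain ⟨a', ha', rfl⟩ := hf.exists_mem d a ha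
    obtain ⟨b', hb', rfl⟩ := hg.exists_mem d b hb
    exact ⟨a' ⊗ₜ b', ⟨a', ha', b', hb', rfl⟩, TensorProduct.map_tmul _ _ _ _⟩

end Transfer

variable [Algebra.FiniteType k R] [Algebra.FiniteType k S]
  {𝒜 : ℤ → Submodule k R} [GradedAlgebra 𝒜] {ℬ : ℤ → Submodule k S} [GradedAlgebra ℬ]
  {𝒯 : ℤ → Submodule k T} [GradedAlgebra 𝒯] {ψ : T →ₐ[k] R ⊗[k] S}
  {M N P : Type u} [AddCommGroup M] [Module R M] [Module k M] [IsScalarTower k R M]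
  [AddCommGroup N] [Module S N] [Module k N] [IsScalarTower k S N]
  [AddCommGroup P] [Module T P] [Module k P] [IsScalarTower k T P]
  {σM σN σQ : Type u} [SetLike σM M] [AddSubgroupClass σM M] [SetLike σN N] [AddSubgroupClass σN N]
  [SetLike σQ P] [AddSubgroupClass σQ P]
  {ℳ : ℤ → σM} [Decomposition ℳ] [SetLike.GradedSMul 𝒜 ℳ]
  {𝒩 : ℤ → σN} [Decomposition 𝒩] [SetLike.GradedSMul ℬ 𝒩]
  {𝒬 : ℤ → σQ} [Decomposition 𝒬] [SetLike.GradedSMul 𝒯 𝒬] {φ : P →ₗ[k] M ⊗[k] N}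
  {mR : HomogeneousIdeal 𝒜} {mS : HomogeneousIdeal ℬ} {mT : HomogeneousIdeal 𝒯}

set_option maxHeartbeats 1000000 in
/-- the top local cohomology is a Segre product -/
theorem exists_topSegre (hT : GrSeg.IsSegreRing 𝒜 ℬ 𝒯 ψ) (hP : GrSeg.IsSegreMod ψ ℳ 𝒩 𝒬 φ)
    (hposR : ∀ n : ℤ, n < 0 → 𝒜 n = ⊥) (hposS : ∀ n : ℤ, n < 0 → ℬ n = ⊥)
    (hmR : GrMod19.IsPlus mR) (hmS : GrMod19.IsPlus mS) (hmT : GrMod19.IsPlus mT)
    (EM : StarInjRes 𝒜 ℳ) (EN : StarInjRes ℬ 𝒩) (EP : StarInjRes 𝒯 𝒬) (p q : ℕ)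
    (hM : ∀ i d, GrMod19.VanH mR ℳ (p + 3 + i) d) (hN : ∀ i d, GrMod19.VanH mS 𝒩 (q + 3 + i) d) :
    ∃ Θ : EP.H mT (p + q + 3) →+ EM.H mR (p + 2) ⊗[k] EN.H mS (q + 2),
      Function.Injective Θ ∧
      (∀ d, Θ '' (EP.Hgr mT (p + q + 3) d : Set _) =
        (GrSeg.segrePiece k (EM.Hgr mR (p + 2)) (EN.Hgr mS (q + 2)) d : Set _)) ∧
      ∀ (t : T) y, Θ (t • y) = GrSeg.act k R S (EM.H mR (p + 2)) (EN.H mS (q + 2)) (ψ t) (Θ y) := by
  haveI := Algebra.FiniteType.isNoetherianRing k R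
  haveI := Algebra.FiniteType.isNoetherianRing k S
  haveI := isNoetherianRing_segre hT
  obtain ⟨EM'⟩ := GrInj18.nonempty_starInjRes 𝒜 (gN 𝒜 ℳ).gr
  obtain ⟨EN'⟩ := GrInj18.nonempty_starInjRes ℬ (gN ℬ 𝒩).gr
  obtain ⟨EW⟩ := GrInj18.nonempty_starInjRes 𝒯 (segG (gN 𝒜 ℳ) (gN ℬ 𝒩) hT).gr
  obtain ⟨e, he, he'⟩ := exists_segEquiv hT hP
  obtain ⟨c₁, hc₁⟩ := exists_hBij mT e he he' EP EW (p + q + 3)
  have hpR := nonnegGr_of_bot hposR
  have hpS := nonnegGr_of_bot hposS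
  have hpT := nonnegGr_of_bot (segre_nonneg hT hposR)
  obtain ⟨c₂, hc₂⟩ := Punct.exists_highBij (punct₂ hT hpR hpS hpT hmR hmS hmT EM' EN') EW (p + q + 1)
  obtain ⟨Θ, hΘi, hΘp, hΘs⟩ := exists_qmTop hT hpR hpS hpT hmR hmS hmT EM' EN' p q
    (fun i d => (vanH_gN_iff EM' _ d).1 (hM i d)) (fun i d => (vanH_gN_iff EN' _ d).1 (hN i d))
  let eM : (gN 𝒜 ℳ).carrier ≃ₗ[R] M :=
    { toFun := fun m => m
      invFun := fun m => m
      left_inv := fun _ => rfl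
      right_inv := fun _ => rfl
      map_add' := fun _ _ => rfl
      map_smul' := fun _ _ => rfl }
  let eN : (gN ℬ 𝒩).carrier ≃ₗ[S] N :=
    { toFun := fun m => m
      invFun := fun m => m
      left_inv := fun _ => rfl
      right_inv := fun _ => rfl
      map_add' := fun _ _ => rfl
      map_smul' := fun _ _ => rfl }
  obtain ⟨f₁, hf₁⟩ := Punct.exists_highBij (punct₁ hpR hmR EM') EM' p
  obtain ⟨f₁', hf₁'⟩ := hf₁.symm
  obtain ⟨f₂, hf₂⟩ := exists_hBij (ℳ := (gN 𝒜 ℳ).gr) (𝒩 := ℳ) mR eM (fun _ _ h => h) (fun _ _ h => h) EM' EM (p + 2)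
  obtain ⟨g₁, hg₁⟩ := Punct.exists_highBij (punct₁ hpS hmS EN') EN' q
  obtain ⟨g₁', hg₁'⟩ := hg₁.symm
  obtain ⟨g₂, hg₂⟩ := exists_hBij (ℳ := (gN ℬ 𝒩).gr) (𝒩 := 𝒩) mS eN (fun _ _ h => h) (fun _ _ h => h) EN' EN (q + 2)
  let f := f₂ ∘ₗ f₁'
  let g := g₂ ∘ₗ g₁'
  have hf := hf₁'.comp hf₂
  have hg := hg₁'.comp hg₂
  let F := TensorProduct.map (f.restrictScalars k) (g.restrictScalars k)
  refine ⟨F.toAddMonoidHom.comp (Θ.toAddMonoidHom.comp (c₂ ∘ₗ c₁).toAddMonoidHom),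
    (TensorProduct.map_injective_of_flat_flat (f.restrictScalars k) (g.restrictScalars k) hf.bij.1 hg.bij.1).comp (hΘi.comp (hc₁.comp hc₂).bij.1),
    fun d => ?_, fun t y => ?_⟩
  · have h1 : (c₂ ∘ₗ c₁) '' (EP.Hgr mT (p + q + 3) d : Set _) =
        ((Punct.Qm (punct₂ hT hpR hpS hpT hmR hmS hmT EM' EN') (p + q + 1)).gr d : Set _) := by
      refine Set.ext fun u => ⟨?_, fun hu => ?_⟩
      · rintro ⟨y, hy, rfl⟩
        exact (hc₁.comp hc₂).map_mem d y hy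
      · obtain ⟨y, hy, hyu⟩ := (hc₁.comp hc₂).exists_mem d u hu
        exact ⟨y, hy, hyu⟩
    show (fun y => F (Θ ((c₂ ∘ₗ c₁) y))) '' _ = _
    rw [← Set.image_image F (fun y => Θ ((c₂ ∘ₗ c₁) y)), ← Set.image_image Θ (c₂ ∘ₗ c₁), h1, hΘp]
    exact segrePiece_image hf hg d
  · show F (Θ ((c₂ ∘ₗ c₁) (t • y))) = GrSeg.act k R S _ _ (ψ t) (F (Θ ((c₂ ∘ₗ c₁) y)))
    rw [map_smul, hΘs]
    exact act_map' f g (ψ t) _

end Groth.Agent.GrSeg54
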