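import Groth.Agent.GrSeg54.Cx
import Mathlib.LinearAlgebra.TensorProduct.RightExactness

/-!
The punctured-spectrum data of a Segre product of two graded modules, and the Künneth description of
its cohomology in each degree.
-/

set_option autoImplicit false

universe u

open scoped TensorProduct
open DirectSum GrLC

namespace Groth.Agent.GrSeg54

open Groth.Agent.CAlg6

variable {k : Type u} [Field k]

theorem tmul_subsingleton {V W : Type u} [AddCommGroup V] [Module k V] [AddCommGroup W] [Module k W]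
    (h : Subsingleton V ∨ Subsingleton W) : Subsingleton (V ⊗[k] W) := by
  refine subsingleton_of_forall_eq 0 fun x => ?_
  induction x using TensorProduct.induction_on with
  | zero => rfl
  | add a b ha hb => rw [ha, hb, add_zero]
  | tmul a b =>
    rcases h with h | h
    · rw [Subsingleton.elim a 0, TensorProduct.zero_tmul]
    · rw [Subsingleton.elim b 0, TensorProduct.tmul_zero]

theorem map_map_apply {A B C A' B' C' : Type u} [AddCommGroup A] [AddCommGroup B] [AddCommGroup C] [AddCommGroup A']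
    [AddCommGroup B'] [AddCommGroup C'] [Module k A] [Module k B] [Module k C] [Module k A'] [Module k B']
    [Module k C'] (f : B →ₗ[k] C) (f' : B' →ₗ[k] C') (g : A →ₗ[k] B) (g' : A' →ₗ[k] B') (z : A ⊗[k] A') :
    TensorProduct.map f f' (TensorProduct.map g g' z) = TensorProduct.map (f ∘ₗ g) (f' ∘ₗ g') z :=
  (LinearMap.congr_fun (TensorProduct.map_comp f f' g g') z).symm

section One

variable {R : Type u} [CommRing R] [Algebra k R] {𝒜 : ℤ → Submodule k R} [GradedAlgebra 𝒜]

/-- the cohomology of the resolution in one degree vanishes in positive degrees -/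
theorem subsingleton_coh_res {M : GMod.{u} 𝒜} (E : StarInjRes 𝒜 M.gr) (d : ℤ) (i : ℕ) :
    Subsingleton (Coh (fun i => pmap (E.d i) (E.d_grHom i) d) (i + 1)) := by
  refine subsingleton_of_forall_eq 0 fun c => ?_
  induction c using Submodule.Quotient.induction_on with
  | _ z =>
    refine (Submodule.Quotient.mk_eq_zero _).2 ?_
    have h : E.d (i + 1) z.1.1 = 0 := congrArg Subtype.val (LinearMap.mem_ker.1 z.2)
    have h' : z.1.1 ∈ LinearMap.ker (E.d (i + 1)) := h
    rw [E.exact_succ] at h'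
    obtain ⟨w, hw, he⟩ := GrMod19.exists_homog_preimage _ _ (E.d_grHom i) h' z.1.2
    exact ⟨⟨w, hw⟩, Subtype.ext he⟩

/-- the augmentation into degree-zero cohomology -/
noncomputable def augCoh {M : GMod.{u} 𝒜} (E : StarInjRes 𝒜 M.gr) (d : ℤ) :
    pieceK M d →ₗ[k] Coh (fun i => pmap (E.d i) (E.d_grHom i) d) 0 :=
  Submodule.mkQ _ ∘ₗ ((linK E.ε).restrict fun x hx => E.ε_grHom d x hx).codRestrict
    (LinearMap.ker (pmap (E.d 0) (E.d_grHom 0) d)) fun x =>
      LinearMap.mem_ker.2 (Subtype.ext (GrMod19.d_comp_ε E x.1))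

theorem augCoh_surjective {M : GMod.{u} 𝒜} (E : StarInjRes 𝒜 M.gr) (d : ℤ) : Function.Surjective (augCoh E d) := by
  intro c
  induction c using Submodule.Quotient.induction_on with
  | _ z =>
    have h : E.d 0 z.1.1 = 0 := congrArg Subtype.val (LinearMap.mem_ker.1 z.2)
    have h' : z.1.1 ∈ LinearMap.ker (E.d 0) := h
    rw [E.exact_zero] at h'
    obtain ⟨m, hm, he⟩ := GrMod19.exists_homog_preimage _ _ E.ε_grHom h' z.1.2
    exact ⟨⟨m, hm⟩, congrArg Submodule.Quotient.mk (Subtype.ext (Subtype.ext he))⟩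

variable {a : HomogeneousIdeal 𝒜} {P : GMod.{u} 𝒜} (D : Punct a P)

theorem pmap_dB_dB (d : ℤ) (i : ℕ) (x : pieceK (D.B i) d) :
    pmap (D.dB (i + 1)) (D.dB_gr (i + 1)) d (pmap (D.dB i) (D.dB_gr i) d x) = 0 :=
  Subtype.ext (D.dB_dB i x.1)

/-- cycles of degree `d` as elements of the subcomplex -/
noncomputable def cycK (d : ℤ) (n : ℕ) :
    LinearMap.ker (pmap (D.dB n) (D.dB_gr n) d) →ₗ[k] D.Zc n d where
  toFun z := ⟨z.1.1, z.1.2, congrArg Subtype.val (LinearMap.mem_ker.1 z.2)⟩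
  map_add' _ _ := rfl
  map_smul' _ _ := rfl

theorem cycK_bijective (d : ℤ) (n : ℕ) : Function.Bijective (cycK D d n) :=
  ⟨fun x y h => Subtype.ext (Subtype.ext (congrArg Subtype.val h :)),
    fun z => ⟨⟨⟨z.1, z.2.1⟩, LinearMap.mem_ker.2 (Subtype.ext z.2.2)⟩, rfl⟩⟩

theorem nonempty_cohEquiv (d : ℤ) (n : ℕ) :
    Nonempty (Coh (fun i => pmap (D.dB i) (D.dB_gr i) d) (n + 1) ≃ₗ[k] D.HB n d) := by
  let q : D.Zc (n + 1) d →ₗ[k] D.HB n d := ((D.Bc n d).comap (D.Zc (n + 1) d).subtype).mkQ.restrictScalars k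
  let f := q ∘ₗ cycK D d (n + 1)
  have hf : Function.Surjective f := (Submodule.mkQ_surjective _).comp (cycK_bijective D d (n + 1)).2
  have hk : LinearMap.ker f =
      (bdy (fun i => pmap (D.dB i) (D.dB_gr i) d) (n + 1)).comap
        (LinearMap.ker (pmap (D.dB (n + 1)) (D.dB_gr (n + 1)) d)).subtype := by
    ext z
    constructor
    · intro h
      obtain ⟨w, hw, he⟩ := (Submodule.Quotient.mk_eq_zero _).1 (LinearMap.mem_ker.1 h)
      exact ⟨⟨w, hw⟩, Subtype.ext he⟩
    · rintro ⟨w, hw⟩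
      exact LinearMap.mem_ker.2 ((Submodule.Quotient.mk_eq_zero _).2 ⟨w.1, w.2, congrArg Subtype.val hw⟩)
  exact ⟨(Submodule.quotEquivOfEq _ _ hk.symm).trans (f.quotKerEquivOfSurjective hf)⟩

/-- degree-zero cohomology is the cycles -/
noncomputable def coh0Equiv (d : ℤ) : Coh (fun i => pmap (D.dB i) (D.dB_gr i) d) 0 ≃ₗ[k] D.Zc 0 d :=
  (Submodule.quotEquivOfEqBot _ (by
    show Submodule.comap _ ⊥ = ⊥
    exact Submodule.ker_subtype _)).trans (LinearEquiv.ofBijective (cycK D d 0) (cycK_bijective D d 0))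

end One

variable {R S T : Type u} [CommRing R] [CommRing S] [CommRing T]
  [Algebra k R] [Algebra k S] [Algebra k T]
  [IsNoetherianRing R] [IsNoetherianRing S] [IsNoetherianRing T]
  {𝒜 : ℤ → Submodule k R} [GradedAlgebra 𝒜] {ℬ : ℤ → Submodule k S} [GradedAlgebra ℬ]
  {𝒯 : ℤ → Submodule k T} [GradedAlgebra 𝒯] {ψ : T →ₐ[k] R ⊗[k] S}
  (hT : GrSeg.IsSegreRing 𝒜 ℬ 𝒯 ψ)
  {mR : HomogeneousIdeal 𝒜} {mS : HomogeneousIdeal ℬ} {mT : HomogeneousIdeal 𝒯}
  (hposR : GrMod19.NonnegGr 𝒜) (hposS : GrMod19.NonnegGr ℬ) (hposT : GrMod19.NonnegGr 𝒯)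
  (hmR : GrMod19.IsPlus mR) (hmS : GrMod19.IsPlus mS) (hmT : GrMod19.IsPlus mT)

section Kill

variable (X : GMod.{u} 𝒜) (Y : GMod.{u} ℬ)

include hT hposR hmR hposT hmT in
theorem exists_kill_left {x : X.carrier} (hx : x ∈ gam mR.toIdeal X.carrier) (y : Y.carrier) :
    ∃ K : ℕ, ∀ r ∈ mT.toIdeal ^ K, GrSeg.act k R S X.carrier Y.carrier (ψ r) (x ⊗ₜ[k] y) = 0 := by
  obtain ⟨c, hc⟩ := hx
  obtain ⟨B, hB⟩ := GrMod19.exists_pow_of_degree hposR hmR c
  refine ⟨B.toNat, fun r hr => ?_⟩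
  obtain ⟨t, ht⟩ := GrMod19.exists_sum_cmp 𝒯 r
  rw [← ht, map_sum, map_sum, LinearMap.sum_apply]
  refine Finset.sum_eq_zero fun d _ => ?_
  rcases lt_or_ge d (B.toNat : ℤ) with hd | hd
  · rw [GrMod19.cmp_eq_zero_of_mem_pow hposT hmT _ hr d hd, map_zero, map_zero, LinearMap.zero_apply]
  · have hmem := Seg.psi_mem_piece hT (GrMod19.cmp_mem 𝒯 d r)
    generalize ψ (GrMod19.cmp 𝒯 d r) = w at hmem ⊢
    induction hmem using Submodule.span_induction with
    | zero => rw [map_zero, LinearMap.zero_apply]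
    | add a b _ _ ha hb => rw [map_add, LinearMap.add_apply, ha, hb, add_zero]
    | smul s a _ ha => rw [map_smul, LinearMap.smul_apply, ha, smul_zero]
    | mem a ha =>
      obtain ⟨p, hp, q, hq, rfl⟩ := ha
      rw [GrSeg.act_tmul, hc p (hB d (le_trans (Int.self_le_toNat B) hd) p hp), TensorProduct.zero_tmul]

include hT hposS hmS hposT hmT in
theorem exists_kill_right {y : Y.carrier} (hy : y ∈ gam mS.toIdeal Y.carrier) (x : X.carrier) :
    ∃ K : ℕ, ∀ r ∈ mT.toIdeal ^ K, GrSeg.act k R S X.carrier Y.carrier (ψ r) (x ⊗ₜ[k] y) = 0 := by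
  obtain ⟨c, hc⟩ := hy
  obtain ⟨B, hB⟩ := GrMod19.exists_pow_of_degree hposS hmS c
  refine ⟨B.toNat, fun r hr => ?_⟩
  obtain ⟨t, ht⟩ := GrMod19.exists_sum_cmp 𝒯 r
  rw [← ht, map_sum, map_sum, LinearMap.sum_apply]
  refine Finset.sum_eq_zero fun d _ => ?_
  rcases lt_or_ge d (B.toNat : ℤ) with hd | hd
  · rw [GrMod19.cmp_eq_zero_of_mem_pow hposT hmT _ hr d hd, map_zero, map_zero, LinearMap.zero_apply]
  · have hmem := Seg.psi_mem_piece hT (GrMod19.cmp_mem 𝒯 d r)
    generalize ψ (GrMod19.cmp 𝒯 d r) = w at hmem ⊢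
    induction hmem using Submodule.span_induction with
    | zero => rw [map_zero, LinearMap.zero_apply]
    | add a b _ _ ha hb => rw [map_add, LinearMap.add_apply, ha, hb, add_zero]
    | smul s a _ ha => rw [map_smul, LinearMap.smul_apply, ha, smul_zero]
    | mem a ha =>
      obtain ⟨p, hp, q, hq, rfl⟩ := ha
      rw [GrSeg.act_tmul, hc q (hB d (le_trans (Int.self_le_toNat B) hd) q hq), TensorProduct.tmul_zero]

include hT hposR hposS hposT hmR hmS hmT in
theorem mem_gam_of_segMap_qgam {v : (segG X Y hT).carrier}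
    (h : segMap X Y hT (qgam mR X) (qgam mS Y) (qgam_gr mR X) (qgam_gr mS Y) v = 0) :
    v ∈ gam mT.toIdeal (segG X Y hT).carrier := by
  let Γ : Submodule k X.carrier := (gam mR.toIdeal X.carrier).restrictScalars k
  let Δ : Submodule k Y.carrier := (gam mS.toIdeal Y.carrier).restrictScalars k
  have hX : Function.Exact Γ.subtype (linK (qgam mR X)) := fun x => by
    refine ⟨fun hx => ⟨⟨x, qgam_eq_zero mR hx⟩, rfl⟩, ?_⟩
    rintro ⟨y, rfl⟩
    exact (Submodule.Quotient.mk_eq_zero _).2 y.2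
  have hY : Function.Exact Δ.subtype (linK (qgam mS Y)) := fun x => by
    refine ⟨fun hx => ⟨⟨x, qgam_eq_zero mS hx⟩, rfl⟩, ?_⟩
    rintro ⟨y, rfl⟩
    exact (Submodule.Quotient.mk_eq_zero _).2 y.2
  have hker : val X Y hT v ∈ LinearMap.range (LinearMap.lTensor X.carrier Δ.subtype) ⊔
      LinearMap.range (LinearMap.rTensor Y.carrier Γ.subtype) := by
    rw [← TensorProduct.map_ker hX (qgam_surjective mR X) hY (qgam_surjective mS Y)]
    exact congrArg (val _ _ hT) h
  suffices hK : ∀ u ∈ LinearMap.range (LinearMap.lTensor X.carrier Δ.subtype) ⊔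
      LinearMap.range (LinearMap.rTensor Y.carrier Γ.subtype),
      ∃ K : ℕ, ∀ r ∈ mT.toIdeal ^ K, GrSeg.act k R S X.carrier Y.carrier (ψ r) u = 0 by
    obtain ⟨K, hK⟩ := hK _ hker
    exact ⟨K, fun r hr => val_injective X Y hT (by rw [val_smul, hK r hr, map_zero])⟩
  intro u hu
  have hadd : ∀ {u u' : X.carrier ⊗[k] Y.carrier},
      (∃ K : ℕ, ∀ r ∈ mT.toIdeal ^ K, GrSeg.act k R S X.carrier Y.carrier (ψ r) u = 0) →
      (∃ K : ℕ, ∀ r ∈ mT.toIdeal ^ K, GrSeg.act k R S X.carrier Y.carrier (ψ r) u' = 0) →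
      ∃ K : ℕ, ∀ r ∈ mT.toIdeal ^ K, GrSeg.act k R S X.carrier Y.carrier (ψ r) (u + u') = 0 := by
    rintro u u' ⟨K, hK⟩ ⟨K', hK'⟩
    exact ⟨K + K', fun r hr => by
      rw [map_add, hK r (Ideal.pow_le_pow_right (Nat.le_add_right K K') hr),
        hK' r (Ideal.pow_le_pow_right (Nat.le_add_left K' K) hr), add_zero]⟩
  obtain ⟨p, ⟨p', rfl⟩, q, ⟨q', rfl⟩, rfl⟩ := Submodule.mem_sup.1 hu
  clear hu
  refine hadd ?_ ?_
  · induction p' using TensorProduct.induction_on with
    | zero => exact ⟨0, fun r _ => by rw [map_zero, map_zero]⟩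
    | add a b ha hb =>
      rw [map_add]
      exact hadd ha hb
    | tmul a b =>
      rw [LinearMap.lTensor_tmul]
      exact exists_kill_right hT hposS hposT hmS hmT X Y b.2 a
  · induction q' using TensorProduct.induction_on with
    | zero => exact ⟨0, fun r _ => by rw [map_zero, map_zero]⟩
    | add a b ha hb =>
      rw [map_add]
      exact hadd ha hb
    | tmul a b =>
      rw [LinearMap.rTensor_tmul]
      exact exists_kill_left hT hposR hposT hmR hmT X Y a.2 b

end Kill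

section Data

variable {Mg : GMod.{u} 𝒜} {Ng : GMod.{u} ℬ} (EM : StarInjRes 𝒜 Mg.gr) (EN : StarInjRes ℬ Ng.gr)

/-- the total complex of the resolutions -/
noncomputable abbrev AT (n : ℕ) : GMod.{u} 𝒯 := totG hT EM.X EN.X n

variable (mR mS) in
/-- the total complex of the torsion-free quotients -/
noncomputable abbrev BT (n : ℕ) : GMod.{u} 𝒯 :=
  totG hT (fun i => quotGam (EM.X i) mR) (fun j => quotGam (EN.X j) mS) n

variable (mR mS) in
/-- the pointwise projection -/
noncomputable def cellπ (i j : ℕ) :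
    cell hT EM.X EN.X i j →ₗ[T] cell hT (fun i => quotGam (EM.X i) mR) (fun j => quotGam (EN.X j) mS) i j :=
  segMap (EM.X i) (EN.X j) hT (qgam mR _) (qgam mS _) (qgam_gr mR _) (qgam_gr mS _)

variable (mR mS) in
/-- the projection of the total complexes -/
noncomputable def totπ (n : ℕ) : (AT hT EM EN n).carrier →ₗ[T] (BT hT mR mS EM EN n).carrier :=
  (LinearMap.pi fun i => LinearMap.pi fun j => cellπ hT mR mS EM EN i j ∘ₗ LinearMap.proj j ∘ₗ LinearMap.proj i
    : (∀ i j, cell hT EM.X EN.X i j) →ₗ[T]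
      ∀ i j, cell hT (fun i => quotGam (EM.X i) mR) (fun j => quotGam (EN.X j) mS) i j).restrict
    fun x hx i j h => by
      show cellπ hT mR mS EM EN i j (x i j) = 0
      rw [hx i j h, map_zero]

theorem fam_totπ (n : ℕ) (x : (AT hT EM EN n).carrier) (i j : ℕ) :
    fam hT _ _ n (totπ hT mR mS EM EN n x) i j = cellπ hT mR mS EM EN i j (fam hT _ _ n x i j) := rfl

/-- the family of the augmentation -/
noncomputable def epsFam : (segG Mg Ng hT).carrier →ₗ[T] ∀ i j, cell hT EM.X EN.X i j :=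
  LinearMap.pi fun i => LinearMap.pi fun j => match i, j with
    | 0, 0 => segMap Mg Ng hT EM.ε EN.ε EM.ε_grHom EN.ε_grHom
    | 0, _ + 1 => 0
    | _ + 1, _ => 0

/-- the augmentation -/
noncomputable def totε : (segG Mg Ng hT).carrier →ₗ[T] (AT hT EM EN 0).carrier :=
  (epsFam hT EM EN).codRestrict (supp T (cell hT EM.X EN.X) 0) fun v i j h => by
    rcases i with _ | i <;> rcases j with _ | j
    · exact absurd rfl h
    all_goals rfl

theorem fam_totε_zero (v : (segG Mg Ng hT).carrier) :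
    fam hT _ _ 0 (totε hT EM EN v) 0 0 = segMap Mg Ng hT EM.ε EN.ε EM.ε_grHom EN.ε_grHom v := rfl

theorem fam_zero_ext {X : ℕ → GMod.{u} 𝒜} {Y : ℕ → GMod.{u} ℬ} {x y : (totG hT X Y 0).carrier}
    (h : fam hT X Y 0 x 0 0 = fam hT X Y 0 y 0 0) : x = y := by
  refine fam_injective hT X Y 0 (funext fun i => funext fun j => ?_)
  rcases Nat.eq_zero_or_pos (i + j) with hij | hij
  · obtain ⟨rfl, rfl⟩ : i = 0 ∧ j = 0 := by omega
    exact h
  · rw [fam_mem hT X Y 0 x i j (by omega), fam_mem hT X Y 0 y i j (by omega)]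

theorem totε_gr : IsGrHom (segG Mg Ng hT).gr (AT hT EM EN 0).gr (totε hT EM EN) := fun d v hv i j => by
  rcases i with _ | i <;> rcases j with _ | j
  · exact segMap_gr Mg Ng hT EM.ε EN.ε EM.ε_grHom EN.ε_grHom d v hv
  all_goals exact zero_mem _

/-- the differential of the resolutions' total complex -/
noncomputable abbrev dAT (n : ℕ) : (AT hT EM EN n).carrier →ₗ[T] (AT hT EM EN (n + 1)).carrier :=
  totD hT EM.X EN.X EM.d EN.d EM.d_grHom EN.d_grHom n

variable (mR mS) in
/-- the differential of the quotient complex -/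
noncomputable abbrev dBT (n : ℕ) : (BT hT mR mS EM EN n).carrier →ₗ[T] (BT hT mR mS EM EN (n + 1)).carrier :=
  totD hT (fun i => quotGam (EM.X i) mR) (fun j => quotGam (EN.X j) mS) (fun i => qmap mR (EM.d i))
    (fun j => qmap mS (EN.d j)) (fun i => qmap_gr mR (EM.d_grHom i)) (fun j => qmap_gr mS (EN.d_grHom j)) n

theorem comm_totπ (n : ℕ) (x : (AT hT EM EN n).carrier) :
    totπ hT mR mS EM EN (n + 1) (dAT hT EM EN n x) = dBT hT mR mS EM EN n (totπ hT mR mS EM EN n x) := by
  refine fam_injective hT _ _ _ (funext fun i => funext fun j => ?_)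
  rw [fam_totπ, fam_totD, fam_totD]
  refine dbl_natural (segH hT EM.X EN.X EM.d EM.d_grHom) (segV hT EM.X EN.X EN.d EN.d_grHom)
    (segH hT (fun i => quotGam (EM.X i) mR) (fun j => quotGam (EN.X j) mS) (fun i => qmap mR (EM.d i))
      fun i => qmap_gr mR (EM.d_grHom i))
    (segV hT (fun i => quotGam (EM.X i) mR) (fun j => quotGam (EN.X j) mS) (fun j => qmap mS (EN.d j))
      fun j => qmap_gr mS (EN.d_grHom j))
    (fun i j => (cellπ hT mR mS EM EN i j).toAddMonoidHom) (fun i j y => ?_) (fun i j y => ?_) (fam hT _ _ n x) i j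
  · show cellπ hT mR mS EM EN (i + 1) j (segH hT _ _ _ _ i j y) = segH hT _ _ _ _ i j (cellπ hT mR mS EM EN i j y)
    refine val_injective _ _ hT ?_
    rw [cellπ, cellπ, segH, segH, val_segMap, val_segMap, val_segMap, val_segMap]
    rw [map_map_apply, map_map_apply]
    rfl
  · show cellπ hT mR mS EM EN i (j + 1) (segV hT _ _ _ _ i j y) = segV hT _ _ _ _ i j (cellπ hT mR mS EM EN i j y)
    simp only [segV, LinearMap.smul_apply, map_smul]
    refine congrArg _ (val_injective _ _ hT ?_)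
    rw [cellπ, cellπ, val_segMap, val_segMap, val_segMap, val_segMap]
    rw [map_map_apply, map_map_apply]
    rfl

theorem totπ_surjective (n : ℕ) : Function.Surjective (totπ hT mR mS EM EN n) := by
  intro y
  classical
  choose u hu using fun i j => segMap_surjective (EM.X i) (EN.X j) hT (qgam_gr mR _) (qgam_gr mS _)
    (qgam_surjective mR _) (qgam_surjective mS _) (fam hT _ _ n y i j)
  obtain ⟨x, hx⟩ := exists_fam_eq hT EM.X EN.X (n := n)
    (F := fun i j => if i + j = n then u i j else 0) fun i j h => if_neg h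
  refine ⟨x, fam_injective hT _ _ _ (funext fun i => funext fun j => ?_)⟩
  rw [fam_totπ, hx]
  dsimp only
  split_ifs with h
  · exact hu i j
  · rw [map_zero, fam_mem hT _ _ n y i j h]

include hposR hposS hposT hmR hmS hmT in
theorem mem_gam_of_totπ (n : ℕ) (x : (AT hT EM EN n).carrier) (h : totπ hT mR mS EM EN n x = 0) :
    x ∈ gam mT.toIdeal (AT hT EM EN n).carrier := by
  classical
  choose K hK using fun i j => mem_gam_of_segMap_qgam hT hposR hposS hposT hmR hmS hmT (EM.X i) (EN.X j)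
    (v := fam hT _ _ n x i j) (by
      show cellπ hT mR mS EM EN i j _ = 0
      rw [← fam_totπ, h, map_zero]
      rfl)
  refine ⟨(Finset.HasAntidiagonal.antidiagonal n).sup fun p => K p.1 p.2, fun r hr =>
    fam_injective hT _ _ _ (funext fun i => funext fun j => ?_)⟩
  rw [map_smul, map_zero, Pi.smul_apply, Pi.smul_apply]
  by_cases hij : i + j = n
  · exact hK i j r (Ideal.pow_le_pow_right
      (Finset.le_sup (f := fun p : ℕ × ℕ => K p.1 p.2) (b := (i, j))
        (Finset.HasAntidiagonal.mem_antidiagonal.2 hij)) hr)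
  · rw [fam_mem hT _ _ n x i j hij, smul_zero]
    rfl

theorem totε_injective : Function.Injective (totε hT EM EN) := by
  intro v w h
  have h' := congrFun (congrFun (congrArg (fam hT _ _ 0) h) 0) 0
  exact segMap_injective Mg Ng hT EM.ε_grHom EN.ε_grHom EM.ε_injective EN.ε_injective h'

theorem dAT_totε (v : (segG Mg Ng hT).carrier) : dAT hT EM EN 0 (totε hT EM EN v) = 0 := by
  refine fam_injective hT _ _ _ ?_
  rw [fam_totD, map_zero]
  funext i j
  have h0 : ∀ i j, i + j ≠ 0 → fam hT _ _ 0 (totε hT EM EN v) i j = 0 := fun i j h => fam_mem hT _ _ 0 _ i j h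
  rcases i with _ | i <;> rcases j with _ | j
  · exact dbl_zero_zero _ _ _
  · rw [dbl_zero_succ]
    rcases j with _ | j
    · rw [fam_totε_zero, segV, LinearMap.smul_apply, pow_zero, one_smul]
      refine val_injective _ _ hT ?_
      rw [val_segMap, val_segMap, ← LinearMap.comp_apply, ← TensorProduct.map_comp,
        show linK (EN.d 0) ∘ₗ linK EN.ε = 0 from LinearMap.ext (GrMod19.d_comp_ε EN),
        TensorProduct.map_zero_right]
      rfl
    · rw [h0 0 (j + 1) (by omega), map_zero]; rfl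
  · rw [dbl_succ_zero]
    rcases i with _ | i
    · rw [fam_totε_zero, segH]
      refine val_injective _ _ hT ?_
      rw [val_segMap, val_segMap, ← LinearMap.comp_apply, ← TensorProduct.map_comp,
        show linK (EM.d 0) ∘ₗ linK EM.ε = 0 from LinearMap.ext (GrMod19.d_comp_ε EM),
        TensorProduct.map_zero_left]
      rfl
    · rw [h0 (i + 1) 0 (by omega), map_zero]; rfl
  · rw [dbl_succ_succ, h0 i (j + 1) (by omega), h0 (i + 1) j (by omega), map_zero, map_zero, add_zero]; rfl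

theorem dAT_exact_succ (n : ℕ) (y : (AT hT EM EN (n + 1)).carrier) (hy : dAT hT EM EN (n + 1) y = 0) :
    ∃ z, dAT hT EM EN n z = y := by
  refine exists_of_homog _ _ (totD_gr hT EM.X EN.X EM.d EN.d EM.d_grHom EN.d_grHom (n + 1)) (fun d x hx hD => ?_) hy
  obtain ⟨z, -, hz⟩ := exists_bdy_of_cls hT EM.X EN.X EM.d EN.d EM.d_grHom EN.d_grHom
    (fun i x => GrMod19.d_comp_d EM i x) (fun j x => GrMod19.d_comp_d EN j x) hx hD (funext fun ⟨⟨i, j⟩, hp⟩ => by
      have hij : i + j = n + 1 := Finset.HasAntidiagonal.mem_antidiagonal.1 hp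
      have : Subsingleton (Coh (fun i => pmap (EM.d i) (EM.d_grHom i) d) i ⊗[k]
          Coh (fun j => pmap (EN.d j) (EN.d_grHom j) d) j) := by
        refine tmul_subsingleton ?_
        rcases i with _ | i
        · obtain rfl : j = n + 1 := by omega
          exact Or.inr (subsingleton_coh_res EN d n)
        · exact Or.inl (subsingleton_coh_res EM d i)
      exact Subsingleton.elim _ _)
  exact ⟨z, hz⟩

theorem idx_zero_eq (p : Idx 0) : p = ⟨(0, 0), by simp⟩ := by
  obtain ⟨⟨i, j⟩, hp⟩ := p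
  have hij : i + j = 0 := Finset.HasAntidiagonal.mem_antidiagonal.1 hp
  obtain ⟨rfl, rfl⟩ : i = 0 ∧ j = 0 := by omega
  rfl

theorem locMap_segMap_eps (v : (segG Mg Ng hT).carrier) (d : ℤ) :
    locMap hT (EM.X 0) (EN.X 0) d (fam hT EM.X EN.X 0 (totε hT EM EN v) 0 0) =
      TensorProduct.map (pmap EM.ε EM.ε_grHom d) (pmap EN.ε EN.ε_grHom d) (locMap hT Mg Ng d v) := by
  rw [fam_totε_zero, locMap_segMap]

theorem cproj_pmap_eps {X : GMod.{u} 𝒜} (E : StarInjRes 𝒜 X.gr) (d : ℤ) :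
    cproj (fun i => pmap (E.d i) (E.d_grHom i) d) (fun i x => Subtype.ext (GrMod19.d_comp_d E i x.1)) 0 ∘ₗ
      pmap E.ε E.ε_grHom d = augCoh E d := by
  refine LinearMap.ext fun m => ?_
  have h : pmap E.ε E.ε_grHom d m ∈ LinearMap.ker (pmap (E.d 0) (E.d_grHom 0) d) :=
    LinearMap.mem_ker.2 (Subtype.ext (GrMod19.d_comp_ε E m.1))
  rw [LinearMap.comp_apply]
  exact cproj_eq_mk (fun i => pmap (E.d i) (E.d_grHom i) d) (fun i x => Subtype.ext (GrMod19.d_comp_d E i x.1)) 0
    ⟨_, h⟩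

theorem cls_totε (v : (segG Mg Ng hT).carrier) (d : ℤ) (p : Idx 0) :
    cls hT EM.X EN.X EM.d EN.d EM.d_grHom EN.d_grHom (fun i x => GrMod19.d_comp_d EM i x)
      (fun j x => GrMod19.d_comp_d EN j x) 0 d (totε hT EM EN v) p =
    TensorProduct.map (cproj (fun i => pmap (EM.d i) (EM.d_grHom i) d) (fun i x => Subtype.ext (GrMod19.d_comp_d EM i x.1)) p.1.1)
        (cproj (fun j => pmap (EN.d j) (EN.d_grHom j) d) (fun j x => Subtype.ext (GrMod19.d_comp_d EN j x.1)) p.1.2)
        (locMap hT (EM.X p.1.1) (EN.X p.1.2) d (fam hT EM.X EN.X 0 (totε hT EM EN v) p.1.1 p.1.2)) :=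
  cls_apply hT EM.X EN.X EM.d EN.d EM.d_grHom EN.d_grHom _ _ 0 d _ p

theorem cls_totε_zero (v : (segG Mg Ng hT).carrier) (d : ℤ)
    (hp : ((0, 0) : ℕ × ℕ) ∈ Finset.HasAntidiagonal.antidiagonal 0) :
    cls hT EM.X EN.X EM.d EN.d EM.d_grHom EN.d_grHom (fun i x => GrMod19.d_comp_d EM i x)
      (fun j x => GrMod19.d_comp_d EN j x) 0 d (totε hT EM EN v) ⟨(0, 0), hp⟩ =
    TensorProduct.map (augCoh EM d) (augCoh EN d) (locMap hT Mg Ng d v) := by
  refine (cls_totε hT EM EN v d ⟨(0, 0), hp⟩).trans ?_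
  rw [← cproj_pmap_eps EM d, ← cproj_pmap_eps EN d]
  exact (congrArg _ (locMap_segMap_eps hT EM EN v d)).trans (map_map_apply _ _ _ _ _)

theorem dAT_exact_zero (y : (AT hT EM EN 0).carrier) (hy : dAT hT EM EN 0 y = 0) :
    ∃ v, totε hT EM EN v = y := by
  refine exists_of_homog _ _ (totD_gr hT EM.X EN.X EM.d EN.d EM.d_grHom EN.d_grHom 0) (fun d x hx hD => ?_) hy
  have hp : ((0, 0) : ℕ × ℕ) ∈ Finset.HasAntidiagonal.antidiagonal 0 := by simp
  obtain ⟨u, hu⟩ := TensorProduct.map_surjective (augCoh_surjective EM d) (augCoh_surjective EN d)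
    (cls hT EM.X EN.X EM.d EN.d EM.d_grHom EN.d_grHom (fun i x => GrMod19.d_comp_d EM i x)
      (fun j x => GrMod19.d_comp_d EN j x) 0 d x ⟨(0, 0), hp⟩)
  obtain ⟨v, hv, hvu⟩ := exists_locMap_eq hT Mg Ng d u
  have h1 : cls hT EM.X EN.X EM.d EN.d EM.d_grHom EN.d_grHom (fun i x => GrMod19.d_comp_d EM i x)
      (fun j x => GrMod19.d_comp_d EN j x) 0 d (totε hT EM EN v) ⟨(0, 0), hp⟩ =
      TensorProduct.map (augCoh EM d) (augCoh EN d) u :=
    (cls_totε_zero hT EM EN v d hp).trans (congrArg _ hvu)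
  have hcyc : dAT hT EM EN 0 (x - totε hT EM EN v) = 0 := by
    rw [map_sub, hD, dAT_totε, sub_zero]
  refine ⟨v, ?_⟩
  have h2 := eq_zero_of_cls hT EM.X EN.X EM.d EN.d EM.d_grHom EN.d_grHom
    (fun i x => GrMod19.d_comp_d EM i x) (fun j x => GrMod19.d_comp_d EN j x)
    (sub_mem hx (totε_gr hT EM EN d v hv)) hcyc ((map_sub _ x (totε hT EM EN v)).trans (sub_eq_zero.2 (funext fun p => by
      obtain rfl := idx_zero_eq p
      exact (h1.trans hu).symm)))
  exact (sub_eq_zero.1 h2).symm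

theorem allVan_pi {ι : Type} (s : Finset ι) (J : Ideal T) (F : ι → Type u) [∀ p, AddCommGroup (F p)]
    [∀ p, Module T (F p)] (h : ∀ p ∈ s, AllVan J (F p)) : AllVan J (∀ p : s, F p.1) := by
  classical
  induction s using Finset.induction with
  | empty => exact allVan_of_subsingleton _ _
  | @insert a s ha ih =>
    let f : (∀ p : s, F p.1) →ₗ[T] ∀ p : (insert a s : Finset ι), F p.1 :=
      LinearMap.pi fun p => if hp : p.1 ∈ s then LinearMap.proj (⟨p.1, hp⟩ : s) else 0
    let g : (∀ p : (insert a s : Finset ι), F p.1) →ₗ[T] F a :=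
      LinearMap.proj (⟨a, Finset.mem_insert_self a s⟩ : (insert a s : Finset ι))
    have hf : ∀ x (q : s), f x ⟨q.1, Finset.mem_insert_of_mem q.2⟩ = x q := fun x q => by simp [f]
    refine fun i => LC15.subsingleton_H_middle J i (f := f) (g := g) (fun x y h => funext fun q => ?_)
      (fun y => ⟨fun hy => ?_, ?_⟩) (fun z => ⟨Pi.single ⟨a, Finset.mem_insert_self a s⟩ z, by simp [g]⟩)
      (ih (fun p hp => h p (Finset.mem_insert_of_mem hp)) i) (h a (Finset.mem_insert_self a s) i)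
    · rw [← hf x q, ← hf y q, h]
    · refine ⟨fun q => y ⟨q.1, Finset.mem_insert_of_mem q.2⟩, funext fun ⟨p, hp⟩ => ?_⟩
      rcases Finset.mem_insert.1 hp with rfl | hp'
      · simpa [f, g, ha] using hy.symm
      · simp [f, hp']
    · rintro ⟨x, rfl⟩
      simp [f, g, ha]

include hposR hposS hmR hmS hmT in
theorem allVan_BT (n : ℕ) : AllVan mT.toIdeal (BT hT mR mS EM EN n).carrier := by
  classical
  let F : ℕ × ℕ → Type u := fun p => cell hT (fun i => quotGam (EM.X i) mR) (fun j => quotGam (EN.X j) mS) p.1 p.2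
  let f : (BT hT mR mS EM EN n).carrier →ₗ[T] ∀ p : (Finset.HasAntidiagonal.antidiagonal n : Finset (ℕ × ℕ)), F p.1 :=
    LinearMap.pi fun p => LinearMap.proj p.1.2 ∘ₗ LinearMap.proj p.1.1 ∘ₗ fam hT _ _ n
  have hf : Function.Bijective f := by
    refine ⟨fun x y h => fam_injective hT _ _ n (funext fun i => funext fun j => ?_), fun z => ?_⟩
    · by_cases hij : i + j = n
      · exact congrFun h ⟨(i, j), Finset.HasAntidiagonal.mem_antidiagonal.2 hij⟩
      · rw [fam_mem hT _ _ n x i j hij, fam_mem hT _ _ n y i j hij]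
    · let G : ∀ i j, cell hT (fun i => quotGam (EM.X i) mR) (fun j => quotGam (EN.X j) mS) i j := fun i j =>
        if h : i + j = n then z ⟨(i, j), Finset.HasAntidiagonal.mem_antidiagonal.2 h⟩ else 0
      obtain ⟨x, hx⟩ := exists_fam_eq hT _ _ (n := n) (F := G) fun i j h => dif_neg h
      refine ⟨x, funext fun ⟨⟨i, j⟩, hp⟩ => ?_⟩
      show fam hT _ _ n x i j = _
      rw [hx]
      exact dif_pos (Finset.HasAntidiagonal.mem_antidiagonal.1 hp)
  intro i
  have := allVan_pi (T := T) (Finset.HasAntidiagonal.antidiagonal n : Finset (ℕ × ℕ)) mT.toIdeal F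
    (fun p _ => allVan_segG_quot_gam hT hposR hposS hmR hmS hmT _ (EM.starInj p.1) _ (EN.starInj p.2)) i
  exact (LC15.Hequiv mT.toIdeal i (LinearEquiv.ofBijective f hf)).toEquiv.subsingleton

/-- the punctured-spectrum data of a Segre product -/
@[reducible]
noncomputable def punct₂ : Punct mT (segG Mg Ng hT) where
  A := AT hT EM EN
  B := BT hT mR mS EM EN
  dA := dAT hT EM EN
  dB := dBT hT mR mS EM EN
  π := totπ hT mR mS EM EN
  ε := totε hT EM EN
  dB_gr := totD_gr hT _ _ _ _ _ _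
  π_gr n := fun d x hx i j => segMap_gr (EM.X i) (EN.X j) hT (qgam mR _) (qgam mS _) (qgam_gr mR _) (qgam_gr mS _) d _
    (hx i j)
  ε_gr := totε_gr hT EM EN
  dB_dB n y := totD_totD hT _ _ _ _ _ _ (fun i x => qmap_qmap mR _ _ (fun z => GrMod19.d_comp_d EM i z) x)
    (fun j x => qmap_qmap mS _ _ (fun z => GrMod19.d_comp_d EN j z) x) n y
  comm := comm_totπ hT EM EN
  π_surj := totπ_surjective hT EM EN
  π_ker := mem_gam_of_totπ hT hposR hposS hposT hmR hmS hmT EM EN
  ε_inj := totε_injective hT EM EN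
  dA_ε := dAT_totε hT EM EN
  exact_zero := dAT_exact_zero hT EM EN
  exact_succ := dAT_exact_succ hT EM EN
  allVan := allVan_BT hT hposR hposS hmR hmS hmT EM EN

end Data

end Groth.Agent.GrSeg54
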