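import Groth.Agent.GrSeg54.Gor
import Groth.Agent.CAlg6.SegStd
import Groth.Agent.S18640
import Mathlib.LinearAlgebra.TensorProduct.Quotient

/-!
The type of a Segre product of Gorenstein algebras.
-/

set_option autoImplicit false
set_option maxHeartbeats 400000

universe u

open scoped TensorProduct
open DirectSum GrLC

namespace Groth.Agent.GrSeg54

open Groth.Agent.CAlg6

variable {k : Type u} [Field k]

section Std

variable {R : Type u} [CommRing R] [Algebra k R] {𝒜 : ℤ → Submodule k R} [GradedAlgebra 𝒜]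

theorem std_mul (hstd : Ideal.span (⋃ n ∈ Set.Ioi (0 : ℤ), (𝒜 n : Set R)) = Ideal.span ((𝒜 1 : Submodule k R) : Set R))
    {i : ℤ} (hi : 0 ≤ i) (j : ℕ) {x : R} (hx : x ∈ 𝒜 ((j : ℤ) + i)) : x ∈ 𝒜 (j : ℤ) * 𝒜 i := by
  induction j generalizing x with
  | zero =>
    rw [Nat.cast_zero, zero_add] at hx
    rw [Nat.cast_zero, ← one_mul x]
    exact Submodule.mul_mem_mul SetLike.GradedOne.one_mem hx
  | succ j ih =>
    have hx' : x ∈ 𝒜 1 * 𝒜 ((j : ℤ) + i) :=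
      Seg.std_mem hstd (n := (j : ℤ) + i) (by omega) (by rwa [show (j : ℤ) + i + 1 = ((j + 1 : ℕ) : ℤ) + i by push_cast; ring])
    have h1 : 𝒜 1 * (𝒜 (j : ℤ) * 𝒜 i) ≤ 𝒜 ((j + 1 : ℕ) : ℤ) * 𝒜 i := by
      rw [← mul_assoc]
      refine mul_le_mul_left (Submodule.mul_le.2 fun a ha b hb => ?_) _
      rw [show ((j + 1 : ℕ) : ℤ) = 1 + (j : ℤ) by push_cast; ring]
      exact SetLike.mul_mem_graded ha hb
    exact h1 (Submodule.mul_le.2 (fun a ha b hb => Submodule.mul_mem_mul ha (ih hb)) hx')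

end Std

section SegMod

variable {R S T : Type u} [CommRing R] [CommRing S] [CommRing T]
  [Algebra k R] [Algebra k S] [Algebra k T]
  {𝒜 : ℤ → Submodule k R} [GradedAlgebra 𝒜] {ℬ : ℤ → Submodule k S} [GradedAlgebra ℬ]
  {𝒯 : ℤ → Submodule k T} [GradedAlgebra 𝒯] {ψ : T →ₐ[k] R ⊗[k] S}
  {M N : Type u} [AddCommGroup M] [Module R M] [Module k M] [IsScalarTower k R M]
  [AddCommGroup N] [Module S N] [Module k N] [IsScalarTower k S N]
  (ℳ : ℤ → AddSubgroup M) [Decomposition ℳ] [SetLike.GradedSMul 𝒜 ℳ]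
  (𝒩 : ℤ → AddSubgroup N) [Decomposition 𝒩] [SetLike.GradedSMul ℬ 𝒩]

/-- Segre products of modules exist -/
theorem exists_segMod (hT : GrSeg.IsSegreRing 𝒜 ℬ 𝒯 ψ) :
    ∃ (P : GMod.{u} 𝒯) (φ : P.carrier →ₗ[k] M ⊗[k] N), GrSeg.IsSegreMod ψ ℳ 𝒩 P.gr φ := by
  let E := TensorProduct.congr (idK 𝒜 ℳ) (idK ℬ 𝒩)
  refine ⟨segG (gN 𝒜 ℳ) (gN ℬ 𝒩) hT, E.symm.toLinearMap ∘ₗ val (gN 𝒜 ℳ) (gN ℬ 𝒩) hT,
    E.symm.injective.comp (val_injective _ _ hT), fun n => Set.ext fun u => ⟨?_, fun hu => ?_⟩, fun t p => ?_⟩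
  · rintro ⟨v, hv, rfl⟩
    refine (mem_segrePiece_congr_iff (𝒜 := 𝒜) (ℬ := ℬ) n _).1 ?_
    rw [LinearMap.comp_apply, LinearEquiv.coe_coe, E.apply_symm_apply]
    exact hv
  · obtain ⟨v, hv, hvu⟩ := exists_val_piece (gN 𝒜 ℳ) (gN ℬ 𝒩) hT
      ((mem_segrePiece_congr_iff (𝒜 := 𝒜) (ℬ := ℬ) n u).2 hu)
    exact ⟨v, hv, (congrArg E.symm hvu).trans (E.symm_apply_apply u)⟩
  · refine E.injective ?_
    rw [act_tmul_congr, LinearMap.comp_apply, LinearMap.comp_apply, LinearEquiv.coe_coe, E.apply_symm_apply,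
      E.apply_symm_apply]
    rfl

end SegMod

section Generators

variable {T : Type u} [CommRing T] [Algebra k T] {𝒯 : ℤ → Submodule k T} [GradedAlgebra 𝒯] [Nontrivial T]
  {C : Type u} [AddCommGroup C] [Module T C] [Module k C] [IsScalarTower k T C]
  (𝒞 : ℤ → AddSubgroup C) [Decomposition 𝒞] [SetLike.GradedSMul 𝒯 𝒞]

theorem algebraMap_quot_bijective (hpos : ∀ n : ℤ, n < 0 → 𝒯 n = ⊥) (h0 : 𝒯 0 = Submodule.span k {(1 : T)})
    {m : HomogeneousIdeal 𝒯} (hm : GrMod19.IsPlus m) : Function.Bijective (algebraMap k (T ⧸ m.toIdeal)) := by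
  have := isMaximal_plus hpos h0 hm
  haveI : Nontrivial (T ⧸ m.toIdeal) := Ideal.Quotient.nontrivial_iff.2 this.ne_top
  refine ⟨(algebraMap k (T ⧸ m.toIdeal)).injective, fun y => ?_⟩
  obtain ⟨x, rfl⟩ := Ideal.Quotient.mk_surjective y
  obtain ⟨c, hc⟩ := exists_algebraMap_eq h0 (GrMod19.cmp_mem 𝒯 0 x)
  refine ⟨c, (Ideal.Quotient.eq (x := algebraMap k T c)).2 ?_⟩
  rw [GrMod19.mem_plus_iff (nonnegGr_of_bot hpos) hm, map_sub, hc,
    GrMod19.cmp_of_mem 𝒯 (GrMod19.cmp_mem 𝒯 0 x), sub_self]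

/-- a module generated by its lowest piece -/
theorem finrank_tensor_quot (hpos : ∀ n : ℤ, n < 0 → 𝒯 n = ⊥) (h0 : 𝒯 0 = Submodule.span k {(1 : T)})
    {m : HomogeneousIdeal 𝒯} (hm : GrMod19.IsPlus m) (l : ℤ) (hlow : ∀ n, n < l → ∀ x ∈ 𝒞 n, x = 0)
    (hgen : ∀ n, l < n → ∀ x ∈ 𝒞 n, x ∈ m.toIdeal • (⊤ : Submodule T C)) :
    Module.finrank (T ⧸ m.toIdeal) ((T ⧸ m.toIdeal) ⊗[T] C) = Module.finrank k (kPc 𝒯 𝒞 l) := by
  classical
  let π : C →ₗ[k] kPc 𝒯 𝒞 l := (Seg.prj 𝒯 𝒞 l).codRestrict _ fun x => Seg.prj_mem 𝒯 𝒞 l x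
  let Q : Submodule T C := m.toIdeal • ⊤
  have hker : LinearMap.ker π = Q.restrictScalars k := by
    refine le_antisymm (fun x hx => ?_) fun x hx => ?_
    · have hx0 : Seg.prj 𝒯 𝒞 l x = 0 := congrArg Subtype.val (LinearMap.mem_ker.1 hx)
      obtain ⟨t, ht⟩ := Seg.eq_of_prj 𝒯 𝒞 x
      rw [ht]
      refine Submodule.sum_mem _ fun n _ => ?_
      rcases lt_trichotomy n l with h | rfl | h
      · rw [hlow n h _ (Seg.prj_mem 𝒯 𝒞 n x)]; exact zero_mem _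
      · rw [hx0]; exact zero_mem _
      · exact hgen n h _ (Seg.prj_mem 𝒯 𝒞 n x)
    · refine LinearMap.mem_ker.2 (Subtype.ext ?_)
      show Seg.prj 𝒯 𝒞 l x = 0
      have hx' : x ∈ m.toIdeal • (⊤ : Submodule T C) := hx
      refine Submodule.smul_induction_on hx' (fun r hr c _ => ?_) fun a b ha hb => by rw [map_add, ha, hb, add_zero]
      rw [hm] at hr
      induction hr using Submodule.span_induction generalizing c with
      | mem a ha =>
        obtain ⟨j, hj, ha⟩ := Set.mem_iUnion₂.1 ha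
        show GrMod19.cmp 𝒞 l (a • c) = 0
        rw [GrMod19.cmp_smul_homog_left 𝒯 𝒞 l (show a ∈ 𝒯 j from ha)]
        rw [hlow (l - j) (by have := Set.mem_Ioi.1 hj; omega) _ (GrMod19.cmp_mem 𝒞 _ c), smul_zero]
      | zero => rw [zero_smul, map_zero]
      | add a b _ _ ha hb => rw [add_smul, map_add, ha c trivial, hb c trivial, add_zero]
      | smul a b _ hb => rw [smul_eq_mul, mul_comm, mul_smul]; exact hb _ trivial
  have hπ : Function.Surjective π := fun x => ⟨x.1, Subtype.ext (Seg.prj_of_mem 𝒯 𝒞 x.2)⟩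
  let e₁ : (C ⧸ Q) ≃ₗ[k] kPc 𝒯 𝒞 l :=
    ((Submodule.Quotient.restrictScalarsEquiv k Q).symm.trans
      (Submodule.quotEquivOfEq _ _ hker.symm)).trans (π.quotKerEquivOfSurjective hπ)
  let e₂ := (TensorProduct.quotTensorEquivQuotSMul C m.toIdeal).restrictScalars k
  have h := rank_eq_of_equiv_equiv (M := (T ⧸ m.toIdeal) ⊗[T] C) (M₁ := (T ⧸ m.toIdeal) ⊗[T] C)
    (algebraMap k (T ⧸ m.toIdeal)) (AddEquiv.refl _) (algebraMap_quot_bijective hpos h0 hm) fun r x => by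
      show r • x = algebraMap k (T ⧸ m.toIdeal) r • x
      rw [algebraMap_smul]
  rw [← (e₂.trans e₁).finrank_eq]
  exact (congrArg Cardinal.toNat h).symm

end Generators

section Main

variable {R S T : Type u} [CommRing R] [CommRing S] [CommRing T]
  [Algebra k R] [Algebra k S] [Algebra k T] [Algebra.FiniteType k R] [Algebra.FiniteType k S]
  {𝒜 : ℤ → Submodule k R} [GradedAlgebra 𝒜] {ℬ : ℤ → Submodule k S} [GradedAlgebra ℬ]
  {𝒯 : ℤ → Submodule k T} [GradedAlgebra 𝒯] {ψ : T →ₐ[k] R ⊗[k] S}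
  {P : Type u} [AddCommGroup P] [Module T P] [Module k P] [IsScalarTower k T P]
  {𝒬 : ℤ → AddSubgroup P} [Decomposition 𝒬] [SetLike.GradedSMul 𝒯 𝒬] {φ : P →ₗ[k] R ⊗[k] S}

omit [Algebra.FiniteType k R] [Algebra.FiniteType k S] in
theorem low_eq_zero {a b : ℤ} (hposS : ∀ n : ℤ, n < 0 → ℬ n = ⊥)
    (hP : GrSeg.IsSegreMod ψ (shR 𝒜 a) (shR ℬ b) 𝒬 φ) {n : ℤ} (hn : n < -b) {x : P} (hx : x ∈ 𝒬 n) : x = 0 := by
  refine hP.injective ?_
  rw [map_zero]
  have h : GrSeg.segrePiece k (shR 𝒜 a) (shR ℬ b) n ≤ ⊥ := Submodule.span_le.2 (by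
    rintro _ ⟨u, -, v, hv, rfl⟩
    have hv0 : v ∈ ℬ (n + b) := hv
    rw [hposS _ (by omega), Submodule.mem_bot] at hv0
    rw [SetLike.mem_coe, Submodule.mem_bot, hv0, TensorProduct.tmul_zero])
  exact (Submodule.mem_bot k).1 (h (Seg.phi_mem_piece hP hx))

omit [Algebra.FiniteType k R] [Algebra.FiniteType k S] in
theorem mem_plus_smul {a b : ℤ} (hab : b ≤ a) (hT : GrSeg.IsSegreRing 𝒜 ℬ 𝒯 ψ)
    (hstdR : Ideal.span (⋃ n ∈ Set.Ioi (0 : ℤ), (𝒜 n : Set R)) = Ideal.span ((𝒜 1 : Submodule k R) : Set R))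
    (hP : GrSeg.IsSegreMod ψ (shR 𝒜 a) (shR ℬ b) 𝒬 φ) {mT : HomogeneousIdeal 𝒯} (hmT : GrMod19.IsPlus mT)
    {n : ℤ} (hn : -b < n) {x : P} (hx : x ∈ 𝒬 n) : x ∈ mT.toIdeal • (⊤ : Submodule T P) := by
  obtain ⟨j, hj⟩ : ∃ j : ℕ, (j : ℤ) = n + b := ⟨(n + b).toNat, Int.toNat_of_nonneg (by omega)⟩
  let Q : Submodule k P := (mT.toIdeal • (⊤ : Submodule T P)).restrictScalars k
  have hle : GrSeg.segrePiece k (shR 𝒜 a) (shR ℬ b) n ≤ Q.map φ := by
    refine Submodule.span_le.2 ?_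
    rintro _ ⟨u, hu, v, hv, rfl⟩
    have hu' : u ∈ 𝒜 ((j : ℤ) + (a - b)) := by
      rw [hj, show n + b + (a - b) = n + a by ring]; exact hu
    have hv' : v ∈ ℬ (j : ℤ) := by rw [hj]; exact hv
    have key := std_mul hstdR (by omega) j hu'
    clear hu hu'
    induction key using Submodule.mul_induction_on' with
    | add p _ q _ hp hq => rw [TensorProduct.add_tmul]; exact add_mem hp hq
    | mem_mul_mem p hp q hq =>
      obtain ⟨t, ht, htψ⟩ := Seg.exists_psi_eq_tmul hT hp hv'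
      obtain ⟨c, hc, hcφ⟩ := Seg.exists_phi_eq hP (n := -b) (w := q ⊗ₜ[k] (1 : S))
        (Seg.tmul_mem_piece (shR 𝒜 a) (shR ℬ b)
          (show q ∈ 𝒜 (-b + a) by rw [neg_add_eq_sub]; exact hq)
          (show (1 : S) ∈ ℬ (-b + b) by rw [neg_add_cancel]; exact SetLike.GradedOne.one_mem))
      have htm : t ∈ mT.toIdeal := by
        rw [hmT]
        exact Ideal.subset_span (Set.mem_biUnion (Set.mem_Ioi.2 (by omega : (0 : ℤ) < j)) ht)
      have hmem : t • c ∈ mT.toIdeal • (⊤ : Submodule T P) := Submodule.smul_mem_smul htm Submodule.mem_top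
      have himg : φ (t • c) = (p * q) ⊗ₜ[k] v := by
        rw [hP.map_smul, htψ, hcφ, GrSeg.act_tmul, smul_eq_mul, smul_eq_mul, mul_one]
      exact himg ▸ Submodule.mem_map_of_mem (f := φ) (p := Q) hmem
  obtain ⟨y, hy, hyx⟩ := hle (Seg.phi_mem_piece hP hx)
  rw [← hP.injective hyx]
  exact hy

omit [Algebra.FiniteType k R] [Algebra.FiniteType k S] [Decomposition 𝒬] in
theorem finrank_low [Nontrivial S] {a b : ℤ} (h0S : ℬ 0 = Submodule.span k {(1 : S)}) [Decomposition 𝒬]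
    (hP : GrSeg.IsSegreMod ψ (shR 𝒜 a) (shR ℬ b) 𝒬 φ) :
    Module.finrank k (kPc 𝒯 𝒬 (-b)) = Module.finrank k (𝒜 (a - b)) := by
  have hU : ∀ x, x ∈ 𝒜 (a - b) ↔ x ∈ shR 𝒜 a (-b) := fun x => by
    rw [mem_shR, neg_add_eq_sub]
  have hV : ∀ x, x ∈ ℬ 0 ↔ x ∈ shR ℬ b (-b) := fun x => by
    rw [mem_shR, neg_add_cancel]
  have himg : (kPc 𝒯 𝒬 (-b)).map φ =
      LinearMap.range (TensorProduct.map (𝒜 (a - b)).subtype (ℬ 0).subtype) := by
    rw [← segrePiece_eq_range (𝒜 (a - b)) (ℬ 0) hU hV]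
    exact SetLike.coe_injective (hP.image_piece (-b))
  rw [(Submodule.equivMapOfInjective φ hP.injective _).finrank_eq, himg,
    LinearMap.finrank_range_of_inj (TensorProduct.map_injective_of_flat_flat _ _
      (Submodule.injective_subtype _) (Submodule.injective_subtype _)), Module.finrank_tensorProduct]
  have h1 : Module.finrank k (ℬ 0) = 1 := by
    rw [h0S]
    exact finrank_span_singleton one_ne_zero
  rw [h1, mul_one]

/-- the type of a Segre product of Gorenstein algebras -/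
theorem bassNum_segre [LocCoh.IsGorensteinRing R] [LocCoh.IsGorensteinRing S] [LocCoh.IsCohenMacaulayRing T]
    (hT : GrSeg.IsSegreRing 𝒜 ℬ 𝒯 ψ)
    (hposR : ∀ n : ℤ, n < 0 → 𝒜 n = ⊥) (h0R : 𝒜 0 = Submodule.span k {(1 : R)})
    (hposS : ∀ n : ℤ, n < 0 → ℬ n = ⊥) (h0S : ℬ 0 = Submodule.span k {(1 : S)})
    (hstdR : Ideal.span (⋃ n ∈ Set.Ioi (0 : ℤ), (𝒜 n : Set R)) = Ideal.span ((𝒜 1 : Submodule k R) : Set R))
    {mR : HomogeneousIdeal 𝒜} {mS : HomogeneousIdeal ℬ} {mT : HomogeneousIdeal 𝒯} [mT.toIdeal.IsMaximal]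
    (hmR : GrMod19.IsPlus mR) (hmS : GrMod19.IsPlus mS) (hmT : GrMod19.IsPlus mT)
    {r s : ℕ} (hr : ringKrullDim R = r) (hs : ringKrullDim S = s) (h2r : 2 ≤ r) (h2s : 2 ≤ s)
    (I : StarInjRes 𝒜 𝒜) (J : StarInjRes ℬ ℬ) {a b : ℤ}
    (ha : endDeg (I.Hgr mR r) = ((a : WithTop ℤ) : WithBot (WithTop ℤ)))
    (hb : endDeg (J.Hgr mS s) = ((b : WithTop ℤ) : WithBot (WithTop ℤ))) (hab : b ≤ a) :
    bassNum mT.toIdeal T (r + s - 1) = (Module.finrank k (𝒜 (a - b)) : ℕ∞) := by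
  haveI := Algebra.FiniteType.isNoetherianRing k R
  haveI := Algebra.FiniteType.isNoetherianRing k S
  haveI := GrMod19.cm_of_gorenstein R
  haveI := GrMod19.cm_of_gorenstein S
  haveI := isNoetherianRing_segre hT
  haveI := nontrivial_of_dim hr
  haveI := nontrivial_of_dim hs
  haveI := nontrivial_segre ψ
  obtain ⟨a', βR, hR, ha'⟩ := exists_kPair_gor hposR h0R hmR hr I
  obtain ⟨b', βS, hS, hb'⟩ := exists_kPair_gor hposS h0S hmS hs J
  rw [ha', WithBot.coe_inj, WithTop.coe_inj] at ha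
  rw [hb', WithBot.coe_inj, WithTop.coe_inj] at hb
  subst ha hb
  obtain ⟨P, φ, hP⟩ := exists_segMod (shR 𝒜 a') (shR ℬ b') hT
  haveI : Module.Finite T P.carrier := by
    have := Seg.isNoetherian_segre hT hP
    infer_instance
  obtain ⟨IT⟩ := GrInj18.nonempty_starInjRes 𝒯 𝒯
  have hposT := segre_nonneg hT hposR
  have h0T := segre_zero hT h0R h0S
  obtain ⟨β, hβ⟩ := exists_kPair_ring hT hposR h0R hposS h0S hmR hmS hmT hr hs h2r h2s I J IT hR hS hP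
  obtain ⟨X, e, he⟩ := GrInj18.exists_isStarInjHull 𝒯 (quotGr 𝒯 mT)
  have hC := canonical_of_kPair hposT h0T hmT he IT _ hβ
  haveI : (GrMod19.regIdeal mT).toIdeal.IsMaximal := ‹mT.toIdeal.IsMaximal›
  have h := (S18640.result T (GrMod19.reg 𝒯) (reg_neg hposT) (isField_deg0R h0T) (GrMod19.regIdeal mT)
    (GrMod19.isStarLocal_regIdeal (isStarLocal_of_plus hposT h0T hmT)) hmT (r + s - 1)
    (ringKrullDim_segre hT hposR h0R hposS h0S hr hs (by omega) (by omega)) (GrMod19.regRes IT)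
    X.carrier X.gr e (GrMod19.isStarInjHull_reg he) P.carrier P.gr (GrMod19.isStarCanonical_reg hC)).2
  refine h.trans (congrArg (fun n : ℕ => (n : ℕ∞)) ?_)
  rw [← finrank_low (𝒯 := 𝒯) h0S hP]
  exact finrank_tensor_quot P.gr hposT h0T hmT (-b') (fun n hn x hx => low_eq_zero hposS hP hn hx)
    fun n hn x hx => mem_plus_smul hab hT hstdR hP hmT hn hx

end Main

end Groth.Agent.GrSeg54
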